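import Mathlib
import Cfsg.Agent.Mrg.Omega.NO1.Beta.Rep
import Cfsg.Agent.Mrg.Omega.NO1.Beta.Meet

section


/-!
# THEOREM UNI (bb #13466, blueprints/OMEGA-UNI-helper495.md), section 0: the input

`k ⊆ F` finite fields of characteristic 2, `|F| = |k|²`, `|k| ≥ 4`; `M` a finite `k`-space with a
nondegenerate alternating form `f`; `H` a group of isometries.  `y : M → Φ` is used only on
`P = ker B` (a linear extension of the map of the blueprint; `LinearMap.exists_extend`).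
-/

set_option autoImplicit false

namespace Cfsg.Agent.Omega.NOne.SU

/-- the quadratic extension: `sg` is the involution, `tr` the trace, `nm` the norm. -/
structure Quad (k F : Type*) [Field k] [Field F] [Algebra k F] where
  sg : F ≃ₐ[k] F
  tr : F →ₗ[k] k
  nm : F → k
  sg_sg : ∀ x, sg (sg x) = x
  fix : ∀ x, sg x = x → ∃ a : k, algebraMap k F a = x
  tr_eq : ∀ x, algebraMap k F (tr x) = x + sg x
  nm_eq : ∀ x, algebraMap k F (nm x) = x * sg x
  card : Nat.card F = Nat.card k ^ 2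
  four : 4 ≤ Nat.card k

/-- **The input of THEOREM UNI.** -/
structure Uni (k F M Φ : Type*) [Field k] [Field F] [Algebra k F] [AddCommGroup M] [Module k M]
    [AddCommGroup Φ] [Module k Φ] [Module F Φ] extends Quad k F where
  /-- the alternating form -/
  f : M →ₗ[k] M →ₗ[k] k
  alt : ∀ m, f m m = 0
  nondeg : ∀ m, (∀ m', f m m' = 0) → m = 0
  /-- the group -/
  H : Subgroup (M ≃ₗ[k] M)
  isom : ∀ g ∈ H, ∀ m m', f (g m) (g m') = f m m'
  /-- the hermitian form on `Φ` -/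
  hm : Φ → Φ → F
  hm_add : ∀ x x' u, hm (x + x') u = hm x u + hm x' u
  hm_smul : ∀ (s : F) x u, hm (s • x) u = s * hm x u
  hm_sym : ∀ x u, hm u x = sg (hm x u)
  hm_nondeg : ∀ x, (∀ u, hm x u = 0) → x = 0
  /-- `e = range ε`, `P = ker B = e^⊥` -/
  ε : F →ₗ[k] M
  ε_inj : Function.Injective ε
  B : M →ₗ[k] F
  fe : ∀ c m, f (ε c) m = tr (c * sg (B m))
  /-- `P/e = Φ` -/
  y : M →ₗ[k] Φ
  y_surj : ∀ x, ∃ m, B m = 0 ∧ y m = x
  y_ker : ∀ m, B m = 0 → (y m = 0 ↔ ∃ c, m = ε c)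
  fy : ∀ m m', B m = 0 → B m' = 0 → f m m' = tr (hm (y m) (y m'))
  /-- the unipotent radical of the stabiliser of `e` -/
  J : Subgroup (M ≃ₗ[k] M)
  J_le : J ≤ H
  χ : (M ≃ₗ[k] M) → Φ
  Je : ∀ j ∈ J, ∀ c, j (ε c) = ε c
  JP : ∀ j ∈ J, ∀ m, B m = 0 → j m = m + ε (hm (y m) (χ j))
  JM : ∀ j ∈ J, ∀ m, B (j m - m) = 0 ∧ y (j m - m) = B m • χ j
  JA : ∀ j ∈ J, χ j = 0 → ∃ a : k, ∀ m, j m = m + ε (a • B m)
  Jall : ∀ x, ∃ j ∈ J, χ j = x
  Jn : ∀ a : k, ∃ j ∈ J, ∀ m, j m = m + ε (a • B m)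
  Jmax : ∀ g ∈ H, (∀ c, g (ε c) = ε c) → (∀ m, B m = 0 → ∃ c, g m - m = ε c) →
    (∀ m, B (g m - m) = 0) → g ∈ J
  /-- an elementary abelian 2-subgroup of the stabiliser of `e` acts on `e` as a group of
  order `≤ 2` -/
  Se : ∀ g ∈ H, ∀ g' ∈ H, g * g' = g' * g → g * g = 1 → g' * g' = 1 →
    (∀ c, ∃ c', g (ε c) = ε c') → (∀ c, ∃ c', g' (ε c) = ε c') →
    (∀ c, g (ε c) = ε c) ∨ (∀ c, g' (ε c) = ε c) ∨ (∀ c, g (g' (ε c)) = ε c)
  /-- the torus -/
  t : Fˣ →* (M ≃ₗ[k] M)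
  tH : ∀ z, ∀ g ∈ H, t z * g * (t z)⁻¹ ∈ H
  te : ∀ (z : Fˣ) c, t z (ε c) = ε ((z : F) * (sg z)⁻¹ * c)
  tB : ∀ (z : Fˣ) m, B (t z m) = (z : F) ^ 2 * B m
  ty : ∀ (z : Fˣ) m, B m = 0 → y (t z m) = (z : F) • y m
  tf : ∀ (z : Fˣ) m m', f (t z m) (t z m') = nm z * f m m'
  /-- the conjugates of `e` span `M` -/
  Om : ∀ N : Submodule k M, (∀ g ∈ H, ∀ c, g (ε c) ∈ N) → N = ⊤

end Cfsg.Agent.Omega.NOne.SU

end

section


/-!
# THEOREM UNI, group part: the `k`-structure of `W = Q/R`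

* `Scal f` : every scalar of `k` acts on `W` through the nondegenerate biadditive form `f : W → W → k`.
* `Scal.module` : the resulting `k`-module structure.
* `Quo` : the quotient `W = Q/R` of a group `Q` with `[Q,Q] ≤ R ≤ Z(Q)`, and the commutator form.
-/

set_option autoImplicit false

namespace Cfsg.Agent.Omega.NOne.SU

/-! ### scalars from a form -/

section scal

variable {k W : Type*} [Field k] [AddCommGroup W]

/-- `f` is biadditive, alternating, nondegenerate, and every scalar acts on `W`. -/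
structure Scal (f : W → W → k) : Prop where
  add_left : ∀ x x' y, f (x + x') y = f x y + f x' y
  add_right : ∀ x y y', f x (y + y') = f x y + f x y'
  alt : ∀ x, f x x = 0
  symm : ∀ x y, f x y = f y x
  nondeg : ∀ x, (∀ y, f x y = 0) → x = 0
  ex : ∀ (a : k) x, ∃ x', ∀ y, f x' y = a * f x y

namespace Scal

variable {f : W → W → k} (h : Scal f)
include h

theorem zero_left (y : W) : f 0 y = 0 := by
  have := h.add_left 0 0 y
  rw [add_zero] at this
  simpa using this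

theorem sub_left (x x' y : W) : f (x - x') y = f x y - f x' y := by
  have := h.add_left (x - x') x' y
  rw [sub_add_cancel] at this
  rw [this]; ring

theorem ext {x x' : W} (H : ∀ y, f x y = f x' y) : x = x' := by
  rw [← sub_eq_zero]
  apply h.nondeg
  intro y
  rw [h.sub_left, H y, sub_self]

/-- the scalar multiplication -/
noncomputable def sm (a : k) (x : W) : W := (h.ex a x).choose

theorem f_sm (a : k) (x y : W) : f (h.sm a x) y = a * f x y := (h.ex a x).choose_spec y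

/-- **the `k`-module structure of `W`** -/
noncomputable abbrev module : Module k W where
  smul a x := h.sm a x
  one_smul x := h.ext fun y => by
    show f (h.sm 1 x) y = f x y
    rw [h.f_sm, one_mul]
  mul_smul a b x := h.ext fun y => by
    show f (h.sm (a * b) x) y = f (h.sm a (h.sm b x)) y
    rw [h.f_sm, h.f_sm, h.f_sm, mul_assoc]
  smul_zero a := h.ext fun y => by
    show f (h.sm a 0) y = f 0 y
    rw [h.f_sm, h.zero_left, mul_zero]
  smul_add a x x' := h.ext fun y => by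
    show f (h.sm a (x + x')) y = f (h.sm a x + h.sm a x') y
    rw [h.f_sm, h.add_left, h.add_left, h.f_sm, h.f_sm, mul_add]
  add_smul a b x := h.ext fun y => by
    show f (h.sm (a + b) x) y = f (h.sm a x + h.sm b x) y
    rw [h.f_sm, h.add_left, h.f_sm, h.f_sm, add_mul]
  zero_smul x := h.ext fun y => by
    show f (h.sm 0 x) y = f 0 y
    rw [h.f_sm, h.zero_left, zero_mul]

theorem f_smul_left (a : k) (x y : W) : letI := h.module; f (a • x) y = a * f x y := h.f_sm a x y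

theorem f_smul_right (a : k) (x y : W) : letI := h.module; f x (a • y) = a * f x y := by
  show f x (h.sm a y) = a * f x y
  rw [h.symm, h.f_sm, h.symm y x]

/-- the bilinear form -/
noncomputable def bil : letI := h.module; W →ₗ[k] W →ₗ[k] k :=
  letI := h.module
  LinearMap.mk₂ k f h.add_left (fun a x y => by rw [smul_eq_mul]; exact h.f_smul_left a x y)
    h.add_right (fun a x y => by rw [smul_eq_mul]; exact h.f_smul_right a x y)

/-- an additive surjection `g` with `f (g x) (g y) = c f x y` is `k`-linear -/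
theorem map_smul_of {c : k} {g : W → W} (hg : Function.Surjective g)
    (hf : ∀ x y, f (g x) (g y) = c * f x y) (a : k) (x : W) :
    letI := h.module; g (a • x) = a • g x := by
  let _ := h.module
  refine h.ext fun y => ?_
  obtain ⟨y, rfl⟩ := hg y
  rw [hf, h.f_smul_left, h.f_smul_left, hf]
  ring

end Scal

end scal

end Cfsg.Agent.Omega.NOne.SU

end

section


/-!
# THEOREM UNI, group part: the quotient `W = Q/R` and the commutator form

`Sp k Q R a` : `[Q,Q] ≤ R ≤ Z(Q)`, squares in `R`, `Z(Q) = R`, and `a : k → R` is an additive bijection.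
`Sp.W` is `Q/R`, `Sp.pr : G → W` the projection (used on `Q`), `Sp.form` the commutator form with values in `k`.
-/

set_option autoImplicit false

open Subgroup

namespace Cfsg.Agent.Omega.NOne.SU

variable {G : Type*} [Group G] {k : Type*} [Field k]

/-- `Q` is special with centre `R ≅ (k, +)`. -/
structure Sp (Q R : Subgroup G) (a : k → G) : Prop where
  le : R ≤ Q
  comm : ∀ x ∈ Q, ∀ y ∈ Q, x * y * x⁻¹ * y⁻¹ ∈ R
  cen : ∀ r ∈ R, ∀ y ∈ Q, r * y = y * r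
  sq : ∀ x ∈ Q, x * x ∈ R
  cent : ∀ x ∈ Q, (∀ y ∈ Q, x * y = y * x) → x ∈ R
  a_add : ∀ s t, a (s + t) = a s * a t
  a_mem : ∀ s, a s ∈ R
  a_surj : ∀ r ∈ R, ∃ s, a s = r
  a_inj : Function.Injective a
  two : (2 : k) = 0

namespace Sp

variable {Q R : Subgroup G} {a : k → G}

theorem normal (h : Sp Q R a) : (R.subgroupOf Q).Normal := by
  refine ⟨fun n hn g => ?_⟩
  rw [mem_subgroupOf] at hn ⊢
  have h1 := h.cen _ hn g g.2
  have h2 : ((g * n * g⁻¹ : Q) : G) = n := by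
    show (g : G) * n * (g : G)⁻¹ = n
    rw [← h1]; group
  rw [h2]; exact hn

/-- `W = Q/R` -/
def W (_h : Sp Q R a) : Type _ := Additive (Q ⧸ R.subgroupOf Q)

noncomputable instance (h : Sp Q R a) : AddCommGroup (W h) :=
  letI := h.normal
  letI : CommGroup (Q ⧸ R.subgroupOf Q) :=
    { (inferInstance : Group (Q ⧸ R.subgroupOf Q)) with
      mul_comm := by
        intro x y
        obtain ⟨x, rfl⟩ := QuotientGroup.mk_surjective x
        obtain ⟨y, rfl⟩ := QuotientGroup.mk_surjective y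
        rw [← QuotientGroup.mk_mul, ← QuotientGroup.mk_mul, QuotientGroup.eq, mem_subgroupOf]
        have := h.comm _ (inv_mem y.2) _ (inv_mem x.2)
        have e : (((x * y)⁻¹ * (y * x) : Q) : G) = (y : G)⁻¹ * (x : G)⁻¹ * ((y : G)⁻¹)⁻¹ * ((x : G)⁻¹)⁻¹ := by
          simp [mul_assoc]
        rw [e]; exact this }
  inferInstanceAs (AddCommGroup (Additive (Q ⧸ R.subgroupOf Q)))

/-- the projection `Q → W` -/
def mkW (h : Sp Q R a) (x : Q) : W h := Additive.ofMul (x : Q ⧸ R.subgroupOf Q)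

theorem mkW_mul (h : Sp Q R a) (x y : Q) : h.mkW (x * y) = h.mkW x + h.mkW y := rfl

theorem mkW_surj (h : Sp Q R a) (w : W h) : ∃ x, h.mkW x = w := by
  obtain ⟨x, hx⟩ := QuotientGroup.mk_surjective (Additive.toMul (α := Q ⧸ R.subgroupOf Q) w)
  exact ⟨x, congrArg Additive.ofMul hx⟩

theorem mkW_eq_zero (h : Sp Q R a) (x : Q) : h.mkW x = 0 ↔ (x : G) ∈ R := by
  have := h.normal
  have h1 : h.mkW x = 0 ↔ (x : Q ⧸ R.subgroupOf Q) = 1 := Iff.rfl
  rw [h1, QuotientGroup.eq_one_iff, mem_subgroupOf]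

open Classical in
/-- the projection `Q → W`, as a function on `G` -/
noncomputable def pr (h : Sp Q R a) (x : G) : W h :=
  if hx : x ∈ Q then h.mkW ⟨x, hx⟩ else 0

theorem pr_of (h : Sp Q R a) {x : G} (hx : x ∈ Q) : h.pr x = h.mkW ⟨x, hx⟩ := by
  unfold pr
  rw [dif_pos hx]

theorem pr_mul (h : Sp Q R a) {x y : G} (hx : x ∈ Q) (hy : y ∈ Q) : h.pr (x * y) = h.pr x + h.pr y := by
  rw [h.pr_of hx, h.pr_of hy, h.pr_of (mul_mem hx hy), ← mkW_mul]
  rfl

theorem pr_surj (h : Sp Q R a) (w : W h) : ∃ x ∈ Q, h.pr x = w := by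
  obtain ⟨x, hx⟩ := h.mkW_surj w
  exact ⟨x, x.2, by rw [h.pr_of x.2]; exact hx⟩

theorem pr_eq_zero (h : Sp Q R a) {x : G} (hx : x ∈ Q) : h.pr x = 0 ↔ x ∈ R := by
  rw [h.pr_of hx, h.mkW_eq_zero]

theorem pr_one (h : Sp Q R a) : h.pr 1 = 0 := (h.pr_eq_zero (one_mem Q)).2 (one_mem R)

theorem pr_inv (h : Sp Q R a) {x : G} (hx : x ∈ Q) : h.pr x⁻¹ = - h.pr x := by
  have := h.pr_mul (inv_mem hx) hx
  rw [inv_mul_cancel, h.pr_one] at this
  exact eq_neg_of_add_eq_zero_left this.symm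

theorem pr_eq (h : Sp Q R a) {x y : G} (hx : x ∈ Q) (hy : y ∈ Q) : h.pr x = h.pr y ↔ x * y⁻¹ ∈ R := by
  rw [← h.pr_eq_zero (mul_mem hx (inv_mem hy)), h.pr_mul hx (inv_mem hy), h.pr_inv hy, ← sub_eq_add_neg,
    sub_eq_zero]

theorem add_self (h : Sp Q R a) (w : W h) : w + w = 0 := by
  obtain ⟨x, hx, rfl⟩ := h.pr_surj w
  rw [← h.pr_mul hx hx, h.pr_eq_zero (mul_mem hx hx)]
  exact h.sq x hx

theorem neg_eq (h : Sp Q R a) (w : W h) : - w = w := by
  have := h.add_self w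
  exact neg_eq_of_add_eq_zero_left this

theorem sub_eq (h : Sp Q R a) (w w' : W h) : w - w' = w + w' := by
  rw [sub_eq_add_neg, h.neg_eq]

/-- the inverse of `a : k → R` -/
noncomputable def co (_h : Sp Q R a) (r : G) : k := Function.invFun a r

theorem co_a (h : Sp Q R a) (s : k) : h.co (a s) = s := Function.leftInverse_invFun h.a_inj s

theorem a_co (h : Sp Q R a) {r : G} (hr : r ∈ R) : a (h.co r) = r := by
  obtain ⟨s, rfl⟩ := h.a_surj r hr
  rw [h.co_a]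

theorem co_mul (h : Sp Q R a) {r t : G} (hr : r ∈ R) (ht : t ∈ R) : h.co (r * t) = h.co r + h.co t := by
  obtain ⟨s, rfl⟩ := h.a_surj r hr
  obtain ⟨u, rfl⟩ := h.a_surj t ht
  rw [← h.a_add, h.co_a, h.co_a, h.co_a]

theorem a_zero (h : Sp Q R a) : a 0 = 1 := by
  have := h.a_add 0 0
  rw [add_zero] at this
  exact (mul_eq_left (a := a 0)).1 this.symm

theorem co_one (h : Sp Q R a) : h.co 1 = 0 := by
  rw [← h.a_zero, h.co_a]

theorem co_inj (h : Sp Q R a) {r t : G} (hr : r ∈ R) (ht : t ∈ R) (H : h.co r = h.co t) : r = t := by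
  rw [← h.a_co hr, ← h.a_co ht, H]

theorem co_eq_zero (h : Sp Q R a) {r : G} (hr : r ∈ R) : h.co r = 0 ↔ r = 1 := by
  constructor
  · intro H
    rw [← h.a_co hr, H, h.a_zero]
  · rintro rfl
    exact h.co_one

theorem r_sq (h : Sp Q R a) {r : G} (hr : r ∈ R) : r * r = 1 := by
  obtain ⟨s, rfl⟩ := h.a_surj r hr
  rw [← h.a_add, ← two_mul, h.two, zero_mul, h.a_zero]

theorem r_inv (h : Sp Q R a) {r : G} (hr : r ∈ R) : r⁻¹ = r := inv_eq_of_mul_eq_one_left (h.r_sq hr)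

theorem co_inv (h : Sp Q R a) {r : G} (hr : r ∈ R) : h.co r⁻¹ = h.co r := by rw [h.r_inv hr]

/-- representative -/
noncomputable def rep (h : Sp Q R a) (w : W h) : G := (h.pr_surj w).choose

theorem rep_mem (h : Sp Q R a) (w : W h) : h.rep w ∈ Q := (h.pr_surj w).choose_spec.1

theorem pr_rep (h : Sp Q R a) (w : W h) : h.pr (h.rep w) = w := (h.pr_surj w).choose_spec.2

/-- the commutator form -/
noncomputable def form (h : Sp Q R a) (w w' : W h) : k :=
  h.co (h.rep w * h.rep w' * (h.rep w)⁻¹ * (h.rep w')⁻¹)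

theorem comm_left (h : Sp Q R a) {x x' y : G} (hx : x ∈ Q) (hx' : x' ∈ Q) (hy : y ∈ Q) :
    (x * x') * y * (x * x')⁻¹ * y⁻¹ = (x * y * x⁻¹ * y⁻¹) * (x' * y * x'⁻¹ * y⁻¹) := by
  have h1 := h.comm x' hx' y hy
  have h2 := h.cen _ h1 (x * y * x⁻¹ * y⁻¹) (h.le (h.comm x hx y hy))
  have h3 := h.cen _ h1 x hx
  calc (x * x') * y * (x * x')⁻¹ * y⁻¹ = x * (x' * y * x'⁻¹ * y⁻¹) * y * x⁻¹ * y⁻¹ := by group
    _ = (x' * y * x'⁻¹ * y⁻¹) * x * y * x⁻¹ * y⁻¹ := by rw [← h3]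
    _ = (x' * y * x'⁻¹ * y⁻¹) * (x * y * x⁻¹ * y⁻¹) := by group
    _ = _ := h2

theorem comm_right (h : Sp Q R a) {x y y' : G} (hx : x ∈ Q) (hy : y ∈ Q) (hy' : y' ∈ Q) :
    x * (y * y') * x⁻¹ * (y * y')⁻¹ = (x * y * x⁻¹ * y⁻¹) * (x * y' * x⁻¹ * y'⁻¹) := by
  have h1 := h.comm x hx y' hy'
  have h3 := h.cen _ h1 y hy
  calc x * (y * y') * x⁻¹ * (y * y')⁻¹ = x * y * x⁻¹ * (x * y' * x⁻¹ * y'⁻¹) * y⁻¹ := by group
    _ = x * y * x⁻¹ * ((x * y' * x⁻¹ * y'⁻¹) * y⁻¹) := by group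
    _ = x * y * x⁻¹ * (y⁻¹ * (x * y' * x⁻¹ * y'⁻¹)) := by
        rw [h.cen _ h1 y⁻¹ (inv_mem hy)]
    _ = _ := by group

theorem comm_eq_of_pr (h : Sp Q R a) {x x' y y' : G} (hx : x ∈ Q) (hx' : x' ∈ Q) (hy : y ∈ Q) (hy' : y' ∈ Q)
    (e : h.pr x = h.pr x') (e' : h.pr y = h.pr y') : x * y * x⁻¹ * y⁻¹ = x' * y' * x'⁻¹ * y'⁻¹ := by
  rw [h.pr_eq hx hx'] at e
  rw [h.pr_eq hy hy'] at e'
  have e1 : x = (x * x'⁻¹) * x' := by group
  have e2 : y = (y * y'⁻¹) * y' := by group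
  have z1 : ∀ r ∈ R, ∀ u ∈ Q, r * u * r⁻¹ * u⁻¹ = 1 := by
    intro r hr u hu
    rw [h.cen r hr u hu]; group
  have z2 : ∀ r ∈ R, ∀ u ∈ Q, u * r * u⁻¹ * r⁻¹ = 1 := by
    intro r hr u hu
    rw [← h.cen r hr u hu]; group
  calc x * y * x⁻¹ * y⁻¹ = ((x * x'⁻¹) * x') * y * ((x * x'⁻¹) * x')⁻¹ * y⁻¹ := by rw [← e1]
    _ = x' * y * x'⁻¹ * y⁻¹ := by rw [h.comm_left (h.le e) hx' hy, z1 _ e _ hy, one_mul]
    _ = x' * ((y * y'⁻¹) * y') * x'⁻¹ * ((y * y'⁻¹) * y')⁻¹ := by rw [← e2]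
    _ = _ := by rw [h.comm_right hx' (h.le e') hy', z2 _ e' _ hx', one_mul]

theorem form_pr (h : Sp Q R a) {x y : G} (hx : x ∈ Q) (hy : y ∈ Q) :
    h.form (h.pr x) (h.pr y) = h.co (x * y * x⁻¹ * y⁻¹) := by
  unfold form
  rw [h.comm_eq_of_pr (h.rep_mem _) hx (h.rep_mem _) hy (h.pr_rep _) (h.pr_rep _)]

theorem form_add_left (h : Sp Q R a) (x x' y : W h) : h.form (x + x') y = h.form x y + h.form x' y := by
  obtain ⟨x, hx, rfl⟩ := h.pr_surj x
  obtain ⟨x', hx', rfl⟩ := h.pr_surj x'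
  obtain ⟨y, hy, rfl⟩ := h.pr_surj y
  rw [← h.pr_mul hx hx', h.form_pr (mul_mem hx hx') hy, h.form_pr hx hy, h.form_pr hx' hy,
    h.comm_left hx hx' hy, h.co_mul (h.comm x hx y hy) (h.comm x' hx' y hy)]

theorem form_alt (h : Sp Q R a) (x : W h) : h.form x x = 0 := by
  obtain ⟨x, hx, rfl⟩ := h.pr_surj x
  rw [h.form_pr hx hx]
  have : x * x * x⁻¹ * x⁻¹ = 1 := by group
  rw [this, h.co_one]

theorem form_symm (h : Sp Q R a) (x y : W h) : h.form x y = h.form y x := by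
  obtain ⟨x, hx, rfl⟩ := h.pr_surj x
  obtain ⟨y, hy, rfl⟩ := h.pr_surj y
  rw [h.form_pr hx hy, h.form_pr hy hx]
  have : x * y * x⁻¹ * y⁻¹ = (y * x * y⁻¹ * x⁻¹)⁻¹ := by group
  rw [this, h.co_inv (h.comm y hy x hx)]

theorem form_add_right (h : Sp Q R a) (x y y' : W h) : h.form x (y + y') = h.form x y + h.form x y' := by
  rw [h.form_symm, h.form_add_left, h.form_symm y, h.form_symm y']

theorem form_nondeg (h : Sp Q R a) (x : W h) (H : ∀ y, h.form x y = 0) : x = 0 := by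
  obtain ⟨x, hx, rfl⟩ := h.pr_surj x
  rw [h.pr_eq_zero hx]
  apply h.cent x hx
  intro y hy
  have h1 := H (h.pr y)
  rw [h.form_pr hx hy, h.co_eq_zero (h.comm x hx y hy)] at h1
  calc x * y = (x * y * x⁻¹ * y⁻¹) * (y * x) := by group
    _ = y * x := by rw [h1, one_mul]

theorem finite (h : Sp Q R a) [Finite G] : Finite (W h) :=
  inferInstanceAs (Finite (Q ⧸ R.subgroupOf Q))

/-- The elements of `W` on which the scalars act form a subgroup. -/
theorem scal_of (h : Sp Q R a)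
    (H : ∀ N : AddSubgroup (W h), (∀ w, (∀ s : k, ∃ w', ∀ y, h.form w' y = s * h.form w y) → w ∈ N) → N = ⊤) :
    Scal h.form where
  add_left := h.form_add_left
  add_right := h.form_add_right
  alt := h.form_alt
  symm := h.form_symm
  nondeg := h.form_nondeg
  ex s x := by
    let N : AddSubgroup (W h) :=
      { carrier := {w | ∀ s : k, ∃ w', ∀ y, h.form w' y = s * h.form w y}
        zero_mem' := fun s => ⟨0, fun y => by
          have h0 : h.form 0 y = 0 := by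
            have := h.form_add_left 0 0 y
            rw [add_zero] at this
            simpa using this
          rw [h0, mul_zero]⟩
        add_mem' := fun {x y} hx hy s => by
          obtain ⟨x', hx'⟩ := hx s
          obtain ⟨y', hy'⟩ := hy s
          exact ⟨x' + y', fun u => by rw [h.form_add_left, h.form_add_left, hx', hy', mul_add]⟩
        neg_mem' := fun {x} hx => by rwa [h.neg_eq] }
    have hN := H N (fun w hw => hw)
    have : x ∈ N := by rw [hN]; trivial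
    exact this s

end Sp

end Cfsg.Agent.Omega.NOne.SU

end

section


/-!
# THEOREM UNI, group part: the input

`GIn` : the group data (THEOREM BETA + `Q ∩ Q' ≤ V` + the coordinates of `V = O_4^-(q)`) for two opposite points
`R = {v a 0 0}`, `R' = {v 0 0 d}` of `V`; `Q = O_2(N_G(R))`, `Q' = O_2(N_G(R'))`.
`Fld` : the `F`-space `Φ = C_Q(V)/(V ∩ Q) ≅ C_{Q'}(V)/(V ∩ Q')` and the torus.

The main theorem of the group part is `GIn → Fld → Uni k F W Φ` (file `Main.lean`).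
-/

set_option autoImplicit false

open Subgroup

namespace Cfsg.Agent.Omega.NOne.SU

variable {G : Type*} [Group G] {k F : Type*} [Field k] [Field F] [Algebra k F]

/-- The group data for the pair of opposite points `R = {v a 0 0}`, `R' = {v 0 0 d}`. -/
structure GIn (T : Quad k F) (S : Sylow 2 G) (V R Q Q' : Subgroup G) (v : k → F → k → G)
    (p p' : G → F) : Prop where
  /-- `R = {v a 0 0}` is the centre of the special group `Q` -/
  sp : Sp Q R (fun a => v a 0 0)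
  v_add : ∀ a b d a' b' d', v (a + a') (b + b') (d + d') = v a b d * v a' b' d'
  v_inj : ∀ a b d, v a b d = 1 → a = 0 ∧ b = 0 ∧ d = 0
  v_mem : ∀ a b d, v a b d ∈ V
  v_surj : ∀ x ∈ V, ∃ a b d, v a b d = x
  -- the point `R`
  Q_two : IsPGroup 2 Q
  p_add : ∀ x ∈ Q, ∀ y ∈ Q, p (x * y) = p x + p y
  p_surj : ∀ l, ∃ y ∈ Q, p y = l
  act : ∀ y ∈ Q, ∀ a b d, y * v a b d * y⁻¹ =
    v (a + T.tr (T.sg (p y) * b) + T.nm (p y) * d) (b + p y * algebraMap k F d) d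
  E_le : ∀ a b, v a b 0 ∈ Q
  V_Q : ∀ a b d, v a b d ∈ Q → d = 0
  nor : ∀ c ∈ normalizer (R : Set G), ∀ y ∈ Q, c * y * c⁻¹ ∈ Q
  max : ∀ N : Subgroup G, IsPGroup 2 N → N ≤ centralizer (R : Set G) →
    (∀ c ∈ centralizer (R : Set G), ∀ x ∈ N, c * x * c⁻¹ ∈ N) → N ≤ Q
  char2 : centralizer (Q : Set G) ≤ Q
  -- the point `R'`
  p'_add : ∀ x ∈ Q', ∀ y ∈ Q', p' (x * y) = p' x + p' y
  act' : ∀ y ∈ Q', ∀ a b d, y * v a b d * y⁻¹ =
    v a (b + T.sg (p' y) * algebraMap k F a) (d + T.tr (p' y * b) + T.nm (p' y) * a)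
  E'_le : ∀ b d, v 0 b d ∈ Q'
  nor' : ∀ c ∈ centralizer (V : Set G), ∀ y ∈ Q', c * y * c⁻¹ ∈ Q'
  comm' : ∀ x ∈ Q', ∀ y ∈ Q', ∃ d, x * y * x⁻¹ * y⁻¹ = v 0 0 d
  meet : ∀ x ∈ Q, x ∈ Q' → ∃ b, x = v 0 b 0
  -- the Sylow group
  S_V : (S : Subgroup G) ≤ normalizer (V : Set G)
  S_R : (S : Subgroup G) ≤ normalizer (R : Set G)
  /-- a 2-element of `C(R)` which is trivial on `(V ∩ Q)/R` acts on `V` as an element of `Q` -/
  S_U : ∀ s ∈ S, s ∈ centralizer (R : Set G) → (∀ b, ∃ a, s * v 0 b 0 * s⁻¹ = v a b 0) →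
    ∃ y ∈ Q, s * y⁻¹ ∈ centralizer (V : Set G)
  /-- `S ∩ C(R)` acts on `(V ∩ Q)/R` as a group of order `≤ 2` -/
  S_2 : ∀ s ∈ S, s ∈ centralizer (R : Set G) → ∀ t ∈ S, t ∈ centralizer (R : Set G) →
    (∀ b, ∃ a, s * v 0 b 0 * s⁻¹ = v a b 0) ∨ (∀ b, ∃ a, t * v 0 b 0 * t⁻¹ = v a b 0) ∨
      (∀ b, ∃ a, (s * t) * v 0 b 0 * (s * t)⁻¹ = v a b 0)

/-- The field data: `φ` is used on `C_Q(V)`, `χ` on `C_{Q'}(V)`. -/
structure Fld (T : Quad k F) (V R Q Q' : Subgroup G) (v : k → F → k → G) (p : G → F)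
    {Φ : Type*} [AddCommGroup Φ] [Module F Φ] (φ χ : G → Φ) : Prop where
  φ_add : ∀ x ∈ Q, x ∈ centralizer (V : Set G) → ∀ y ∈ Q, y ∈ centralizer (V : Set G) →
    φ (x * y) = φ x + φ y
  φ_ker : ∀ x ∈ Q, x ∈ centralizer (V : Set G) → (φ x = 0 ↔ ∃ a b, x = v a b 0)
  φ_surj : ∀ u, ∃ x ∈ Q, x ∈ centralizer (V : Set G) ∧ φ x = u
  χ_add : ∀ x ∈ Q', x ∈ centralizer (V : Set G) → ∀ y ∈ Q', y ∈ centralizer (V : Set G) →
    χ (x * y) = χ x + χ y
  χ_ker : ∀ n ∈ Q', n ∈ centralizer (V : Set G) → χ n = 0 → ∃ b d, n = v 0 b d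
  χ_surj : ∀ u, ∃ n ∈ Q', n ∈ centralizer (V : Set G) ∧ χ n = u
  /-- `[n, y] = p(y) χ(n)` -/
  bil : ∀ y ∈ Q, ∀ n ∈ Q', n ∈ centralizer (V : Set G) → φ (n * y * n⁻¹ * y⁻¹) = p y • χ n
  /-- the torus, inside `⟨Q, Q'⟩` -/
  tor : ∀ z : F, z ≠ 0 → ∃ t ∈ Q ⊔ Q',
    (∀ a b d, t * v a b d * t⁻¹ = v (T.nm z * a) (z * (T.sg z)⁻¹ * b) ((T.nm z)⁻¹ * d)) ∧
    (∀ y ∈ Q, t * y * t⁻¹ ∈ Q ∧ p (t * y * t⁻¹) = z ^ 2 * p y) ∧
    (∀ x ∈ Q, x ∈ centralizer (V : Set G) → φ (t * x * t⁻¹) = z • φ x) ∧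
    (∀ n ∈ Q', n ∈ centralizer (V : Set G) → t * n * t⁻¹ ∈ Q' ∧ χ (t * n * t⁻¹) = z⁻¹ • χ n)

end Cfsg.Agent.Omega.NOne.SU

end

section


/-!
# The instance `GIn`

`gin` : hermitian coordinates `d : Co K σ M V`, `Beta M V Rf Qf`, `Mt V Rf Qf`, `Rf i = d.R0`, `Rf j = d.Roo`,
`Qf i` induces exactly the group of the `u a`, `Qf j` induces `l a`'s, `Qf i ⊓ Qf j ≤ V`, `S ≤ M ∩ N(R0)` ⟹ `GIn`.
-/

set_option autoImplicit false
set_option linter.unusedVariables false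
set_option linter.unusedSectionVars false

open Subgroup
open scoped Pointwise
open Cfsg.Agent.Omega.NO1.Beta.Inst

namespace Cfsg.Agent.Omega.NOne.SU.GInst

open Co Cfsg.Agent.Omega.NO1.Beta

section field

variable {K : Type*} [Field K] (σ : K ≃+* K)

/-- the fixed field of `σ` -/
def kf : Subfield K where
  carrier := {x | σ x = x}
  mul_mem' := fun {a b} ha hb => by
    change σ (a * b) = a * b
    rw [map_mul]; exact congrArg₂ (· * ·) ha hb
  one_mem' := map_one σ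
  add_mem' := fun {a b} ha hb => by
    change σ (a + b) = a + b
    rw [map_add]; exact congrArg₂ (· + ·) ha hb
  zero_mem' := map_zero σ
  neg_mem' := fun {a} ha => by
    change σ (-a) = -a
    rw [map_neg]; exact congrArg Neg.neg ha
  inv_mem' := fun a ha => by
    change σ a⁻¹ = a⁻¹
    rw [map_inv₀]; exact congrArg Inv.inv ha

theorem mem_kf {x : K} : x ∈ kf σ ↔ σ x = x := Iff.rfl

variable {σ}

/-- `σ` as a `k`-automorphism -/
def sg : K ≃ₐ[kf σ] K := AlgEquiv.ofRingEquiv (f := σ) fun x => x.2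

theorem sg_apply (x : K) : (sg (σ := σ)) x = σ x := rfl

/-- the trace -/
def tr (hσ : ∀ x, σ (σ x) = x) : K →ₗ[kf σ] kf σ where
  toFun x := ⟨x + σ x, by rw [mem_kf, map_add, hσ, add_comm]⟩
  map_add' x y := by
    apply Subtype.ext
    change x + y + σ (x + y) = (x + σ x) + (y + σ y)
    rw [map_add]; ring
  map_smul' c x := by
    apply Subtype.ext
    change (c : K) * x + σ ((c : K) * x) = (c : K) * (x + σ x)
    rw [map_mul, (show σ (c : K) = c from c.2)]; ring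

/-- the norm -/
def nm (hσ : ∀ x, σ (σ x) = x) (x : K) : kf σ := ⟨x * σ x, by rw [mem_kf, map_mul, hσ, mul_comm]⟩

theorem card_kf [Finite K] [CharP K 2] (hσ : ∀ x, σ (σ x) = x) (hn : ∃ x, σ x ≠ x) :
    Nat.card K = Nat.card (kf σ) ^ 2 := by
  classical
  let f : K →+ kf σ := (tr hσ).toAddMonoidHom
  have hsurj : Function.Surjective f := by
    obtain ⟨x, hx⟩ := hn
    intro y
    have hne : x + σ x ≠ 0 := by
      intro h0
      apply hx
      have : σ x = -x := eq_neg_of_add_eq_zero_right h0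
      rw [this, CharTwo.neg_eq]
    refine ⟨(y : K) * (x + σ x)⁻¹ * x, ?_⟩
    apply Subtype.ext
    change (y : K) * (x + σ x)⁻¹ * x + σ ((y : K) * (x + σ x)⁻¹ * x) = y
    have e1 : σ (x + σ x) = x + σ x := by rw [map_add, hσ, add_comm]
    rw [map_mul, map_mul, map_inv₀, e1, (show σ (y : K) = y from y.2)]
    field_simp
  have hker : Nat.card f.ker = Nat.card (kf σ) := by
    apply Nat.card_congr
    refine ⟨fun x => ⟨x.1, ?_⟩, fun x => ⟨x.1, ?_⟩, fun _ => rfl, fun _ => rfl⟩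
    · have h1 : f x.1 = 0 := x.2
      have h2 : x.1 + σ x.1 = 0 := congrArg Subtype.val h1
      have : σ x.1 = -x.1 := eq_neg_of_add_eq_zero_right h2
      rw [mem_kf, this, CharTwo.neg_eq]
    · change f x.1 = 0
      apply Subtype.ext
      change x.1 + σ x.1 = 0
      rw [(show σ (x : K) = x from x.2), CharTwo.add_self_eq_zero]
  have h1 : Nat.card K = Nat.card (K ⧸ f.ker) * Nat.card f.ker :=
    AddSubgroup.card_eq_card_quotient_mul_card_addSubgroup _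
  have h2 : Nat.card (K ⧸ f.ker) = Nat.card (kf σ) :=
    Nat.card_congr (QuotientAddGroup.quotientKerEquivOfSurjective f hsurj).toEquiv
  rw [h1, h2, hker, pow_two]

/-- the quadratic extension -/
def quad [Finite K] [CharP K 2] (hσ : ∀ x, σ (σ x) = x) (hn : ∃ x, σ x ≠ x) (h16 : 16 ≤ Nat.card K) :
    Quad (kf σ) K where
  sg := sg
  tr := tr hσ
  nm := nm hσ
  sg_sg := hσ
  fix := fun x hx => ⟨⟨x, hx⟩, rfl⟩
  tr_eq := fun x => rfl
  nm_eq := fun x => rfl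
  card := card_kf hσ hn
  four := by
    rw [card_kf hσ hn] at h16
    by_contra h
    have h3 : Nat.card (kf σ) ≤ 3 := by omega
    have : Nat.card (kf σ) ^ 2 ≤ 3 ^ 2 := Nat.pow_le_pow_left h3 2
    omega

end field

section inst

variable {G : Type*} [Group G] {K : Type*} [Field K] [CharP K 2] {σ : K ≃+* K} {M V : Subgroup G}
  (d : Co K σ M V)

theorem exists_vv (a : kf σ) (b : K) (c : kf σ) : ∃ v ∈ V, d.X v = a ∧ d.Y v = b ∧ d.Z v = c :=
  d.exists_v a b c a.2 c.2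

/-- the coordinates `k → K → k → V` -/
noncomputable def vv (a : kf σ) (b : K) (c : kf σ) : G := (exists_vv d a b c).choose

theorem vv_mem (a : kf σ) (b : K) (c : kf σ) : vv d a b c ∈ V := (exists_vv d a b c).choose_spec.1

theorem vv_X (a : kf σ) (b : K) (c : kf σ) : d.X (vv d a b c) = a := (exists_vv d a b c).choose_spec.2.1

theorem vv_Y (a : kf σ) (b : K) (c : kf σ) : d.Y (vv d a b c) = b := (exists_vv d a b c).choose_spec.2.2.1

theorem vv_Z (a : kf σ) (b : K) (c : kf σ) : d.Z (vv d a b c) = c := (exists_vv d a b c).choose_spec.2.2.2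

theorem eq_vv {v : G} (hv : v ∈ V) {a : kf σ} {b : K} {c : kf σ} (hX : d.X v = a) (hY : d.Y v = b)
    (hZ : d.Z v = c) : v = vv d a b c :=
  d.ext hv (vv_mem d _ _ _) (by rw [hX, vv_X]) (by rw [hY, vv_Y]) (by rw [hZ, vv_Z])

theorem vv_inj {a : kf σ} {b : K} {c : kf σ} {a' : kf σ} {b' : K} {c' : kf σ}
    (h : vv d a b c = vv d a' b' c') : a = a' ∧ b = b' ∧ c = c' := by
  refine ⟨Subtype.ext ?_, ?_, Subtype.ext ?_⟩
  · rw [← vv_X d a b c, h, vv_X]
  · rw [← vv_Y d a b c, h, vv_Y]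
  · rw [← vv_Z d a b c, h, vv_Z]

theorem vv_add (a : kf σ) (b : K) (c : kf σ) (a' : kf σ) (b' : K) (c' : kf σ) :
    vv d (a + a') (b + b') (c + c') = vv d a b c * vv d a' b' c' := by
  symm
  apply eq_vv d (V.mul_mem (vv_mem d _ _ _) (vv_mem d _ _ _))
  · rw [d.X_mul (vv_mem d _ _ _) (vv_mem d _ _ _), vv_X, vv_X]; rfl
  · rw [d.Y_mul (vv_mem d _ _ _) (vv_mem d _ _ _), vv_Y, vv_Y]
  · rw [d.Z_mul (vv_mem d _ _ _) (vv_mem d _ _ _), vv_Z, vv_Z]; rfl

theorem vv_zero : vv d 0 0 0 = 1 := by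
  symm
  apply eq_vv d V.one_mem
  · rw [d.X_one]; rfl
  · rw [d.Y_one]
  · rw [d.Z_one]; rfl

theorem exists_eq {v : G} (hv : v ∈ V) : ∃ a b c, vv d a b c = v :=
  ⟨⟨d.X v, d.sX hv⟩, d.Y v, ⟨d.Z v, d.sZ hv⟩, (eq_vv d hv rfl rfl rfl).symm⟩

theorem mem_R0_vv {x : G} : x ∈ d.R0 ↔ ∃ a, x = vv d a 0 0 := by
  constructor
  · rintro ⟨h1, h2, h3⟩
    exact ⟨⟨d.X x, d.sX h1⟩, eq_vv d h1 rfl h2 (by rw [h3]; rfl)⟩
  · rintro ⟨a, rfl⟩
    exact ⟨vv_mem d _ _ _, vv_Y d _ _ _, vv_Z d _ _ _⟩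

theorem mem_Roo_vv {x : G} : x ∈ d.Roo ↔ ∃ c, x = vv d 0 0 c := by
  constructor
  · rintro ⟨h1, h2, h3⟩
    exact ⟨⟨d.Z x, d.sZ h1⟩, eq_vv d h1 (by rw [h2]; rfl) h3 rfl⟩
  · rintro ⟨a, rfl⟩
    exact ⟨vv_mem d _ _ _, vv_X d _ _ _, vv_Y d _ _ _⟩

/-- the parameter of an element which acts as `u a` -/
noncomputable def pu (y : G) : K := d.Y (y * vv d 0 0 1 * y⁻¹)

/-- the parameter of an element which acts as `l a` -/
noncomputable def pl (y : G) : K := σ (d.Y (y * vv d 1 0 0 * y⁻¹))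

theorem pu_eq {y : G} {a : K} (h : d.Act y (u a).1) : pu d y = a := by
  rw [pu, d.u_Y h (vv_mem d _ _ _), vv_Y, vv_Z]
  change 0 + a * (1 : K) = a
  ring

theorem l_X {g : G} {a : K} (hg : d.Act g (l a).1) {v : G} (hv : v ∈ V) : d.X (g * v * g⁻¹) = d.X v := by
  rw [hg.X hv]
  simp [l]

theorem l_Y {g : G} {a : K} (hg : d.Act g (l a).1) {v : G} (hv : v ∈ V) :
    d.Y (g * v * g⁻¹) = d.Y v + σ a * d.X v := by
  rw [hg.Y hv]
  simp [l]
  ring

theorem l_Z {g : G} {a : K} (hg : d.Act g (l a).1) {v : G} (hv : v ∈ V) :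
    d.Z (g * v * g⁻¹) = d.Z v + (a * d.Y v + σ a * σ (d.Y v)) + a * σ a * d.X v := by
  rw [hg.Z hv]
  simp [l]
  ring

theorem pl_eq {y : G} {a : K} (h : d.Act y (l a).1) : pl d y = a := by
  rw [pl, l_Y d h (vv_mem d _ _ _), vv_Y, vv_X]
  change σ (0 + σ a * (1 : K)) = a
  rw [zero_add, mul_one, d.inv]

theorem l_mul (a b : K) : (l a * l b : Matrix.SpecialLinearGroup (Fin 2) K) = l (a + b) := by
  apply Subtype.ext
  rw [Matrix.SpecialLinearGroup.coe_mul]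
  ext i j
  fin_cases i <;> fin_cases j <;> simp [l, Matrix.mul_apply, Fin.sum_univ_two, add_comm]

/-- **the instance `GIn`** -/
theorem gin [Finite G] [Finite K] (h16 : 16 ≤ Nat.card K) {I : Type*} {Rf Qf : I → Subgroup G}
    (B : Beta M V Rf Qf) (T : Meet.Mt V Rf Qf) {i j : I} (hij : i ≠ j) (hi : Rf i = d.R0) (hj : Rf j = d.Roo)
    (hu : ∀ y ∈ Qf i, ∃ a, d.Act y (u a).1) (hu' : ∀ a, ∃ y ∈ Qf i, d.Act y (u a).1)
    (hl : ∀ y ∈ Qf j, ∃ a, d.Act y (l a).1) (hl1 : ∃ y ∈ Qf j, d.Act y (l 1).1) (hm : Qf i ⊓ Qf j ≤ V)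
    (S : Sylow 2 G) (hSM : (S : Subgroup G) ≤ M) (hSR : (S : Subgroup G) ≤ normalizer (d.R0 : Set G)) :
    GIn (quad d.inv d.nt h16) S V (Rf i) (Qf i) (Qf j) (vv d) (pu d) (pl d) := by
  have hVnc : ∀ {x : G}, x ∈ V → ∀ {y : G}, y ∈ V → x * y = y * x := fun hx _ hy => d.comm hx hy
  -- `V ⊓ Q i = E0`
  have hVQ : ∀ x ∈ V, x ∈ Qf i → d.Z x = 0 := by
    intro x hx hxQ
    obtain ⟨y, hy, hya⟩ := hu' 1
    have h1 := T.QQ i y hy x hxQ
    rw [hi] at h1
    have h2 : y * x * y⁻¹ = (y * x * y⁻¹ * x⁻¹) * x := by group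
    have h3 := d.u_Y hya hx
    rw [h2, d.Y_mul h1.1 hx, h1.2.1, zero_add, one_mul] at h3
    exact left_eq_add.mp h3
  have hVQ' : ∀ x ∈ V, x ∈ Qf j → d.X x = 0 := by
    intro x hx hxQ
    obtain ⟨y, hy, hya⟩ := hl1
    have h1 := T.QQ j y hy x hxQ
    rw [hj] at h1
    have h2 : y * x * y⁻¹ = (y * x * y⁻¹ * x⁻¹) * x := by group
    have h3 := l_Y d hya hx
    rw [h2, d.Y_mul h1.1 hx, h1.2.2, zero_add, map_one, one_mul] at h3
    exact left_eq_add.mp h3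
  have hEle : ∀ x ∈ V, d.Z x = 0 → x ∈ Qf i := by
    intro x hx hZ
    have h1 := T.VE i j hij hx
    have hn : V ⊓ Qf i ≤ normalizer (Rf j : Set G) := by
      intro e he
      apply Meet.mem_normalizer_of_cj
      apply Meet.cj_eq_of_comm
      intro r hr
      exact d.comm he.1 (T.R_le j hr)
    rw [← SetLike.mem_coe, Subgroup.coe_mul_of_left_le_normalizer_right _ _ hn, Set.mem_mul] at h1
    obtain ⟨e, he, r, hr, rfl⟩ := h1
    have he' : e ∈ V ⊓ Qf i := he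
    have hr' : r ∈ Rf j := hr
    rw [hj] at hr'
    have h2 := hVQ e he'.1 he'.2
    have h3 : d.Z r = 0 := by
      rw [d.Z_mul he'.1 hr'.1, h2, zero_add] at hZ
      exact hZ
    have h4 : r = 1 := by
      apply d.ext hr'.1 V.one_mem
      · rw [hr'.2.1, d.X_one]
      · rw [hr'.2.2, d.Y_one]
      · rw [h3, d.Z_one]
    rw [h4, mul_one]; exact he'.2
  have hEle' : ∀ x ∈ V, d.X x = 0 → x ∈ Qf j := by
    intro x hx hZ
    have h1 := T.VE j i hij.symm hx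
    have hn : V ⊓ Qf j ≤ normalizer (Rf i : Set G) := by
      intro e he
      apply Meet.mem_normalizer_of_cj
      apply Meet.cj_eq_of_comm
      intro r hr
      exact d.comm he.1 (T.R_le i hr)
    rw [← SetLike.mem_coe, Subgroup.coe_mul_of_left_le_normalizer_right _ _ hn, Set.mem_mul] at h1
    obtain ⟨e, he, r, hr, rfl⟩ := h1
    have he' : e ∈ V ⊓ Qf j := he
    have hr' : r ∈ Rf i := hr
    rw [hi] at hr'
    have h2 := hVQ' e he'.1 he'.2
    have h3 : d.X r = 0 := by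
      rw [d.X_mul he'.1 hr'.1, h2, zero_add] at hZ
      exact hZ
    have h4 : r = 1 := by
      apply d.ext hr'.1 V.one_mem
      · rw [h3, d.X_one]
      · rw [hr'.2.1, d.Y_one]
      · rw [hr'.2.2, d.Z_one]
    rw [h4, mul_one]; exact he'.2
  have hQM : ∀ {y : G}, y ∈ Qf i → y ∈ M := fun hy => B.Q_M i hy
  have hQM' : ∀ {y : G}, y ∈ Qf j → y ∈ M := fun hy => B.Q_M j hy
  have htriv : ∀ s : G, s ∈ M → (∀ r ∈ d.R0, s * r * s⁻¹ = r) →
      ((∀ b, ∃ a, s * vv d 0 b 0 * s⁻¹ = vv d a b 0) ↔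
        ∀ v ∈ V, d.Z v = 0 → d.Y (s * v * s⁻¹) = d.Y v) := by
    intro s hs hsc
    have hcj := CoAct.cj_of_fix hsc
    constructor
    · intro h v hv hZ
      obtain ⟨a, ha⟩ := h (d.Y v)
      have h1 : v = vv d ⟨d.X v, d.sX hv⟩ 0 0 * vv d 0 (d.Y v) 0 := by
        rw [← vv_add, add_zero, add_zero, zero_add]
        exact eq_vv d hv rfl rfl (by rw [hZ]; rfl)
      have h2 : s * v * s⁻¹ = (s * vv d ⟨d.X v, d.sX hv⟩ 0 0 * s⁻¹) * (s * vv d 0 (d.Y v) 0 * s⁻¹) := by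
        conv_lhs => rw [h1]
        group
      rw [h2, ha, hsc _ ((mem_R0_vv d).mpr ⟨_, rfl⟩), d.Y_mul (vv_mem d _ _ _) (vv_mem d _ _ _), vv_Y, vv_Y,
        zero_add]
    · intro h b
      have hv := vv_mem d 0 b 0
      have h1 := h _ hv (vv_Z d _ _ _)
      rw [vv_Y] at h1
      have h2 := d.conj_mem' hs hv
      have h3 := CoAct.nor_E0 d hs hcj hv (vv_Z d _ _ _)
      exact ⟨⟨d.X (s * vv d 0 b 0 * s⁻¹), d.sX h2⟩, eq_vv d h2 rfl h1 (by rw [h3]; rfl)⟩
  have hfixR : ∀ s : G, s ∈ centralizer (Rf i : Set G) → ∀ r ∈ d.R0, s * r * s⁻¹ = r := by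
    intro s hs r hr
    rw [← hi] at hr
    rw [← (mem_centralizer_iff.mp hs) r hr]; group
  constructor
  · -- sp
    refine ⟨T.R_Q i, T.QQ i, T.RQ i, T.Qsq i, T.cen i, ?_, ?_, ?_, ?_, ?_⟩
    · intro s t
      have := vv_add d s 0 0 t 0 0
      rwa [add_zero, add_zero] at this
    · intro s
      rw [hi]; exact (mem_R0_vv d).mpr ⟨s, rfl⟩
    · intro r hr
      rw [hi] at hr
      obtain ⟨a, ha⟩ := (mem_R0_vv d).mp hr
      exact ⟨a, ha.symm⟩
    · intro s t h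
      exact (vv_inj d h).1
    · apply Subtype.ext
      exact CharTwo.two_eq_zero
  · intro a b c a' b' c'
    exact vv_add d a b c a' b' c'
  · intro a b c h
    rw [← vv_zero d] at h
    exact vv_inj d h
  · exact vv_mem d
  · intro x hx
    exact exists_eq d hx
  · exact B.two i
  · intro x hx y hy
    obtain ⟨a, ha⟩ := hu x hx
    obtain ⟨b, hb⟩ := hu y hy
    have h1 := ha.mulS hb (hQM hy)
    rw [u_mul] at h1
    rw [pu_eq d ha, pu_eq d hb, pu_eq d h1]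
  · intro a
    obtain ⟨y, hy, ha⟩ := hu' a
    exact ⟨y, hy, pu_eq d ha⟩
  · intro y hy a b c
    obtain ⟨t, ht⟩ := hu y hy
    rw [pu_eq d ht]
    have hv := vv_mem d a b c
    apply eq_vv d (d.conj_mem' (hQM hy) hv)
    · rw [d.u_X ht hv, vv_X, vv_Y, vv_Z]
      change (a : K) + t * σ b + b * σ t + t * σ t * c = (a : K) + (σ t * b + σ (σ t * b)) + (t * σ t) * c
      rw [map_mul, d.inv]; ring
    · rw [d.u_Y ht hv, vv_Y, vv_Z]; rfl
    · rw [d.u_Z ht hv, vv_Z]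
  · intro a b
    exact hEle _ (vv_mem d _ _ _) (vv_Z d _ _ _)
  · intro a b c h
    have h1 := hVQ _ (vv_mem d _ _ _) h
    rw [vv_Z] at h1
    exact Subtype.ext h1
  · exact B.nor i
  · -- max
    intro N hN hNC hNn
    obtain ⟨X, hX2, hXC, hXn, hXmax⟩ := exists_two_core (centralizer (Rf i : Set G))
    have hNX := hXmax N hN hNC hNn
    have hCn : ∀ c ∈ normalizer (Rf i : Set G), ∀ z ∈ centralizer (Rf i : Set G),
        c * z * c⁻¹ ∈ centralizer (Rf i : Set G) := by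
      intro c hc z hz
      rw [mem_centralizer_iff] at hz ⊢
      intro r hr
      have h1 : c⁻¹ * r * c ∈ Rf i := by
        have := (mem_normalizer_iff.mp ((normalizer (Rf i : Set G)).inv_mem hc) r).mp hr
        rwa [inv_inv] at this
      have h2 := hz _ h1
      calc r * (c * z * c⁻¹) = c * ((c⁻¹ * r * c) * z) * c⁻¹ := by group
        _ = c * (z * (c⁻¹ * r * c)) * c⁻¹ := by rw [h2]
        _ = c * z * c⁻¹ * r := by group
    refine hNX.trans (B.max i X hX2 ?_ ?_)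
    · exact hXC.trans (Subgroup.centralizer_le_normalizer _)
    · intro c hc x hx
      -- `cj c X ≤ X`
      have h1 : cj c X ≤ X := by
        apply hXmax
        · rw [cj]
          exact hX2.map (MulAut.conj c).toMonoidHom
        · intro z hz
          rw [mem_cj] at hz
          have h2 := hCn c hc _ (hXC hz)
          have h3 : c * (c⁻¹ * z * c) * c⁻¹ = z := by group
          rwa [h3] at h2
        · intro b hb y hy
          rw [mem_cj] at hy ⊢
          have h2 := hCn c⁻¹ (inv_mem hc) b hb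
          have h3 := hXn _ h2 _ hy
          have h4 : c⁻¹ * b * c⁻¹⁻¹ * (c⁻¹ * y * c) * (c⁻¹ * b * c⁻¹⁻¹)⁻¹ = c⁻¹ * (b * y * b⁻¹) * c := by
            group
          rwa [h4] at h3
      exact h1 (conj_mem_cj hx)
  · exact B.char2 i
  · intro x hx y hy
    obtain ⟨a, ha⟩ := hl x hx
    obtain ⟨b, hb⟩ := hl y hy
    have h1 := ha.mulS hb (hQM' hy)
    rw [l_mul] at h1
    rw [pl_eq d ha, pl_eq d hb, pl_eq d h1]
  · intro y hy a b c
    obtain ⟨t, ht⟩ := hl y hy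
    rw [pl_eq d ht]
    have hv := vv_mem d a b c
    apply eq_vv d (d.conj_mem' (hQM' hy) hv)
    · rw [l_X d ht hv, vv_X]
    · rw [l_Y d ht hv, vv_Y, vv_X]; rfl
    · rw [l_Z d ht hv, vv_X, vv_Y, vv_Z]
      change (c : K) + (t * b + σ t * σ b) + t * σ t * a = (c : K) + (t * b + σ (t * b)) + (t * σ t) * a
      rw [map_mul]
  · intro b c
    exact hEle' _ (vv_mem d _ _ _) (vv_X d _ _ _)
  · intro c hc y hy
    exact T.C_conj j hc hy
  · intro x hx y hy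
    have h1 := T.QQ j x hx y hy
    rw [hj] at h1
    exact (mem_Roo_vv d).mp h1
  · intro x hx hx'
    have hV := hm ⟨hx, hx'⟩
    exact ⟨d.Y x, eq_vv d hV (hVQ' x hV hx') rfl (hVQ x hV hx)⟩
  · exact hSM.trans d.nor
  · rw [hi]; exact hSR
  · -- S_U
    intro s hs hsR ht
    have hc := hfixR s hsR
    have h1 := (htriv s (hSM hs) hc).mp ht
    obtain ⟨b, hb⟩ := CoAct.act_of_triv d (hSM hs) hc h1
    obtain ⟨y, hy, hyb⟩ := hu' b
    refine ⟨y, hy, ?_⟩
    have h2 := hb.mulS (hyb.inv (hQM hy)) (M.inv_mem (hQM hy))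
    rw [mul_inv_cancel] at h2
    exact (act_one_iff (d := d) (M.mul_mem (hSM hs) (M.inv_mem (hQM hy)))).mp h2
  · -- S_2
    intro s hs hsR t ht htR
    have hc := hfixR s hsR
    have hc' := hfixR t htR
    have hcc : ∀ r ∈ d.R0, (s * t) * r * (s * t)⁻¹ = r := by
      intro r hr
      have e : (s * t) * r * (s * t)⁻¹ = s * (t * r * t⁻¹) * s⁻¹ := by group
      rw [e, hc' r hr, hc r hr]
    rw [htriv s (hSM hs) hc, htriv t (hSM ht) hc', htriv (s * t) (M.mul_mem (hSM hs) (hSM ht)) hcc]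
    exact CoAct.two_cases d S.isPGroup' hSM hs ht hc hc'

end inst

end Cfsg.Agent.Omega.NOne.SU.GInst

end

section


/-!
# THE FIELD (step (0) of THEOREM SU, #13356), abstract part

`α : K → Hom(M, N)`, `β : K → Hom(N, M)` additive with `β(1/l) = α(l)⁻¹` and `α(l²m) = α(l) β(m) α(l)`.
Then `θ l = α l ∘ β 1` is a ring homomorphism `K → End N`, `N` and `M` are `K`-modules with `α l = l • α 1`,
`β l = l • β 1`, and `n(l) = (α l, β l⁻¹)` gives the torus `h l = n(l) n(1)` of weights `l` on `N`, `l⁻¹` on `M`.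
-/

set_option autoImplicit false

namespace Cfsg.Agent.Omega.NOne.SU

/-- The data of a rank 1 situation: `x(l)` acts as `1 + α l`, `y(l)` as `1 + β l` on `N ⊕ M`. -/
structure Hua (K : Type*) [Field K] (M N : Type*) [AddCommGroup M] [AddCommGroup N] where
  α : K → M → N
  β : K → N → M
  α_add : ∀ l m m', α l (m + m') = α l m + α l m'
  β_add : ∀ l n n', β l (n + n') = β l n + β l n'
  add_α : ∀ l l' m, α (l + l') m = α l m + α l' m
  add_β : ∀ l l' n, β (l + l') n = β l n + β l' n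
  βα : ∀ l, l ≠ 0 → ∀ m, β l⁻¹ (α l m) = m
  αβ : ∀ l, l ≠ 0 → ∀ n, α l (β l⁻¹ n) = n
  hua : ∀ l m x, l ≠ 0 → m ≠ 0 → α (l * l * m) x = α l (β m (α l x))

namespace Hua

section

variable {K : Type*} [Field K] {M N : Type*} [AddCommGroup M] [AddCommGroup N] (D : Hua K M N)
include D

theorem zero_α (m : M) : D.α 0 m = 0 := by
  have := D.add_α 0 0 m
  simpa using this

theorem zero_β (n : N) : D.β 0 n = 0 := by
  have := D.add_β 0 0 n
  simpa using this

theorem α_zero (l : K) : D.α l 0 = 0 := by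
  have := D.α_add l 0 0
  simpa using this

theorem β_zero (l : K) : D.β l 0 = 0 := by
  have := D.β_add l 0 0
  simpa using this

theorem β1α (m : M) : D.β 1 (D.α 1 m) = m := by
  have := D.βα 1 one_ne_zero m
  simpa using this

theorem α1β (n : N) : D.α 1 (D.β 1 n) = n := by
  have := D.αβ 1 one_ne_zero n
  simpa using this

theorem hua' (l m : K) (x : M) : D.α (l * l * m) x = D.α l (D.β m (D.α l x)) := by
  by_cases hl : l = 0
  · subst hl
    rw [zero_mul, zero_mul, D.zero_α, D.zero_α]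
  by_cases hm : m = 0
  · subst hm
    rw [mul_zero, D.zero_α, D.zero_β, D.α_zero]
  exact D.hua l m x hl hm

/-- `β m = β 1 ∘ α m ∘ β 1` -/
theorem β_eq (m : K) (n : N) : D.β m n = D.β 1 (D.α m (D.β 1 n)) := by
  have := D.hua' 1 m (D.β 1 n)
  rw [one_mul, one_mul, D.α1β] at this
  rw [this, D.β1α]

variable [CharP K 2]

omit D in
theorem h2 : (1 : K) + 1 = 0 := CharTwo.add_self_eq_zero (1 : K)

theorem two_N (n : N) : n + n = 0 := by
  have := D.add_α 1 1 (D.β 1 n)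
  rw [D.α1β, h2, D.zero_α] at this
  exact this.symm

theorem two_M (m : M) : m + m = 0 := by
  have := D.add_β 1 1 (D.α 1 m)
  rw [D.β1α, h2, D.zero_β] at this
  exact this.symm

theorem eq_of_add {a b : N} (h : a + b = 0) : a = b := by
  have h1 := D.two_N b
  exact add_right_cancel (h.trans h1.symm)

/-- the linearised relation -/
theorem lin (l m n : K) (x : M) : D.α l (D.β m (D.α n x)) = D.α n (D.β m (D.α l x)) := by
  have h1 := D.hua' (l + n) m x
  have h3 : (l + n) * (l + n) * m = l * l * m + n * n * m := by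
    have : l * n + n * l = 0 := by rw [mul_comm n l]; exact CharTwo.add_self_eq_zero _
    calc (l + n) * (l + n) * m = l * l * m + n * n * m + (l * n + n * l) * m := by ring
      _ = l * l * m + n * n * m := by rw [this]; ring
  rw [h3, D.add_α, D.hua', D.hua', D.add_α l n (D.β m (D.α (l + n) x)), D.add_α l n x,
    (by intro a b; exact D.β_add m a b : ∀ a b, D.β m (a + b) = D.β m a + D.β m b),
    D.α_add, D.α_add] at h1
  apply D.eq_of_add
  have h4 : D.α l (D.β m (D.α l x)) + D.α n (D.β m (D.α n x)) =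
      (D.α l (D.β m (D.α l x)) + D.α n (D.β m (D.α n x))) +
        (D.α l (D.β m (D.α n x)) + D.α n (D.β m (D.α l x))) := by
    refine h1.trans ?_
    abel
  exact (left_eq_add.mp h4)

/-- `θ l = α l ∘ β 1` on `N` -/
theorem θ_comm (l n : K) (x : N) : D.α l (D.β 1 (D.α n (D.β 1 x))) = D.α n (D.β 1 (D.α l (D.β 1 x))) :=
  D.lin l 1 n _

theorem θ_sq (l m : K) (x : N) : D.α (l * l * m) (D.β 1 x) =
    D.α (l * l) (D.β 1 (D.α m (D.β 1 x))) := by
  have e : ∀ y : M, D.α (l * l) y = D.α l (D.β 1 (D.α l y)) := fun y => by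
    have := D.hua' l 1 y
    rwa [mul_one] at this
  rw [D.hua', D.β_eq m, e, D.θ_comm m l]

theorem θ_mul (hsq : ∀ a : K, ∃ l, a = l * l) (a m : K) (x : N) :
    D.α (a * m) (D.β 1 x) = D.α a (D.β 1 (D.α m (D.β 1 x))) := by
  obtain ⟨l, rfl⟩ := hsq a
  exact D.θ_sq l m x

theorem θ_mul' [Finite K] (a m : K) (x : N) :
    D.α (a * m) (D.β 1 x) = D.α a (D.β 1 (D.α m (D.β 1 x))) :=
  D.θ_mul (fun a => by
    obtain ⟨l, hl⟩ := FiniteField.isSquare_of_char_two (F := K) (ringChar.eq K 2) a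
    exact ⟨l, hl⟩) a m x

end

section

variable {K : Type*} [Field K] [Finite K] [CharP K 2] {M N : Type*} [AddCommGroup M] [AddCommGroup N]
  (D : Hua K M N)

/-- **the ring homomorphism** `θ : K → End N`, `θ l = α l ∘ β 1`. -/
def θ : K →+* AddMonoid.End N where
  toFun l :=
    { toFun := fun n => D.α l (D.β 1 n)
      map_zero' := by rw [D.β_zero, D.α_zero]
      map_add' := fun a b => by rw [D.β_add, D.α_add] }
  map_one' := by
    ext n
    exact D.α1β n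
  map_mul' a b := by
    ext n
    exact D.θ_mul' a b n
  map_zero' := by
    ext n
    exact D.zero_α _
  map_add' a b := by
    ext n
    exact D.add_α a b _

theorem θ_apply (l : K) (n : N) : D.θ l n = D.α l (D.β 1 n) := rfl

/-- the ring homomorphism `K → End M`, `l ↦ β 1 ∘ α l`. -/
def θ' : K →+* AddMonoid.End M where
  toFun l :=
    { toFun := fun m => D.β 1 (D.α l m)
      map_zero' := by rw [D.α_zero, D.β_zero]
      map_add' := fun a b => by rw [D.α_add, D.β_add] }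
  map_one' := by
    ext m
    exact D.β1α m
  map_mul' a b := by
    ext m
    have := D.θ_mul' a b (D.α 1 m)
    rw [D.β1α] at this
    exact congrArg (D.β 1) this
  map_zero' := by
    ext m
    change D.β 1 (D.α 0 m) = 0
    rw [D.zero_α, D.β_zero]
  map_add' a b := by
    ext m
    change D.β 1 (D.α (a + b) m) = D.β 1 (D.α a m) + D.β 1 (D.α b m)
    rw [D.add_α, D.β_add]

theorem θ'_apply (l : K) (m : M) : D.θ' l m = D.β 1 (D.α l m) := rfl

theorem α_eq (l : K) (m : M) : D.α l m = D.θ l (D.α 1 m) := by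
  rw [D.θ_apply, D.β1α]

theorem α_eq' (l : K) (m : M) : D.α l m = D.α 1 (D.θ' l m) := by
  rw [D.θ'_apply, D.α1β]

theorem β_eq' (l : K) (n : N) : D.β l n = D.β 1 (D.θ l n) := D.β_eq l n

theorem β_eq'' (l : K) (n : N) : D.β l n = D.θ' l (D.β 1 n) := by
  rw [D.β_eq, D.θ'_apply]

theorem θ_mul_ap (l c : K) (n : N) : D.θ (l * c) n = D.θ l (D.θ c n) := by
  rw [map_mul]; rfl

theorem θ'_mul_ap (l c : K) (m : M) : D.θ' (l * c) m = D.θ' l (D.θ' c m) := by
  rw [map_mul]; rfl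

/-- `α 1` is `K`-linear -/
theorem α1_smul (c : K) (m : M) : D.α 1 (D.θ' c m) = D.θ c (D.α 1 m) := by
  rw [← D.α_eq', D.α_eq]

/-- `β 1` is `K`-linear -/
theorem β1_smul (c : K) (n : N) : D.β 1 (D.θ c n) = D.θ' c (D.β 1 n) := by
  rw [← D.β_eq', D.β_eq'']

/-- `α l` is `K`-linear -/
theorem α_smul (l c : K) (m : M) : D.α l (D.θ' c m) = D.θ c (D.α l m) := by
  rw [D.α_eq' l, ← D.θ'_mul_ap, mul_comm, D.θ'_mul_ap, D.α1_smul, ← D.α_eq']

/-- `β l` is `K`-linear -/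
theorem β_smul (l c : K) (n : N) : D.β l (D.θ c n) = D.θ' c (D.β l n) := by
  rw [D.β_eq' l, ← D.θ_mul_ap, mul_comm, D.θ_mul_ap, D.β1_smul, ← D.β_eq']

/-- the torus element `h l = n(l) n(1)` has weight `l` on `N` -/
theorem torus_N (l : K) (n : N) : D.α l (D.β 1 n) = D.θ l n := rfl

/-- the torus element `h l = n(l) n(1)` has weight `l⁻¹` on `M` -/
theorem torus_M (l : K) (m : M) : D.β l⁻¹ (D.α 1 m) = D.θ' l⁻¹ m := by
  rw [D.β_eq'', D.β1α]

/-- `N` as a `K`-module -/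
@[reducible] def modN : Module K N := Module.compHom N D.θ

/-- `M` as a `K`-module -/
@[reducible] def modM : Module K M := Module.compHom M D.θ'

/-- a pair of additive maps commuting with `α` (e.g. from an element of `C_G(V)`) is `K`-linear on `N` -/
theorem comm_of (u : N → N) (w : M → M) (hu : ∀ l m, D.α l (w m) = u (D.α l m)) (l : K) (n : N) :
    u (D.θ l n) = D.θ l (u n) := by
  have h1 := hu 1 (D.β 1 n)
  rw [D.α1β] at h1
  have h2 : D.β 1 (u n) = w (D.β 1 n) := by rw [← h1, D.β1α]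
  rw [D.θ_apply, D.θ_apply, h2, hu]

end

end Hua

end Cfsg.Agent.Omega.NOne.SU

end

section


/-!
# THE FIELD (step (0) of THEOREM SU, #13356), group part

`Frm K A B x y` : `x l` acts on `A × B` (elementary abelian) trivially on `A` and `(A B) / A`, `y l` trivially on `B` and
`(A B) / B`, `x`, `y` additive, `y l⁻¹` is matched with `x l`, and `n(l) y(m) n(l)⁻¹ ≡ x(l² m)` for `n(l) = x(l) y(l⁻¹) x(l)`.
`Frm.toHua` is the resulting `Hua K (Additive B) (Additive A)`.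
-/

set_option autoImplicit false

namespace Cfsg.Agent.Omega.NOne.SU

/-- the commutator `[x, b] = x b x⁻¹ b⁻¹` -/
abbrev cm {Γ : Type*} [Group Γ] (x b : Γ) : Γ := x * b * x⁻¹ * b⁻¹

/-- The frame of a rank 1 group over `K` acting on `A × B`. -/
structure Frm (K : Type*) [Field K] {Γ : Type*} [Group Γ] (A B : Subgroup Γ) (x y : K → Γ) : Prop where
  AA : ∀ a ∈ A, ∀ a' ∈ A, a * a' = a' * a
  BB : ∀ b ∈ B, ∀ b' ∈ B, b * b' = b' * b
  AB : ∀ a ∈ A, ∀ b ∈ B, a * b = b * a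
  A2 : ∀ a ∈ A, a * a = 1
  B2 : ∀ b ∈ B, b * b = 1
  xA : ∀ l, ∀ a ∈ A, x l * a = a * x l
  yB : ∀ l, ∀ b ∈ B, y l * b = b * y l
  xB : ∀ l, ∀ b ∈ B, cm (x l) b ∈ A
  yA : ∀ l, ∀ a ∈ A, cm (y l) a ∈ B
  x_add : ∀ l m, ∃ a ∈ A, x (l + m) = x l * x m * a
  y_add : ∀ l m, ∃ b ∈ B, y (l + m) = y l * y m * b
  mA : ∀ l, l ≠ 0 → ∀ a ∈ A, cm (x l) (cm (y l⁻¹) a) = a
  mB : ∀ l, l ≠ 0 → ∀ b ∈ B, cm (y l⁻¹) (cm (x l) b) = b
  hua : ∀ l m, l ≠ 0 → m ≠ 0 →
    ∃ a ∈ A, (x l * y l⁻¹ * x l) * y m * (x l * y l⁻¹ * x l)⁻¹ = x (l * l * m) * a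

theorem cm_mul_right {Γ : Type*} [Group Γ] {x b b' : Γ} (h : b * cm x b' = cm x b' * b) :
    cm x (b * b') = cm x b * cm x b' := by
  have h1 : cm x (b * b') = cm x b * (b * cm x b') * b⁻¹ := by simp only [cm]; group
  rw [h1, h]
  group

theorem cm_mul_left {Γ : Type*} [Group Γ] {x x' b : Γ} (h : x * cm x' b = cm x' b * x) :
    cm (x * x') b = cm x' b * cm x b := by
  have h1 : cm (x * x') b = x * cm x' b * b * x⁻¹ * b⁻¹ := by simp only [cm]; group
  rw [h1, h]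
  simp only [cm]; group

theorem cm_mul_comm {Γ : Type*} [Group Γ] {x a b : Γ} (h : a * b = b * a) :
    cm (x * a) b = cm x b := by
  have h1 : cm (x * a) b = x * (a * b) * a⁻¹ * x⁻¹ * b⁻¹ := by simp only [cm]; group
  rw [h1, h]
  simp only [cm]; group

namespace Frm

variable {K : Type*} [Field K] {Γ : Type*} [Group Γ] {A B : Subgroup Γ} {x y : K → Γ} (F : Frm K A B x y)
include F

theorem cx_mul {l : K} {b b' : Γ} (hb : b ∈ B) (hb' : b' ∈ B) : cm (x l) (b * b') = cm (x l) b * cm (x l) b' :=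
  cm_mul_right (F.AB _ (F.xB l b' hb') b hb).symm

theorem cy_mul {l : K} {a a' : Γ} (ha : a ∈ A) (ha' : a' ∈ A) : cm (y l) (a * a') = cm (y l) a * cm (y l) a' :=
  cm_mul_right (F.AB a ha _ (F.yA l a' ha'))

theorem cx_add {l m : K} {b : Γ} (hb : b ∈ B) : cm (x (l + m)) b = cm (x l) b * cm (x m) b := by
  obtain ⟨a, ha, h⟩ := F.x_add l m
  rw [h, cm_mul_comm (F.AB a ha b hb), cm_mul_left (F.xA l _ (F.xB m b hb)),
    F.AA _ (F.xB m b hb) _ (F.xB l b hb)]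

theorem cy_add {l m : K} {a : Γ} (ha : a ∈ A) : cm (y (l + m)) a = cm (y l) a * cm (y m) a := by
  obtain ⟨b, hb, h⟩ := F.y_add l m
  rw [h, cm_mul_comm (F.AB a ha b hb).symm, cm_mul_left (F.yB l _ (F.yA m a ha)),
    F.BB _ (F.yA m a ha) _ (F.yA l a ha)]

/-- `n(l)` maps `b` to `[x l, b]` -/
theorem n_B {l : K} (hl : l ≠ 0) {b : Γ} (hb : b ∈ B) :
    (x l * y l⁻¹ * x l) * b * (x l * y l⁻¹ * x l)⁻¹ = cm (x l) b := by
  have ha := F.xB l b hb
  have e1 : x l * b = cm (x l) b * b * x l := by simp only [cm]; group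
  have e2 : y l⁻¹ * cm (x l) b = b * cm (x l) b * y l⁻¹ := by
    have := F.mB l hl b hb
    calc y l⁻¹ * cm (x l) b = cm (y l⁻¹) (cm (x l) b) * cm (x l) b * y l⁻¹ := by
          simp only [cm]; group
      _ = b * cm (x l) b * y l⁻¹ := by rw [this]
  generalize cm (x l) b = a at *
  rw [mul_inv_eq_iff_eq_mul]
  calc x l * y l⁻¹ * x l * b = x l * y l⁻¹ * (x l * b) := by group
    _ = x l * (y l⁻¹ * a) * b * x l := by rw [e1]; group
    _ = x l * b * a * (y l⁻¹ * b) * x l := by rw [e2]; group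
    _ = x l * (b * a) * b * y l⁻¹ * x l := by rw [F.yB _ b hb]; group
    _ = x l * a * (b * b) * y l⁻¹ * x l := by rw [← F.AB a ha b hb]; group
    _ = a * (x l * y l⁻¹ * x l) := by rw [F.B2 b hb, F.xA l a ha]; group

/-- `n(l)` maps `a` to `[y l⁻¹, a]` -/
theorem n_A {l : K} (hl : l ≠ 0) {a : Γ} (ha : a ∈ A) :
    (x l * y l⁻¹ * x l) * a * (x l * y l⁻¹ * x l)⁻¹ = cm (y l⁻¹) a := by
  have hb := F.yA l⁻¹ a ha
  have e1 : y l⁻¹ * a = cm (y l⁻¹) a * a * y l⁻¹ := by simp only [cm]; group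
  have e2 : x l * cm (y l⁻¹) a = a * cm (y l⁻¹) a * x l := by
    have := F.mA l hl a ha
    calc x l * cm (y l⁻¹) a = cm (x l) (cm (y l⁻¹) a) * cm (y l⁻¹) a * x l := by
          simp only [cm]; group
      _ = a * cm (y l⁻¹) a * x l := by rw [this]
  generalize cm (y l⁻¹) a = b at *
  rw [mul_inv_eq_iff_eq_mul]
  calc x l * y l⁻¹ * x l * a = x l * y l⁻¹ * (x l * a) := by group
    _ = x l * (y l⁻¹ * a) * x l := by rw [F.xA l a ha]; group
    _ = (x l * b) * a * y l⁻¹ * x l := by rw [e1]; group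
    _ = a * b * (x l * a) * y l⁻¹ * x l := by rw [e2]; group
    _ = (a * b) * a * x l * y l⁻¹ * x l := by rw [F.xA l a ha]; group
    _ = b * (a * a) * x l * y l⁻¹ * x l := by rw [F.AB a ha b hb]; group
    _ = b * (x l * y l⁻¹ * x l) := by rw [F.A2 a ha]; group

theorem cx_hua {l m : K} (hl : l ≠ 0) (hm : m ≠ 0) {b : Γ} (hb : b ∈ B) :
    cm (x (l * l * m)) b = cm (x l) (cm (y m) (cm (x l) b)) := by
  obtain ⟨a, ha, h⟩ := F.hua l m hl hm
  have ha' := F.xB l b hb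
  have h1 : cm (x (l * l * m)) b = cm (x (l * l * m) * a) b := (cm_mul_comm (F.AB a ha b hb)).symm
  rw [h1, ← h]
  have h2 : (x l * y l⁻¹ * x l) * cm (x l) b * (x l * y l⁻¹ * x l)⁻¹ = b := by
    rw [F.n_A hl ha', F.mB l hl b hb]
  have h3 := F.n_B hl (F.yA m _ ha')
  rw [← h3]
  generalize cm (x l) b = a' at *
  generalize x l * y l⁻¹ * x l = n at *
  rw [← h2]
  simp only [cm]; group

/-- `A` is commutative -/
@[reducible] def commA : CommGroup ↥A :=
  { (inferInstance : Group ↥A) with mul_comm := fun a b => Subtype.ext (F.AA a a.2 b b.2) }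

/-- `B` is commutative -/
@[reducible] def commB : CommGroup ↥B :=
  { (inferInstance : Group ↥B) with mul_comm := fun a b => Subtype.ext (F.BB a a.2 b b.2) }

/-- **THE FIELD** -/
def toHua : @Hua K _ (Additive ↥B) (Additive ↥A) (@Additive.addCommGroup _ F.commB)
    (@Additive.addCommGroup _ F.commA) := by
  letI := F.commA
  letI := F.commB
  exact
  { α := fun l b => Additive.ofMul ⟨cm (x l) (Additive.toMul b : ↥B), F.xB l _ (Additive.toMul b).2⟩
    β := fun l a => Additive.ofMul ⟨cm (y l) (Additive.toMul a : ↥A), F.yA l _ (Additive.toMul a).2⟩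
    α_add := fun l b b' => by
      apply Additive.toMul.injective
      apply Subtype.ext
      exact F.cx_mul (Additive.toMul b).2 (Additive.toMul b').2
    β_add := fun l b b' => by
      apply Additive.toMul.injective
      apply Subtype.ext
      exact F.cy_mul (Additive.toMul b).2 (Additive.toMul b').2
    add_α := fun l l' b => by
      apply Additive.toMul.injective
      apply Subtype.ext
      exact F.cx_add (Additive.toMul b).2
    add_β := fun l l' b => by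
      apply Additive.toMul.injective
      apply Subtype.ext
      exact F.cy_add (Additive.toMul b).2
    βα := fun l hl b => by
      apply Additive.toMul.injective
      apply Subtype.ext
      exact F.mB l hl _ (Additive.toMul b).2
    αβ := fun l hl b => by
      apply Additive.toMul.injective
      apply Subtype.ext
      exact F.mA l hl _ (Additive.toMul b).2
    hua := fun l m b hl hm => by
      apply Additive.toMul.injective
      apply Subtype.ext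
      exact F.cx_hua hl hm (Additive.toMul b).2 }

end Frm

end Cfsg.Agent.Omega.NOne.SU

end

section


/-!
# THE FIELD (step (0) of THEOREM SU, #13356) in the group `G`

`Mt V R Q` = output of THEOREM BETA, `Q i ⊓ Q j ≤ V`, `x, y : K → G` a frame of the group induced by `⟨Q i, Q j⟩` on `V`
(`Fr`). Then there is a finite `K`-space `Φ` and surjections `πi : Q i ⊓ C(V) → Φ`, `πj : Q j ⊓ C(V) → Φ` with kernel
in `V`, such that `πi [x l, b] = l • πj b` and `πj [y l, a] = l • πi a` (`FldG`), i.e. `L / V = Φ ⊗ K²` as a module for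
`SL₂(K)`.
-/

set_option autoImplicit false
set_option linter.unusedVariables false

open Subgroup
open Cfsg.Agent.Omega.NO1.Beta.Meet

namespace Cfsg.Agent.Omega.NOne.SU

universe u v

variable {G : Type u} [Group G] {I : Type v}

/-- `n(l) = x(l) y(l⁻¹) x(l)` -/
abbrev nn {K : Type*} [Field K] (x y : K → G) (l : K) : G := x l * y l⁻¹ * x l

/-- A frame over `K` of the group induced on `V` by `⟨Q i, Q j⟩`: everything modulo `C(V)`. -/
structure Fr (K : Type*) [Field K] (V : Subgroup G) (R Q : I → Subgroup G) (i j : I) (x y : K → G) : Prop where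
  hx : ∀ l, x l ∈ Q i
  hy : ∀ l, y l ∈ Q j
  x_add : ∀ l m, (x l * x m)⁻¹ * x (l + m) ∈ centralizer (V : Set G)
  y_add : ∀ l m, (y l * y m)⁻¹ * y (l + m) ∈ centralizer (V : Set G)
  mat : ∀ l, l ≠ 0 → cj (x l) (R j) = cj (y l⁻¹) (R i)
  hua : ∀ l m, l ≠ 0 → m ≠ 0 →
    (x (l * l * m))⁻¹ * (nn x y l * y m * (nn x y l)⁻¹) ∈ centralizer (V : Set G)

/-- The field structure: `C / (C ⊓ V)` and `D / (D ⊓ V)` are both identified with the `K`-space `Φ`. -/
structure FldG (K Φ : Type*) [Field K] [AddCommGroup Φ] [Module K Φ] (V C D : Subgroup G) (x y : K → G)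
    (πC πD : G → Φ) : Prop where
  mulC : ∀ a ∈ C, ∀ a' ∈ C, πC (a * a') = πC a + πC a'
  mulD : ∀ b ∈ D, ∀ b' ∈ D, πD (b * b') = πD b + πD b'
  surC : ∀ p, ∃ a ∈ C, πC a = p
  surD : ∀ p, ∃ b ∈ D, πD b = p
  kerC : ∀ a ∈ C, (πC a = 0 ↔ a ∈ V)
  kerD : ∀ b ∈ D, (πD b = 0 ↔ b ∈ V)
  xD : ∀ l, ∀ b ∈ D, cm (x l) b ∈ C ∧ πC (cm (x l) b) = l • πD b
  yC : ∀ l, ∀ a ∈ C, cm (y l) a ∈ D ∧ πD (cm (y l) a) = l • πC a
  /-- `n(l) : D → C` is `l`, ... -/
  nD : ∀ l, l ≠ 0 → ∀ b ∈ D, nn x y l * b * (nn x y l)⁻¹ ∈ C ∧ πC (nn x y l * b * (nn x y l)⁻¹) = l • πD b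
  /-- ... `n(l) : C → D` is `l⁻¹` -/
  nC : ∀ l, l ≠ 0 → ∀ a ∈ C, nn x y l * a * (nn x y l)⁻¹ ∈ D ∧
    πD (nn x y l * a * (nn x y l)⁻¹) = l⁻¹ • πC a

section main

variable {K : Type*} [Field K] {V : Subgroup G} {R Q : I → Subgroup G} {i j : I} {x y : K → G}

theorem frm (M : Mt V R Q) (h : i ≠ j) (hm : Q i ⊓ Q j ≤ V) (F : Fr K V R Q i j x y)
    [hN : (V.subgroupOf (normalizer (V : Set G))).Normal] :
    Frm K (((Q i ⊓ centralizer (V : Set G)).subgroupOf (normalizer (V : Set G))).map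
        (QuotientGroup.mk' (V.subgroupOf (normalizer (V : Set G)))))
      (((Q j ⊓ centralizer (V : Set G)).subgroupOf (normalizer (V : Set G))).map
        (QuotientGroup.mk' (V.subgroupOf (normalizer (V : Set G)))))
      (fun l => QuotientGroup.mk' (V.subgroupOf (normalizer (V : Set G))) ⟨x l, M.Q_V i (F.hx l)⟩)
      (fun l => QuotientGroup.mk' (V.subgroupOf (normalizer (V : Set G))) ⟨y l, M.Q_V j (F.hy l)⟩) := by
  set N := normalizer (V : Set G) with hNdef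
  set N' := V.subgroupOf N with hN'def
  set P := QuotientGroup.mk' N' with hP
  have key : ∀ a b : ↥N, (a : G) * (b : G)⁻¹ ∈ V → P a = P b := by
    intro a b hab
    have h1 : P (a * b⁻¹) = 1 := by
      have : a * b⁻¹ ∈ N' := by
        rw [mem_subgroupOf]; exact hab
      exact (QuotientGroup.eq_one_iff _).mpr this
    rw [map_mul, map_inv] at h1
    exact mul_inv_eq_one.mp h1
  have keyR : ∀ a b : ↥N, (a : G)⁻¹ * (b : G) ∈ V → P a = P b := by
    intro a b hab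
    exact (QuotientGroup.eq (s := N')).mpr (by rw [mem_subgroupOf]; exact hab)
  have hcmm : ∀ a b : ↥N, (a : G) * b * (a : G)⁻¹ * (b : G)⁻¹ ∈ V → P a * P b = P b * P a := by
    intro a b hab
    rw [← map_mul, ← map_mul]
    apply key
    have : ((a * b : ↥N) : G) * ((b * a : ↥N) : G)⁻¹ = (a : G) * b * (a : G)⁻¹ * (b : G)⁻¹ := by
      simp only [coe_mul]; group
    rw [this]; exact hab
  have hswap := fun l hl => M.swap h (F.hx l) (F.hy l⁻¹) (F.mat l hl)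
  refine ⟨?_, ?_, ?_, ?_, ?_, ?_, ?_, ?_, ?_, ?_, ?_, ?_, ?_, ?_⟩
  · rintro _ ⟨a, ha, rfl⟩ _ ⟨b, hb, rfl⟩
    exact hcmm a b (M.R_le i (M.QQ i _ ha.1 _ hb.1))
  · rintro _ ⟨a, ha, rfl⟩ _ ⟨b, hb, rfl⟩
    exact hcmm a b (M.R_le j (M.QQ j _ ha.1 _ hb.1))
  · rintro _ ⟨a, ha, rfl⟩ _ ⟨b, hb, rfl⟩
    exact hcmm a b (M.comm_V h hm ha.1 ha.2 hb.1 hb.2)
  · rintro _ ⟨a, ha, rfl⟩
    rw [← map_mul, ← map_one P]
    apply key
    have := M.R_le i (M.Qsq i _ ha.1)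
    simpa using this
  · rintro _ ⟨a, ha, rfl⟩
    rw [← map_mul, ← map_one P]
    apply key
    have := M.R_le j (M.Qsq j _ ha.1)
    simpa using this
  · rintro l _ ⟨a, ha, rfl⟩
    exact hcmm _ a (M.R_le i (M.QQ i _ (F.hx l) _ ha.1))
  · rintro l _ ⟨b, hb, rfl⟩
    exact hcmm _ b (M.R_le j (M.QQ j _ (F.hy l) _ hb.1))
  · rintro l _ ⟨b, hb, rfl⟩
    have h1 := M.comm_mem (F.hx l) hb.1 hb.2
    exact ⟨⟨x l, M.Q_V i (F.hx l)⟩ * b * ⟨x l, M.Q_V i (F.hx l)⟩⁻¹ * b⁻¹, mem_inf.mpr h1, by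
      simp only [map_mul, map_inv]⟩
  · rintro l _ ⟨b, hb, rfl⟩
    have h1 := M.comm_mem (F.hy l) hb.1 hb.2
    exact ⟨⟨y l, M.Q_V j (F.hy l)⟩ * b * ⟨y l, M.Q_V j (F.hy l)⟩⁻¹ * b⁻¹, mem_inf.mpr h1, by
      simp only [map_mul, map_inv]⟩
  · intro l m
    refine ⟨P ((⟨x l, M.Q_V i (F.hx l)⟩ * ⟨x m, M.Q_V i (F.hx m)⟩)⁻¹ * ⟨x (l + m), M.Q_V i (F.hx _)⟩),
      ⟨_, ?_, rfl⟩, ?_⟩
    · exact mem_inf.mpr ⟨mul_mem (inv_mem (mul_mem (F.hx l) (F.hx m))) (F.hx _), F.x_add l m⟩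
    · simp only [map_mul, map_inv]; group
  · intro l m
    refine ⟨P ((⟨y l, M.Q_V j (F.hy l)⟩ * ⟨y m, M.Q_V j (F.hy m)⟩)⁻¹ * ⟨y (l + m), M.Q_V j (F.hy _)⟩),
      ⟨_, ?_, rfl⟩, ?_⟩
    · exact mem_inf.mpr ⟨mul_mem (inv_mem (mul_mem (F.hy l) (F.hy m))) (F.hy _), F.y_add l m⟩
    · simp only [map_mul, map_inv]; group
  · rintro l hl _ ⟨a, ha, rfl⟩
    have h1 := M.surj_V h hm (F.hx l) (F.hy l⁻¹) (F.mat l hl) ha.1 ha.2
    set X : ↥N := ⟨x l, M.Q_V i (F.hx l)⟩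
    set Y : ↥N := ⟨y l⁻¹, M.Q_V j (F.hy l⁻¹)⟩
    have h2 : P (X * (Y * a * Y⁻¹ * a⁻¹) * X⁻¹ * (Y * a * Y⁻¹ * a⁻¹)⁻¹) = P a := key _ _ h1
    simpa only [map_mul, map_inv] using h2
  · rintro l hl _ ⟨b, hb, rfl⟩
    have h1 := M.surj_V h.symm (by rw [inf_comm]; exact hm) (F.hy l⁻¹) (F.hx l) (F.mat l hl).symm hb.1 hb.2
    set X : ↥N := ⟨x l, M.Q_V i (F.hx l)⟩
    set Y : ↥N := ⟨y l⁻¹, M.Q_V j (F.hy l⁻¹)⟩
    have h2 : P (Y * (X * b * X⁻¹ * b⁻¹) * Y⁻¹ * (X * b * X⁻¹ * b⁻¹)⁻¹) = P b := key _ _ h1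
    simpa only [map_mul, map_inv] using h2
  · intro l m hl hm'
    have h1 := F.hua l m hl hm'
    have h2 : nn x y l * y m * (nn x y l)⁻¹ ∈ Q i := by
      rw [← (hswap l hl).2.1]
      exact conj_mem_cj (F.hy m)
    set X : ↥N := ⟨x l, M.Q_V i (F.hx l)⟩
    set Y : ↥N := ⟨y l⁻¹, M.Q_V j (F.hy l⁻¹)⟩
    set Z : ↥N := ⟨y m, M.Q_V j (F.hy m)⟩
    set U : ↥N := ⟨x (l * l * m), M.Q_V i (F.hx _)⟩
    refine ⟨P (U⁻¹ * ((X * Y * X) * Z * (X * Y * X)⁻¹)), ⟨_, ?_, rfl⟩, ?_⟩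
    · exact mem_inf.mpr ⟨mul_mem (inv_mem (F.hx _)) h2, h1⟩
    · simp only [map_mul, map_inv]; group

/-- **THE FIELD in the group.** -/
theorem exists_fld [Finite K] [CharP K 2] (M : Mt V R Q) (h : i ≠ j) (hm : Q i ⊓ Q j ≤ V)
    (F : Fr K V R Q i j x y) :
    ∃ (Φ : Type u) (_ : AddCommGroup Φ) (_ : Module K Φ) (πi πj : G → Φ),
      FldG K Φ V (Q i ⊓ centralizer (V : Set G)) (Q j ⊓ centralizer (V : Set G)) x y πi πj := by
  classical
  have hN : (V.subgroupOf (normalizer (V : Set G))).Normal :=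
    Subgroup.normal_subgroupOf_of_le_normalizer le_rfl
  have T := frm M h hm F
  set N := normalizer (V : Set G) with hNdef
  set N' := V.subgroupOf N with hN'def
  set P := QuotientGroup.mk' N' with hP
  set A := ((Q i ⊓ centralizer (V : Set G)).subgroupOf N).map P with hA
  set B := ((Q j ⊓ centralizer (V : Set G)).subgroupOf N).map P with hB
  let i1 := T.commA
  let i2 := T.commB
  let D := T.toHua
  have hCN : ∀ a ∈ Q i ⊓ centralizer (V : Set G), a ∈ N := fun a ha => M.Q_V i ha.1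
  have hDN : ∀ a ∈ Q j ⊓ centralizer (V : Set G), a ∈ N := fun a ha => M.Q_V j ha.1
  have hPA : ∀ a (ha : a ∈ Q i ⊓ centralizer (V : Set G)), P ⟨a, hCN a ha⟩ ∈ A := fun a ha =>
    ⟨_, ha, rfl⟩
  have hPB : ∀ a (ha : a ∈ Q j ⊓ centralizer (V : Set G)), P ⟨a, hDN a ha⟩ ∈ B := fun a ha =>
    ⟨_, ha, rfl⟩
  let f : G → Additive ↥A := fun g => if hg : g ∈ Q i ⊓ centralizer (V : Set G) then
    Additive.ofMul ⟨P ⟨g, hCN g hg⟩, hPA g hg⟩ else 0
  let e : G → Additive ↥B := fun g => if hg : g ∈ Q j ⊓ centralizer (V : Set G) then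
    Additive.ofMul ⟨P ⟨g, hDN g hg⟩, hPB g hg⟩ else 0
  have hf : ∀ g (hg : g ∈ Q i ⊓ centralizer (V : Set G)), f g =
    Additive.ofMul ⟨P ⟨g, hCN g hg⟩, hPA g hg⟩ := fun g hg => dif_pos hg
  have he : ∀ g (hg : g ∈ Q j ⊓ centralizer (V : Set G)), e g =
    Additive.ofMul ⟨P ⟨g, hDN g hg⟩, hPB g hg⟩ := fun g hg => dif_pos hg
  have hker : ∀ g : ↥N, P g = 1 ↔ (g : G) ∈ V := by
    intro g
    rw [← MonoidHom.mem_ker, QuotientGroup.ker_mk', hN'def, mem_subgroupOf]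
  have fD : ∀ l, ∀ b ∈ Q j ⊓ centralizer (V : Set G), cm (x l) b ∈ Q i ⊓ centralizer (V : Set G) ∧
      f (cm (x l) b) = D.α l (e b) := by
    intro l b hb
    have h1 : cm (x l) b ∈ Q i ⊓ centralizer (V : Set G) := mem_inf.mpr (M.comm_mem (F.hx l) hb.1 hb.2)
    refine ⟨h1, ?_⟩
    rw [hf _ h1, he b hb]
    apply Additive.toMul.injective
    apply Subtype.ext
    change P ⟨cm (x l) b, hCN _ h1⟩ = cm (P ⟨x l, M.Q_V i (F.hx l)⟩) (P ⟨b, hDN b hb⟩)
    simp only [cm, ← map_mul, ← map_inv]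
    rfl
  have eC : ∀ l, ∀ a ∈ Q i ⊓ centralizer (V : Set G), cm (y l) a ∈ Q j ⊓ centralizer (V : Set G) ∧
      e (cm (y l) a) = D.β l (f a) := by
    intro l b hb
    have h1 : cm (y l) b ∈ Q j ⊓ centralizer (V : Set G) := mem_inf.mpr (M.comm_mem (F.hy l) hb.1 hb.2)
    refine ⟨h1, ?_⟩
    rw [he _ h1, hf b hb]
    apply Additive.toMul.injective
    apply Subtype.ext
    change P ⟨cm (y l) b, hDN _ h1⟩ = cm (P ⟨y l, M.Q_V j (F.hy l)⟩) (P ⟨b, hCN b hb⟩)
    simp only [cm, ← map_mul, ← map_inv]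
    rfl
  have α1inj : ∀ b, D.α 1 b = 0 → b = 0 := by
    intro b hb
    have := D.β1α b
    rw [hb, D.β_zero] at this
    exact this.symm
  let i3 : Module K (Additive ↥A) := D.modN
  refine ⟨Additive ↥A, inferInstance, i3, f, fun g => D.α 1 (e g), ?_, ?_, ?_, ?_, ?_, ?_, ?_, ?_, ?_, ?_⟩
  · intro a ha a' ha'
    rw [hf _ (mul_mem ha ha'), hf _ ha, hf _ ha']
    rfl
  · intro a ha a' ha'
    rw [← D.α_add, he _ (mul_mem ha ha'), he _ ha, he _ ha']
    rfl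
  · intro p
    obtain ⟨a, ha, hap⟩ := (Additive.toMul p).2
    refine ⟨a, ha, ?_⟩
    rw [hf a ha]
    apply Additive.toMul.injective
    apply Subtype.ext
    exact hap
  · intro p
    obtain ⟨b, hb, hbp⟩ := (Additive.toMul (D.β 1 p)).2
    refine ⟨b, hb, ?_⟩
    have : e (b : G) = D.β 1 p := by
      rw [he b hb]
      apply Additive.toMul.injective
      apply Subtype.ext
      exact hbp
    change D.α 1 (e b) = p
    rw [this, D.α1β]
  · intro a ha
    rw [hf a ha, ← hker ⟨a, hCN a ha⟩]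
    constructor
    · intro h0
      have := congrArg Additive.toMul h0
      exact congrArg Subtype.val this
    · intro h0
      apply Additive.toMul.injective
      apply Subtype.ext
      exact h0
  · intro b hb
    change D.α 1 (e b) = 0 ↔ _
    rw [← hker ⟨b, hDN b hb⟩]
    constructor
    · intro h0
      have h1 := α1inj _ h0
      rw [he b hb] at h1
      have := congrArg Additive.toMul h1
      exact congrArg Subtype.val this
    · intro h0
      have : e b = 0 := by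
        rw [he b hb]
        apply Additive.toMul.injective
        apply Subtype.ext
        exact h0
      rw [this, D.α_zero]
  · intro l b hb
    refine ⟨(fD l b hb).1, ?_⟩
    rw [(fD l b hb).2]
    exact D.α_eq l (e b)
  · intro l a ha
    refine ⟨(eC l a ha).1, ?_⟩
    change D.α 1 (e (cm (y l) a)) = _
    rw [(eC l a ha).2, D.β_eq', D.α1β]
    rfl
  · intro l hl b hb
    have h1 : nn x y l * b * (nn x y l)⁻¹ ∈ Q i ⊓ centralizer (V : Set G) := by
      obtain ⟨s1, s2, -, -⟩ := M.swap h (F.hx l) (F.hy l⁻¹) (F.mat l hl)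
      refine mem_inf.mpr ⟨by rw [← s2]; exact conj_mem_cj hb.1, ?_⟩
      have e1 := M.Q_cent (F.hx l) (M.Q_cent (F.hy l⁻¹) (M.Q_cent (F.hx l) hb.2))
      have : nn x y l * b * (nn x y l)⁻¹ = x l * (y l⁻¹ * (x l * b * (x l)⁻¹) * (y l⁻¹)⁻¹) * (x l)⁻¹ := by
        simp only [nn]; group
      rw [this]; exact e1
    refine ⟨h1, ?_⟩
    have h2 := T.n_B hl (hPB b hb)
    rw [← (show f (cm (x l) b) = l • D.α 1 (e b) from by rw [(fD l b hb).2]; exact D.α_eq l (e b))]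
    rw [hf _ h1, hf _ (fD l b hb).1]
    apply Additive.toMul.injective
    apply Subtype.ext
    change P ⟨nn x y l * b * (nn x y l)⁻¹, hCN _ h1⟩ = P ⟨cm (x l) b, hCN _ (fD l b hb).1⟩
    have e2 : P ⟨cm (x l) b, hCN _ (fD l b hb).1⟩ = cm (P ⟨x l, M.Q_V i (F.hx l)⟩) (P ⟨b, hDN b hb⟩) := by
      simp only [cm, ← map_mul, ← map_inv]
      rfl
    rw [e2, ← h2]
    simp only [nn, ← map_mul, ← map_inv]
    rfl
  · intro l hl b hb
    have h1 : nn x y l * b * (nn x y l)⁻¹ ∈ Q j ⊓ centralizer (V : Set G) := by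
      obtain ⟨s1, s2, -, -⟩ := M.swap h (F.hx l) (F.hy l⁻¹) (F.mat l hl)
      refine mem_inf.mpr ⟨by rw [← s1]; exact conj_mem_cj hb.1, ?_⟩
      have e1 := M.Q_cent (F.hx l) (M.Q_cent (F.hy l⁻¹) (M.Q_cent (F.hx l) hb.2))
      have : nn x y l * b * (nn x y l)⁻¹ = x l * (y l⁻¹ * (x l * b * (x l)⁻¹) * (y l⁻¹)⁻¹) * (x l)⁻¹ := by
        simp only [nn]; group
      rw [this]; exact e1
    refine ⟨h1, ?_⟩
    have h2 := T.n_A hl (hPA b hb)
    have h3 : D.α 1 (e (cm (y l⁻¹) b)) = l⁻¹ • f b := by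
      rw [(eC l⁻¹ b hb).2, D.β_eq', D.α1β]
      rfl
    rw [← h3]
    change D.α 1 (e _) = D.α 1 (e _)
    congr 1
    rw [he _ h1, he _ (eC l⁻¹ b hb).1]
    apply Additive.toMul.injective
    apply Subtype.ext
    change P ⟨nn x y l * b * (nn x y l)⁻¹, hDN _ h1⟩ = P ⟨cm (y l⁻¹) b, hDN _ (eC l⁻¹ b hb).1⟩
    have e2 : P ⟨cm (y l⁻¹) b, hDN _ (eC l⁻¹ b hb).1⟩ =
        cm (P ⟨y l⁻¹, M.Q_V j (F.hy l⁻¹)⟩) (P ⟨b, hCN b hb⟩) := by
      simp only [cm, ← map_mul, ← map_inv]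
      rfl
    rw [e2, ← h2]
    simp only [nn, ← map_mul, ← map_inv]
    rfl

end main

namespace FldG

variable {K Φ : Type*} [Field K] [AddCommGroup Φ] [Module K Φ] {V C D : Subgroup G} {x y : K → G}
  {πC πD : G → Φ} (E : FldG K Φ V C D x y πC πD)
include E

theorem symm' : ∀ p, ∃ b ∈ D, πD b = p := E.surD

theorem oneC : πC 1 = 0 := by
  have := E.mulC 1 C.one_mem 1 C.one_mem
  rw [mul_one] at this
  exact left_eq_add.mp this

theorem oneD : πD 1 = 0 := by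
  have := E.mulD 1 D.one_mem 1 D.one_mem
  rw [mul_one] at this
  exact left_eq_add.mp this

theorem invC {a : G} (ha : a ∈ C) : πC a⁻¹ = - πC a := by
  have := E.mulC a ha a⁻¹ (C.inv_mem ha)
  rw [mul_inv_cancel, E.oneC] at this
  exact (neg_eq_of_add_eq_zero_right this.symm).symm

theorem invD {a : G} (ha : a ∈ D) : πD a⁻¹ = - πD a := by
  have := E.mulD a ha a⁻¹ (D.inv_mem ha)
  rw [mul_inv_cancel, E.oneD] at this
  exact (neg_eq_of_add_eq_zero_right this.symm).symm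

theorem eqC {a a' : G} (ha : a ∈ C) (ha' : a' ∈ C) : πC a = πC a' ↔ a⁻¹ * a' ∈ V := by
  rw [← E.kerC _ (C.mul_mem (C.inv_mem ha) ha'), E.mulC _ (C.inv_mem ha) _ ha', E.invC ha, neg_add_eq_zero]

theorem eqD {a a' : G} (ha : a ∈ D) (ha' : a' ∈ D) : πD a = πD a' ↔ a⁻¹ * a' ∈ V := by
  rw [← E.kerD _ (D.mul_mem (D.inv_mem ha) ha'), E.mulD _ (D.inv_mem ha) _ ha', E.invD ha, neg_add_eq_zero]

theorem eqC' {a a' : G} (ha : a ∈ C) (ha' : a' ∈ C) : πC a = πC a' ↔ a * a'⁻¹ ∈ V := by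
  rw [← E.kerC _ (C.mul_mem ha (C.inv_mem ha')), E.mulC _ ha _ (C.inv_mem ha'), E.invC ha', add_neg_eq_zero]

theorem eqD' {a a' : G} (ha : a ∈ D) (ha' : a' ∈ D) : πD a = πD a' ↔ a * a'⁻¹ ∈ V := by
  rw [← E.kerD _ (D.mul_mem ha (D.inv_mem ha')), E.mulD _ ha _ (D.inv_mem ha'), E.invD ha', add_neg_eq_zero]

/-- `Φ` is finite -/
theorem finite [Finite G] : Finite Φ :=
  Finite.of_surjective (fun a : ↥C => πC (a : G)) fun p => by
    obtain ⟨a, ha, h⟩ := E.surC p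
    exact ⟨⟨a, ha⟩, h⟩

/-- the torus element `h(l) = n(l) n(1)` has weight `l` on `C / (C ⊓ V)` ... -/
theorem hC {l : K} (hl : l ≠ 0) {a : G} (ha : a ∈ C) :
    (nn x y l * nn x y 1) * a * (nn x y l * nn x y 1)⁻¹ ∈ C ∧
      πC ((nn x y l * nn x y 1) * a * (nn x y l * nn x y 1)⁻¹) = l • πC a := by
  obtain ⟨h1, h2⟩ := E.nC 1 one_ne_zero a ha
  obtain ⟨h3, h4⟩ := E.nD l hl _ h1
  have h5 : (nn x y l * nn x y 1) * a * (nn x y l * nn x y 1)⁻¹ =
      nn x y l * (nn x y 1 * a * (nn x y 1)⁻¹) * (nn x y l)⁻¹ := by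
    generalize nn x y l = n
    generalize nn x y 1 = n'
    group
  rw [h5]
  refine ⟨h3, ?_⟩
  rw [h4, h2, inv_one, one_smul]

/-- ... and weight `l⁻¹` on `D / (D ⊓ V)` -/
theorem hD {l : K} (hl : l ≠ 0) {b : G} (hb : b ∈ D) :
    (nn x y l * nn x y 1) * b * (nn x y l * nn x y 1)⁻¹ ∈ D ∧
      πD ((nn x y l * nn x y 1) * b * (nn x y l * nn x y 1)⁻¹) = l⁻¹ • πD b := by
  obtain ⟨h1, h2⟩ := E.nD 1 one_ne_zero b hb
  obtain ⟨h3, h4⟩ := E.nC l hl _ h1
  have h5 : (nn x y l * nn x y 1) * b * (nn x y l * nn x y 1)⁻¹ =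
      nn x y l * (nn x y 1 * b * (nn x y 1)⁻¹) * (nn x y l)⁻¹ := by
    generalize nn x y l = n
    generalize nn x y 1 = n'
    group
  rw [h5]
  refine ⟨h3, ?_⟩
  rw [h4, h2, one_smul]

end FldG

section act

variable {K Φ : Type*} [Field K] [AddCommGroup Φ] [Module K Φ] {V : Subgroup G} {R Q : I → Subgroup G} {i j : I}
  {x y : K → G} {πi πj : G → Φ}

theorem cent_conj {k c : G} (hk : k ∈ normalizer (V : Set G)) (hc : c ∈ centralizer (V : Set G)) :
    k * c * k⁻¹ ∈ centralizer (V : Set G) := by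
  rw [mem_centralizer_iff] at hc ⊢
  intro v hv
  have h1 : k⁻¹ * v * k ∈ V := by
    have := (mem_normalizer_iff.mp ((normalizer (V : Set G)).inv_mem hk) v).mp hv
    rwa [inv_inv] at this
  have h2 := hc _ h1
  calc v * (k * c * k⁻¹) = k * ((k⁻¹ * v * k) * c) * k⁻¹ := by group
    _ = k * (c * (k⁻¹ * v * k)) * k⁻¹ := by rw [h2]
    _ = k * c * k⁻¹ * v := by group

/-- only the action of `z ∈ Q i` on `V` counts -/
theorem FldG.xD' (E : FldG K Φ V (Q i ⊓ centralizer (V : Set G)) (Q j ⊓ centralizer (V : Set G)) x y πi πj)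
    (M : Mt V R Q) (h : i ≠ j) (hm : Q i ⊓ Q j ≤ V) (F : Fr K V R Q i j x y) {l : K} {z b : G} (hz : z ∈ Q i)
    (hzl : (x l)⁻¹ * z ∈ centralizer (V : Set G)) (hb : b ∈ Q j ⊓ centralizer (V : Set G)) :
    cm z b ∈ Q i ⊓ centralizer (V : Set G) ∧ πi (cm z b) = l • πj b := by
  obtain ⟨h1, h2⟩ := E.xD l b hb
  have h0 : cm z b ∈ Q i ⊓ centralizer (V : Set G) := mem_inf.mpr (M.comm_mem hz hb.1 hb.2)
  refine ⟨h0, ?_⟩
  rw [← h2, E.eqC' h0 h1]
  have hc : (x l)⁻¹ * z ∈ Q i := mul_mem (inv_mem (F.hx l)) hz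
  have h3 := M.comm_V h hm hc hzl hb.1 hb.2
  have h4 := M.Q_V' (F.hx l) h3
  have h5 : cm z b * (cm (x l) b)⁻¹ = x l * ((x l)⁻¹ * z * b * ((x l)⁻¹ * z)⁻¹ * b⁻¹) * (x l)⁻¹ := by
    simp only [cm]; group
  rw [h5]; exact h4

theorem FldG.yC' (E : FldG K Φ V (Q i ⊓ centralizer (V : Set G)) (Q j ⊓ centralizer (V : Set G)) x y πi πj)
    (M : Mt V R Q) (h : i ≠ j) (hm : Q i ⊓ Q j ≤ V) (F : Fr K V R Q i j x y) {l : K} {z a : G} (hz : z ∈ Q j)
    (hzl : (y l)⁻¹ * z ∈ centralizer (V : Set G)) (ha : a ∈ Q i ⊓ centralizer (V : Set G)) :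
    cm z a ∈ Q j ⊓ centralizer (V : Set G) ∧ πj (cm z a) = l • πi a := by
  obtain ⟨h1, h2⟩ := E.yC l a ha
  have h0 : cm z a ∈ Q j ⊓ centralizer (V : Set G) := mem_inf.mpr (M.comm_mem hz ha.1 ha.2)
  refine ⟨h0, ?_⟩
  rw [← h2, E.eqD' h0 h1]
  have hc : (y l)⁻¹ * z ∈ Q j := mul_mem (inv_mem (F.hy l)) hz
  have h3 := M.comm_V h hm hc hzl ha.1 ha.2
  have h4 := M.Q_V' (F.hy l) h3
  have h5 : cm z a * (cm (y l) a)⁻¹ = y l * ((y l)⁻¹ * z * a * ((y l)⁻¹ * z)⁻¹ * a⁻¹) * (y l)⁻¹ := by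
    simp only [cm]; group
  rw [h5]; exact h4

/-- An element `k` which normalises `V`, `Q i`, `Q j` and induces `x l ↦ x (s l)` modulo `C(V)`. -/
theorem FldG.semilin
    (E : FldG K Φ V (Q i ⊓ centralizer (V : Set G)) (Q j ⊓ centralizer (V : Set G)) x y πi πj)
    (M : Mt V R Q) (h : i ≠ j) (hm : Q i ⊓ Q j ≤ V) (F : Fr K V R Q i j x y) {k : G}
    (hk : k ∈ normalizer (V : Set G)) (ki : cj k (Q i) = Q i) (kj : cj k (Q j) = Q j) (s : K → K)
    (hs : ∀ l, (x (s l))⁻¹ * (k * x l * k⁻¹) ∈ centralizer (V : Set G)) :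
    ∃ u w : Φ →+ Φ,
      (∀ a ∈ Q i ⊓ centralizer (V : Set G), k * a * k⁻¹ ∈ Q i ⊓ centralizer (V : Set G) ∧
        πi (k * a * k⁻¹) = u (πi a)) ∧
      (∀ b ∈ Q j ⊓ centralizer (V : Set G), k * b * k⁻¹ ∈ Q j ⊓ centralizer (V : Set G) ∧
        πj (k * b * k⁻¹) = w (πj b)) ∧ ∀ (l : K) (p : Φ), u (l • p) = s l • w p := by
  classical
  have kC : ∀ a ∈ Q i ⊓ centralizer (V : Set G), k * a * k⁻¹ ∈ Q i ⊓ centralizer (V : Set G) := fun a ha =>
    mem_inf.mpr ⟨by rw [← ki]; exact conj_mem_cj ha.1, cent_conj hk ha.2⟩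
  have kD : ∀ a ∈ Q j ⊓ centralizer (V : Set G), k * a * k⁻¹ ∈ Q j ⊓ centralizer (V : Set G) := fun a ha =>
    mem_inf.mpr ⟨by rw [← kj]; exact conj_mem_cj ha.1, cent_conj hk ha.2⟩
  have kV : ∀ v ∈ V, k * v * k⁻¹ ∈ V := fun v hv => (mem_normalizer_iff.mp hk v).mp hv
  choose c hc hcp using E.surC
  choose d hd hdp using E.surD
  have hu : ∀ a ∈ Q i ⊓ centralizer (V : Set G), πi (k * a * k⁻¹) = πi (k * c (πi a) * k⁻¹) := by
    intro a ha
    rw [E.eqC (kC a ha) (kC _ (hc _))]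
    have h1 := (E.eqC ha (hc _)).mp (hcp (πi a)).symm
    have h2 : (k * a * k⁻¹)⁻¹ * (k * c (πi a) * k⁻¹) = k * (a⁻¹ * c (πi a)) * k⁻¹ := by group
    rw [h2]; exact kV _ h1
  have hw : ∀ a ∈ Q j ⊓ centralizer (V : Set G), πj (k * a * k⁻¹) = πj (k * d (πj a) * k⁻¹) := by
    intro a ha
    rw [E.eqD (kD a ha) (kD _ (hd _))]
    have h1 := (E.eqD ha (hd _)).mp (hdp (πj a)).symm
    have h2 : (k * a * k⁻¹)⁻¹ * (k * d (πj a) * k⁻¹) = k * (a⁻¹ * d (πj a)) * k⁻¹ := by group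
    rw [h2]; exact kV _ h1
  have uadd : ∀ p p', πi (k * c (p + p') * k⁻¹) = πi (k * c p * k⁻¹) + πi (k * c p' * k⁻¹) := by
    intro p p'
    rw [← E.mulC _ (kC _ (hc p)) _ (kC _ (hc p'))]
    have h1 : k * c p * k⁻¹ * (k * c p' * k⁻¹) = k * (c p * c p') * k⁻¹ := by group
    rw [h1, hu _ (mul_mem (hc p) (hc p')), E.mulC _ (hc p) _ (hc p'), hcp, hcp]
  have wadd : ∀ p p', πj (k * d (p + p') * k⁻¹) = πj (k * d p * k⁻¹) + πj (k * d p' * k⁻¹) := by
    intro p p'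
    rw [← E.mulD _ (kD _ (hd p)) _ (kD _ (hd p'))]
    have h1 : k * d p * k⁻¹ * (k * d p' * k⁻¹) = k * (d p * d p') * k⁻¹ := by group
    rw [h1, hw _ (mul_mem (hd p) (hd p')), E.mulD _ (hd p) _ (hd p'), hdp, hdp]
  refine ⟨AddMonoidHom.mk' (fun p => πi (k * c p * k⁻¹)) uadd,
    AddMonoidHom.mk' (fun p => πj (k * d p * k⁻¹)) wadd, fun a ha => ⟨kC a ha, hu a ha⟩,
    fun b hb => ⟨kD b hb, hw b hb⟩, ?_⟩
  intro l p
  obtain ⟨h1, h2⟩ := E.xD l _ (hd p)
  rw [hdp] at h2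
  change πi (k * c (l • p) * k⁻¹) = s l • πj (k * d p * k⁻¹)
  rw [← h2, ← hu _ h1]
  have hz : k * x l * k⁻¹ ∈ Q i := by rw [← ki]; exact conj_mem_cj (F.hx l)
  have h3 := (E.xD' M h hm F hz (hs l) (kD _ (hd p))).2
  rw [← h3]
  congr 1
  simp only [cm]; group

/-- `C_G(V)` acts `K`-linearly, and in the same way on both groups. -/
theorem FldG.lin
    (E : FldG K Φ V (Q i ⊓ centralizer (V : Set G)) (Q j ⊓ centralizer (V : Set G)) x y πi πj)
    (M : Mt V R Q) (h : i ≠ j) (hm : Q i ⊓ Q j ≤ V) (F : Fr K V R Q i j x y) {k : G}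
    (hk : k ∈ centralizer (V : Set G)) :
    ∃ u : Φ →ₗ[K] Φ,
      (∀ a ∈ Q i ⊓ centralizer (V : Set G), k * a * k⁻¹ ∈ Q i ⊓ centralizer (V : Set G) ∧
        πi (k * a * k⁻¹) = u (πi a)) ∧
      (∀ b ∈ Q j ⊓ centralizer (V : Set G), k * b * k⁻¹ ∈ Q j ⊓ centralizer (V : Set G) ∧
        πj (k * b * k⁻¹) = u (πj b)) := by
  have hN : k ∈ normalizer (V : Set G) := by
    apply mem_normalizer_of_cj
    apply cj_eq_of_comm
    intro v hv
    exact ((mem_centralizer_iff.mp hk) v hv).symm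
  obtain ⟨u, w, h1, h2, h3⟩ := E.semilin M h hm F hN (M.C_nor i hk) (M.C_nor j hk) id (by
    intro l
    have e1 := M.Q_cent ((Q i).inv_mem (F.hx l)) hk
    have e2 : (x (id l))⁻¹ * (k * x l * k⁻¹) = ((x l)⁻¹ * k * (x l)⁻¹⁻¹) * k⁻¹ := by
      simp only [id]; group
    rw [e2]
    exact mul_mem e1 (inv_mem hk))
  have h4 : ∀ p, u p = w p := fun p => by
    have := h3 1 p
    simpa using this
  refine ⟨{ toFun := u, map_add' := u.map_add, map_smul' := fun l p => ?_ }, h1, fun b hb => ?_⟩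
  · change u (l • p) = l • u p
    rw [h3 l p, h4]; rfl
  · refine ⟨(h2 b hb).1, ?_⟩
    change _ = u (πj b)
    rw [(h2 b hb).2, h4]

end act

end Cfsg.Agent.Omega.NOne.SU

end

section


/-!
# THE FIELD (step (0) of THEOREM UNI): `GIn` and `Mt` give `Fld`
-/

set_option autoImplicit false
set_option linter.unusedVariables false
set_option linter.unusedSectionVars false

open Subgroup
open Cfsg.Agent.Omega.NO1.Beta.Meet

namespace Cfsg.Agent.Omega.NOne.SU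

universe u

namespace QuadF

variable {k F : Type*} [Field k] [Field F] [Algebra k F] (T : Quad k F)
include T

theorem sg_ne {x : F} (hx : x ≠ 0) : T.sg x ≠ 0 := by simpa using hx

theorem nm_mul (x y : F) : T.nm (x * y) = T.nm x * T.nm y := by
  apply (algebraMap k F).injective
  rw [map_mul, T.nm_eq, T.nm_eq, T.nm_eq, map_mul]; ring

theorem nm_zero : T.nm 0 = 0 := by
  apply (algebraMap k F).injective
  rw [T.nm_eq]; simp

theorem nm_one : T.nm 1 = 1 := by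
  apply (algebraMap k F).injective
  rw [T.nm_eq]; simp

theorem nm_ne {x : F} (hx : x ≠ 0) : T.nm x ≠ 0 := by
  intro h
  have h1 := T.nm_eq x
  rw [h, map_zero] at h1
  exact (mul_ne_zero hx (sg_ne T hx)) h1.symm

/-- the action of `n(l)` on hermitian matrices: the three coordinates -/
theorem nA (h2 : (2 : F) = 0) {l : F} (hl : l ≠ 0) (a : k) (b : F) (d : k) :
    (let a1 := a + T.tr (T.sg l * b) + T.nm l * d
     let b1 := b + l * algebraMap k F d
     let d2 := d + T.tr (l⁻¹ * b1) + T.nm l⁻¹ * a1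
     let b2 := b1 + T.sg l⁻¹ * algebraMap k F a1
     a1 + T.tr (T.sg l * b2) + T.nm l * d2) = T.nm l * d := by
  have hs := sg_ne T hl
  apply (algebraMap k F).injective
  simp only [map_add, map_mul, T.tr_eq, T.nm_eq, T.sg_sg, map_inv₀, AlgEquiv.commutes]
  generalize algebraMap k F a = A
  generalize algebraMap k F d = D
  generalize T.sg l = s at *
  generalize T.sg b = b' at *
  grind

theorem nB (h2 : (2 : F) = 0) {l : F} (hl : l ≠ 0) (a : k) (b : F) (d : k) :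
    (let a1 := a + T.tr (T.sg l * b) + T.nm l * d
     let b1 := b + l * algebraMap k F d
     let d2 := d + T.tr (l⁻¹ * b1) + T.nm l⁻¹ * a1
     let b2 := b1 + T.sg l⁻¹ * algebraMap k F a1
     b2 + l * algebraMap k F d2) = l * (T.sg l)⁻¹ * T.sg b := by
  have hs := sg_ne T hl
  simp only [map_add, map_mul, T.tr_eq, T.nm_eq, T.sg_sg, map_inv₀, AlgEquiv.commutes]
  generalize algebraMap k F a = A
  generalize algebraMap k F d = D
  generalize T.sg l = s at *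
  generalize T.sg b = b' at *
  grind

theorem nD (h2 : (2 : F) = 0) {l : F} (hl : l ≠ 0) (a : k) (b : F) (d : k) :
    (let a1 := a + T.tr (T.sg l * b) + T.nm l * d
     let b1 := b + l * algebraMap k F d
     d + T.tr (l⁻¹ * b1) + T.nm l⁻¹ * a1) = (T.nm l)⁻¹ * a := by
  have hs := sg_ne T hl
  apply (algebraMap k F).injective
  simp only [map_add, map_mul, T.tr_eq, T.nm_eq, T.sg_sg, map_inv₀, AlgEquiv.commutes]
  generalize algebraMap k F a = A
  generalize algebraMap k F d = D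
  generalize T.sg l = s at *
  generalize T.sg b = b' at *
  grind

end QuadF

section

variable {G : Type u} [Group G] {k F : Type*} [Field k] [Field F] [Algebra k F] {T : Quad k F}
  {S : Sylow 2 G} {V R Q Q' : Subgroup G} {v : k → F → k → G} {p p' : G → F}

namespace GEnd

theorem h2 (g : GIn T S V R Q Q' v p p') : (2 : F) = 0 := by
  have h := g.sp.two
  have h1 : algebraMap k F 2 = 2 := map_ofNat _ 2
  rw [← h1, h, map_zero]

theorem charF (g : GIn T S V R Q Q' v p p') : CharP F 2 :=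
  CharTwo.of_one_ne_zero_of_two_eq_zero one_ne_zero (h2 g)

theorem finF (T : Quad k F) : Finite F := by
  apply Nat.finite_of_card_ne_zero
  rw [T.card]
  have := T.four
  positivity

theorem v_eq (g : GIn T S V R Q Q' v p p') {a a' : k} {b b' : F} {d d' : k} (h : v a b d = v a' b' d') :
    a = a' ∧ b = b' ∧ d = d' := by
  have h1 := g.v_add (a - a') (b - b') (d - d') a' b' d'
  rw [sub_add_cancel, sub_add_cancel, sub_add_cancel, h] at h1
  have h3 := g.v_inj _ _ _ (right_eq_mul.mp h1)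
  exact ⟨sub_eq_zero.mp h3.1, sub_eq_zero.mp h3.2.1, sub_eq_zero.mp h3.2.2⟩

theorem v_zero (g : GIn T S V R Q Q' v p p') : v 0 0 0 = 1 := by
  have h1 := g.v_add 0 0 0 0 0 0
  rw [add_zero, add_zero] at h1
  exact (left_eq_mul.mp h1)

theorem p_one (g : GIn T S V R Q Q' v p p') : p 1 = 0 := by
  have h1 := g.p_add 1 Q.one_mem 1 Q.one_mem
  rw [mul_one] at h1
  exact left_eq_add.mp h1

theorem p_inv (g : GIn T S V R Q Q' v p p') {y : G} (hy : y ∈ Q) : p y⁻¹ = - p y := by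
  have h1 := g.p_add y hy y⁻¹ (Q.inv_mem hy)
  rw [mul_inv_cancel, p_one g] at h1
  exact (neg_eq_of_add_eq_zero_right h1.symm).symm

theorem p'_one (g : GIn T S V R Q Q' v p p') : p' 1 = 0 := by
  have h1 := g.p'_add 1 Q'.one_mem 1 Q'.one_mem
  rw [mul_one] at h1
  exact left_eq_add.mp h1

theorem p'_inv (g : GIn T S V R Q Q' v p p') {y : G} (hy : y ∈ Q') : p' y⁻¹ = - p' y := by
  have h1 := g.p'_add y hy y⁻¹ (Q'.inv_mem hy)
  rw [mul_inv_cancel, p'_one g] at h1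
  exact (neg_eq_of_add_eq_zero_right h1.symm).symm

theorem cent_iff (g : GIn T S V R Q Q' v p p') {c : G} : c ∈ centralizer (V : Set G) ↔
    ∀ a b d, c * v a b d * c⁻¹ = v a b d := by
  rw [mem_centralizer_iff]
  constructor
  · intro h a b d
    rw [← h _ (g.v_mem a b d)]; group
  · intro h x hx
    obtain ⟨a, b, d, rfl⟩ := g.v_surj x hx
    calc v a b d * c = (c * v a b d * c⁻¹) * c := by rw [h]
      _ = c * v a b d := by group

theorem mem_C (g : GIn T S V R Q Q' v p p') {y : G} (hy : y ∈ Q) : y ∈ centralizer (V : Set G) ↔ p y = 0 := by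
  rw [cent_iff g]
  constructor
  · intro h
    have h1 := h 0 0 1
    rw [g.act y hy] at h1
    have h2 := (v_eq g h1).2.1
    simpa using h2
  · intro h a b d
    rw [g.act y hy, h]
    simp [QuadF.nm_zero T]

theorem mem_C' (g : GIn T S V R Q Q' v p p') {y : G} (hy : y ∈ Q') :
    y ∈ centralizer (V : Set G) ↔ p' y = 0 := by
  rw [cent_iff g]
  constructor
  · intro h
    have h1 := h 1 0 0
    rw [g.act' y hy] at h1
    have h2 := (v_eq g h1).2.1
    simpa using h2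
  · intro h a b d
    rw [g.act' y hy, h]
    simp [QuadF.nm_zero T]

/-- `n(l)` on `V` -/
theorem nn_act (g : GIn T S V R Q Q' v p p') {x y : F → G} (hx : ∀ l, x l ∈ Q) (hpx : ∀ l, p (x l) = l)
    (hy : ∀ l, y l ∈ Q') (hpy : ∀ l, p' (y l) = l) {l : F} (hl : l ≠ 0) (a : k) (b : F) (d : k) :
    nn x y l * v a b d * (nn x y l)⁻¹ = v (T.nm l * d) (l * (T.sg l)⁻¹ * T.sg b) ((T.nm l)⁻¹ * a) := by
  have h0 : nn x y l * v a b d * (nn x y l)⁻¹ =
      x l * (y l⁻¹ * (x l * v a b d * (x l)⁻¹) * (y l⁻¹)⁻¹) * (x l)⁻¹ := by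
    simp only [nn]; group
  rw [h0, g.act _ (hx l), g.act' _ (hy l⁻¹), g.act _ (hx l), hpx, hpy]
  rw [QuadF.nA T (h2 g) hl, QuadF.nB T (h2 g) hl, QuadF.nD T (h2 g) hl]

/-- the torus element `n(z) n(1)` on `V` -/
theorem tor_act (g : GIn T S V R Q Q' v p p') {x y : F → G} (hx : ∀ l, x l ∈ Q) (hpx : ∀ l, p (x l) = l)
    (hy : ∀ l, y l ∈ Q') (hpy : ∀ l, p' (y l) = l) {z : F} (hz : z ≠ 0) (a : k) (b : F) (d : k) :
    (nn x y z * nn x y 1) * v a b d * (nn x y z * nn x y 1)⁻¹ =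
      v (T.nm z * a) (z * (T.sg z)⁻¹ * b) ((T.nm z)⁻¹ * d) := by
  have h0 : (nn x y z * nn x y 1) * v a b d * (nn x y z * nn x y 1)⁻¹ =
      nn x y z * (nn x y 1 * v a b d * (nn x y 1)⁻¹) * (nn x y z)⁻¹ := by
    generalize nn x y z = n
    generalize nn x y 1 = n'
    group
  rw [h0, nn_act g hx hpx hy hpy one_ne_zero, nn_act g hx hpx hy hpy hz]
  simp only [QuadF.nm_one T, map_one, inv_one, one_mul, mul_one, T.sg_sg]

variable {I : Type*} {Rf Qf : I → Subgroup G} {i j : I}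

theorem mem_R (g : GIn T S V R Q Q' v p p') (x : G) : x ∈ R ↔ ∃ a, x = v a 0 0 := by
  constructor
  · intro hx
    obtain ⟨a, ha⟩ := g.sp.a_surj x hx
    exact ⟨a, ha.symm⟩
  · rintro ⟨a, rfl⟩
    exact g.sp.a_mem a

/-- matching pairs: `p' y' = (p y)⁻¹` -/
theorem match_iff (g : GIn T S V R Q Q' v p p') {R' : Subgroup G} (hR' : ∀ x, x ∈ R' ↔ ∃ d, x = v 0 0 d)
    {y y' : G} (hy : y ∈ Q) (hy' : y' ∈ Q') (h0 : p y ≠ 0) : cj y R' = cj y' R ↔ p' y' = (p y)⁻¹ := by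
  have hn := QuadF.nm_ne T h0
  have hs := QuadF.sg_ne T h0
  have e1 : ∀ x, x ∈ cj y R' ↔ ∃ d, x = v (T.nm (p y) * d) (p y * algebraMap k F d) d := by
    intro x
    rw [mem_cj, hR']
    refine exists_congr fun d => ?_
    rw [show (y⁻¹ * x * y = v 0 0 d ↔ x = y * v 0 0 d * y⁻¹) from by
      constructor
      · intro h; rw [← h]; group
      · rintro rfl; group]
    rw [g.act y hy]
    simp
  have e2 : ∀ x, x ∈ cj y' R ↔ ∃ a, x = v a (T.sg (p' y') * algebraMap k F a) (T.nm (p' y') * a) := by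
    intro x
    rw [mem_cj, mem_R g]
    refine exists_congr fun d => ?_
    rw [show (y'⁻¹ * x * y' = v d 0 0 ↔ x = y' * v d 0 0 * y'⁻¹) from by
      constructor
      · intro h; rw [← h]; group
      · rintro rfl; group]
    rw [g.act' y' hy']
    simp
  constructor
  · intro h
    have h1 : v (T.nm (p y) * 1) (p y * algebraMap k F 1) 1 ∈ cj y' R := by
      rw [← h, e1]; exact ⟨1, rfl⟩
    rw [e2] at h1
    obtain ⟨a, ha⟩ := h1
    obtain ⟨h2, h3, h4⟩ := v_eq g ha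
    rw [← h2, mul_one, T.nm_eq, map_one, mul_one] at h3
    have h5 : T.sg (p' y') * T.sg (p y) = 1 := by
      have : p y * (T.sg (p' y') * T.sg (p y)) = p y * 1 := by
        rw [mul_one]
        calc p y * (T.sg (p' y') * T.sg (p y)) = T.sg (p' y') * (p y * T.sg (p y)) := by ring
          _ = p y := h3.symm
      exact mul_left_cancel₀ h0 this
    rw [← map_mul] at h5
    have h6 : p' y' * p y = 1 := by
      have := congrArg T.sg h5
      rwa [T.sg_sg, map_one] at this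
    exact eq_inv_of_mul_eq_one_left h6
  · intro h
    ext x
    rw [e1, e2, h]
    have hnn : T.nm (p y)⁻¹ = (T.nm (p y))⁻¹ := by
      apply eq_inv_of_mul_eq_one_left
      rw [← QuadF.nm_mul T, inv_mul_cancel₀ h0, QuadF.nm_one T]
    constructor
    · rintro ⟨d, rfl⟩
      refine ⟨T.nm (p y) * d, ?_⟩
      have c1 : T.sg (p y)⁻¹ * algebraMap k F (T.nm (p y) * d) = p y * algebraMap k F d := by
        rw [map_mul, T.nm_eq, map_inv₀]
        field_simp
      have c2 : T.nm (p y)⁻¹ * (T.nm (p y) * d) = d := by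
        rw [hnn]; field_simp
      rw [c1, c2]
    · rintro ⟨a, rfl⟩
      refine ⟨(T.nm (p y))⁻¹ * a, ?_⟩
      have c1 : T.nm (p y) * ((T.nm (p y))⁻¹ * a) = a := by field_simp
      have c2 : p y * algebraMap k F ((T.nm (p y))⁻¹ * a) = T.sg (p y)⁻¹ * algebraMap k F a := by
        rw [map_mul, map_inv₀, T.nm_eq, map_inv₀]
        field_simp
      rw [c1, c2, hnn]

/-- the frame exists -/
theorem exists_frame (g : GIn T S V (Rf i) (Qf i) (Qf j) v p p') (M : Mt V Rf Qf) (h : i ≠ j)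
    (hRj : ∀ x, x ∈ Rf j ↔ ∃ d, x = v 0 0 d) :
    ∃ x y : F → G, (∀ l, p (x l) = l) ∧ (∀ l, p' (y l) = l) ∧ Fr F V Rf Qf i j x y := by
  choose x hx hpx using g.p_surj
  have hex : ∀ l : F, ∃ y ∈ Qf j, p' y = l := by
    intro l
    by_cases hl : l = 0
    · exact ⟨1, (Qf j).one_mem, by rw [p'_one g, hl]⟩
    have hli : l⁻¹ ≠ 0 := inv_ne_zero hl
    have hmv : cj (x l⁻¹) (Rf j) ≠ Rf j := by
      intro h0
      have := M.fixj i j h (x l⁻¹) (hx _) h0
      rw [mem_C g (hx _), hpx] at this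
      exact hli this
    obtain ⟨y', hy', h1⟩ := M.exists_match h (hx l⁻¹) hmv
    refine ⟨y', hy', ?_⟩
    have h2 := (match_iff g hRj (hx l⁻¹) hy' (by rw [hpx]; exact hli)).mp h1
    rw [h2, hpx, inv_inv]
  choose y hy hpy using hex
  have hmat : ∀ l, l ≠ 0 → cj (x l) (Rf j) = cj (y l⁻¹) (Rf i) := by
    intro l hl
    rw [match_iff g hRj (hx l) (hy _) (by rw [hpx]; exact hl), hpx, hpy]
  refine ⟨x, y, hpx, hpy, hx, hy, ?_, ?_, hmat, ?_⟩
  · intro l m
    have h1 := mul_mem (hx l) (hx m)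
    rw [mem_C g (mul_mem (inv_mem h1) (hx _)), g.p_add _ (inv_mem h1) _ (hx _), p_inv g h1,
      g.p_add _ (hx l) _ (hx m), hpx, hpx, hpx]
    ring
  · intro l m
    have h1 := mul_mem (hy l) (hy m)
    rw [mem_C' g (mul_mem (inv_mem h1) (hy _)), g.p'_add _ (inv_mem h1) _ (hy _), p'_inv g h1,
      g.p'_add _ (hy l) _ (hy m), hpy, hpy, hpy]
    ring
  · intro l m hl hm
    obtain ⟨s1, s2, -, -⟩ := M.swap h (hx l) (hy l⁻¹) (hmat l hl)
    have hw : nn x y l * y m * (nn x y l)⁻¹ ∈ Qf i := by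
      rw [← s2]; exact conj_mem_cj (hy m)
    have hpw : p (nn x y l * y m * (nn x y l)⁻¹) = l * l * m := by
      have h1 := g.act _ hw 0 0 1
      have h3 : nn x y l * y m * (nn x y l)⁻¹ * v 0 0 1 * (nn x y l * y m * (nn x y l)⁻¹)⁻¹ =
          nn x y l * (y m * ((nn x y l)⁻¹ * v 0 0 1 * nn x y l) * (y m)⁻¹) * (nn x y l)⁻¹ := by
        generalize nn x y l = n
        group
      have h4 : (nn x y l)⁻¹ * v 0 0 1 * nn x y l = v (T.nm l) 0 0 := by
        have h5 := nn_act g hx hpx hy hpy hl (T.nm l) 0 0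
        have h6 : v (T.nm l * 0) (l * (T.sg l)⁻¹ * T.sg 0) ((T.nm l)⁻¹ * T.nm l) = v 0 0 1 := by
          rw [mul_zero, map_zero, mul_zero, inv_mul_cancel₀ (QuadF.nm_ne T hl)]
        rw [h6] at h5
        rw [← h5]; group
      rw [h3, h4, g.act' _ (hy m), nn_act g hx hpx hy hpy hl, hpy] at h1
      have h7 := (v_eq g h1).2.1
      have hs := QuadF.sg_ne T hl
      simp only [zero_add, map_one, mul_one, map_mul, T.sg_sg, T.nm_eq] at h7
      rw [← h7]
      field_simp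
    rw [mem_C g (mul_mem (inv_mem (hx _)) hw), g.p_add _ (inv_mem (hx _)) _ hw, p_inv g (hx _), hpx, hpw]
    ring

theorem meet_V (g : GIn T S V R Q Q' v p p') : Q ⊓ Q' ≤ V := by
  intro x hx
  obtain ⟨b, rfl⟩ := g.meet x hx.1 hx.2
  exact g.v_mem _ _ _

/-- **THE FIELD: `GIn` and `Mt` give `Fld`.** -/
theorem exists_Fld (g : GIn T S V (Rf i) (Qf i) (Qf j) v p p') (M : Mt V Rf Qf) (h : i ≠ j)
    (hRj : ∀ x, x ∈ Rf j ↔ ∃ d, x = v 0 0 d) :
    ∃ (Φ : Type u) (_ : AddCommGroup Φ) (_ : Module F Φ) (φ χ : G → Φ),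
      Fld T V (Rf i) (Qf i) (Qf j) v p φ χ := by
  have hF := finF T
  have hc := charF g
  have hm := meet_V g
  obtain ⟨x, y, hpx, hpy, Fr⟩ := exists_frame g M h hRj
  obtain ⟨Φ, i1, i2, φ, χ, E⟩ := exists_fld M h hm Fr
  have hneg : ∀ u : Φ, -u = u := by
    intro u
    have h1 : (2 : F) • u = 0 := by rw [h2 g, zero_smul]
    rw [two_smul] at h1
    exact neg_eq_of_add_eq_zero_left h1
  refine ⟨Φ, i1, i2, φ, χ, ?_, ?_, ?_, ?_, ?_, ?_, ?_, ?_⟩
  · intro a ha hac b hb hbc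
    exact E.mulC a ⟨ha, hac⟩ b ⟨hb, hbc⟩
  · intro a ha hac
    rw [E.kerC a ⟨ha, hac⟩]
    constructor
    · intro hV
      obtain ⟨a', b, d, rfl⟩ := g.v_surj a hV
      have := g.V_Q _ _ _ ha
      exact ⟨a', b, by rw [this]⟩
    · rintro ⟨a', b, rfl⟩
      exact g.v_mem _ _ _
  · intro u
    obtain ⟨a, ha, hu⟩ := E.surC u
    exact ⟨a, ha.1, ha.2, hu⟩
  · intro a ha hac b hb hbc
    exact E.mulD a ⟨ha, hac⟩ b ⟨hb, hbc⟩
  · intro n hn hnc h0
    have hV := (E.kerD n ⟨hn, hnc⟩).mp h0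
    obtain ⟨a, b, d, rfl⟩ := g.v_surj n hV
    have h1 : v a b d = v a 0 0 * v 0 b d := by
      rw [← g.v_add, add_zero, zero_add, zero_add]
    have h3 : v a 0 0 ∈ Qf j := by
      have : v a 0 0 = v a b d * (v 0 b d)⁻¹ := by rw [h1]; group
      rw [this]
      exact mul_mem hn (inv_mem (g.E'_le b d))
    have h4 : v a 0 0 ∈ Rf i ⊓ Qf j := ⟨g.sp.a_mem a, h3⟩
    rw [M.RQj i j h, mem_bot] at h4
    have h5 := (g.v_inj _ _ _ h4).1
    exact ⟨b, d, by rw [h5]⟩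
  · intro u
    obtain ⟨a, ha, hu⟩ := E.surD u
    exact ⟨a, ha.1, ha.2, hu⟩
  · intro y' hy' n hn hnc
    have h1 : (x (p y'))⁻¹ * y' ∈ centralizer (V : Set G) := by
      rw [mem_C g (mul_mem (inv_mem (Fr.hx _)) hy'), g.p_add _ (inv_mem (Fr.hx _)) _ hy', p_inv g (Fr.hx _),
        hpx]
      ring
    obtain ⟨h3, h4⟩ := E.xD' M h hm Fr hy' h1 ⟨hn, hnc⟩
    have h5 : n * y' * n⁻¹ * y'⁻¹ = (cm y' n)⁻¹ := by simp only [cm]; group
    rw [h5, E.invC h3, h4, hneg]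
  · intro z hz
    have hta := fun a b d => tor_act g Fr.hx hpx Fr.hy hpy hz a b d
    obtain ⟨s1, s2, -, -⟩ := M.swap h (Fr.hx z) (Fr.hy z⁻¹) (Fr.mat z hz)
    obtain ⟨r1, r2, -, -⟩ := M.swap h (Fr.hx 1) (Fr.hy 1⁻¹) (Fr.mat 1 one_ne_zero)
    have hQi : cj (nn x y z * nn x y 1) (Qf i) = Qf i := by
      rw [cj_mul, r1, s2]
    have hQj : cj (nn x y z * nn x y 1) (Qf j) = Qf j := by
      rw [cj_mul, r2, s1]
    have hmem : ∀ l, nn x y l ∈ Qf i ⊔ Qf j := fun l =>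
      mul_mem (mul_mem (mem_sup_left (Fr.hx l)) (mem_sup_right (Fr.hy _))) (mem_sup_left (Fr.hx l))
    refine ⟨nn x y z * nn x y 1, mul_mem (hmem z) (hmem 1), hta, ?_, ?_, ?_⟩
    · intro w hw
      have hw' : (nn x y z * nn x y 1) * w * (nn x y z * nn x y 1)⁻¹ ∈ Qf i := by
        have := conj_mem_cj (c := nn x y z * nn x y 1) hw
        rwa [hQi] at this
      refine ⟨hw', ?_⟩
      have h1 := g.act _ hw' 0 0 1
      have hnz := QuadF.nm_ne T hz
      have hs := QuadF.sg_ne T hz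
      generalize nn x y z * nn x y 1 = t at *
      have h3 : t * w * t⁻¹ * v 0 0 1 * (t * w * t⁻¹)⁻¹ = t * (w * (t⁻¹ * v 0 0 1 * t) * w⁻¹) * t⁻¹ := by
        group
      have h4 : t⁻¹ * v 0 0 1 * t = v 0 0 (T.nm z) := by
        have h5 := hta 0 0 (T.nm z)
        have h6 : v (T.nm z * 0) (z * (T.sg z)⁻¹ * 0) ((T.nm z)⁻¹ * T.nm z) = v 0 0 1 := by
          rw [mul_zero, mul_zero, inv_mul_cancel₀ hnz]
        rw [h6] at h5
        rw [← h5]; group
      rw [h3, h4, g.act w hw, hta] at h1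
      have h7 := (v_eq g h1).2.1
      simp only [zero_add, map_one, mul_one, T.nm_eq] at h7
      rw [← h7]
      field_simp
    · intro a ha hac
      exact (E.hC hz ⟨ha, hac⟩).2
    · intro n hn hnc
      exact ⟨(E.hD hz ⟨hn, hnc⟩).1.1, (E.hD hz ⟨hn, hnc⟩).2⟩

end GEnd

end

end Cfsg.Agent.Omega.NOne.SU

end

section


/-!
# `Hyp d O` gives `GIn` and `Fld`
-/

set_option autoImplicit false
set_option linter.unusedVariables false
set_option linter.unusedSectionVars false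

open Subgroup
open scoped Pointwise
open Cfsg.Agent.Omega.NO1.Beta.Inst

namespace Cfsg.Agent.Omega.NOne.SU.GHyp

open Co Cfsg.Agent.Omega.NO1.Beta GInst

universe u

variable {G : Type u} [Group G] {K : Type*} [Field K] [CharP K 2] {σ : K ≃+* K} {M V : Subgroup G}
  {d : Co K σ M V} {O : Subgroup G → Subgroup G}

/-- the point `R0` -/
def i0 (d : Co K σ M V) : Pt d := ⟨d.R0, 1, M.one_mem, (cj_one _).symm⟩

theorem exists_i1 (d : Co K σ M V) : ∃ g ∈ M, d.Roo = cj g d.R0 := by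
  obtain ⟨m, hm, hma⟩ := d.exists_act w
  exact ⟨m, hm, (d.w_R0 hm hma).symm⟩

/-- the point `Roo` -/
def i1 (d : Co K σ M V) : Pt d := ⟨d.Roo, exists_i1 d⟩

theorem i0_ne_i1 (d : Co K σ M V) : i0 d ≠ i1 d := by
  intro h
  exact d.R0_ne_Roo (congrArg Subtype.val h)

/-- `O₂(N(Roo))` acts by lower triangular matrices -/
theorem act_l [Finite G] [Finite K] (H : Hyp d O) :
    (∀ y ∈ O (normalizer (d.Roo : Set G)), ∃ a, d.Act y (l a).1) ∧
      ∀ a, ∃ y ∈ O (normalizer (d.Roo : Set G)), d.Act y (l a).1 := by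
  obtain ⟨m, hm, hma⟩ := d.exists_act w
  have hmR := d.w_R0 hm hma
  have hO : O (normalizer (d.Roo : Set G)) = cj m (O (normalizer (d.R0 : Set G))) := by
    rw [H.isO.cj_eq, cj_normalizer, hmR]
  have w1 : (w * w : Matrix.SpecialLinearGroup (Fin 2) K) = 1 := by
    apply Subtype.ext
    simp only [Matrix.SpecialLinearGroup.coe_mul, Matrix.SpecialLinearGroup.coe_one]
    ext i j
    fin_cases i <;> fin_cases j <;> simp [w, Matrix.mul_apply, Fin.sum_univ_two]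
  have w2 : (w : Matrix.SpecialLinearGroup (Fin 2) K)⁻¹ = w := inv_eq_of_mul_eq_one_left w1
  have wu : ∀ a : K, (w * u a * w : Matrix.SpecialLinearGroup (Fin 2) K) = l a := by
    intro a
    apply Subtype.ext
    simp only [Matrix.SpecialLinearGroup.coe_mul]
    ext i j
    fin_cases i <;> fin_cases j <;> simp [w, u, l, Matrix.mul_apply, Fin.sum_univ_two]
  constructor
  · intro y hy
    rw [hO, mem_cj] at hy
    obtain ⟨a, ha⟩ := H.act_Q.1 _ hy
    have hyM : m⁻¹ * y * m ∈ M := H.Q_M hy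
    refine ⟨a, ?_⟩
    have h1 := (hma.mulS ha hyM).mulS (hma.inv hm) (M.inv_mem hm)
    have e : m * (m⁻¹ * y * m) * m⁻¹ = y := by group
    rw [e, w2, wu] at h1
    exact h1
  · intro a
    obtain ⟨y, hy, hya⟩ := H.act_Q.2 a
    refine ⟨m * y * m⁻¹, ?_, ?_⟩
    · rw [hO]; exact conj_mem_cj hy
    · have h1 := (hma.mulS hya (H.Q_M hy)).mulS (hma.inv hm) (M.inv_mem hm)
      rw [w2, wu] at h1
      exact h1

/-- **`GIn` and `Fld` from `Hyp`** -/
theorem main [Finite G] [Finite K] (H : Hyp d O) (h16 : 16 ≤ Nat.card K)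
    (meet : ∀ N : Subgroup G, IsPGroup 2 N → N ≤ M → (∀ m ∈ M, ∀ y ∈ N, m * y * m⁻¹ ∈ N) →
      N ⊓ V = ⊥ → N = ⊥)
    (VE : ∀ i j : Pt d, i ≠ j → V ≤ (V ⊓ O (normalizer (i.1 : Set G))) ⊔ j.1)
    {y y' z z' : G} (tor : Meet.Tor V (fun i : Pt d => i.1) (fun i => O (normalizer (i.1 : Set G)))
      (i0 d) (i1 d) y y' z z')
    (S : Sylow 2 G) (hSM : (S : Subgroup G) ≤ M) (hSR : (S : Subgroup G) ≤ normalizer (d.R0 : Set G)) :
    Meet.Mt V (fun i : Pt d => i.1) (fun i => O (normalizer (i.1 : Set G))) ∧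
    GIn (quad d.inv d.nt h16) S V d.R0 (O (normalizer (d.R0 : Set G))) (O (normalizer (d.Roo : Set G))) (vv d)
      (pu d) (pl d) ∧
    ∃ (Φ : Type u) (_ : AddCommGroup Φ) (_ : Module K Φ) (φ χ : G → Φ),
      Fld (quad d.inv d.nt h16) V d.R0 (O (normalizer (d.R0 : Set G))) (O (normalizer (d.Roo : Set G))) (vv d)
        (pu d) φ χ := by
  have B := H.beta meet
  have T := B.mt VE
  have hm : O (normalizer (d.R0 : Set G)) ⊓ O (normalizer (d.Roo : Set G)) ≤ V := T.meet_le (i0_ne_i1 d) tor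
  have g : GIn (quad d.inv d.nt h16) S V d.R0 (O (normalizer (d.R0 : Set G)))
      (O (normalizer (d.Roo : Set G))) (vv d) (pu d) (pl d) :=
    gin d h16 B T (i0_ne_i1 d) rfl rfl H.act_Q.1 H.act_Q.2 (act_l H).1 ((act_l H).2 1) hm S hSM hSR
  exact ⟨T, g, GEnd.exists_Fld (Rf := fun i : Pt d => i.1) (Qf := fun i => O (normalizer (i.1 : Set G)))
    (i := i0 d) (j := i1 d) g T (i0_ne_i1 d) fun x => mem_Roo_vv d⟩

/-- **`GIn` and `Fld` from `Hyp`**, final form -/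
theorem main' [Finite G] [Finite K] (H : Hyp d O) (h16 : 16 ≤ Nat.card K)
    (meet : ∀ N : Subgroup G, IsPGroup 2 N → N ≤ M → (∀ m ∈ M, ∀ y ∈ N, m * y * m⁻¹ ∈ N) →
      N ⊓ V = ⊥ → N = ⊥)
    (S : Sylow 2 G) (hSM : (S : Subgroup G) ≤ M) (hSR : (S : Subgroup G) ≤ normalizer (d.R0 : Set G)) :
    Meet.Mt V (fun i : Pt d => i.1) (fun i => O (normalizer (i.1 : Set G))) ∧
    GIn (quad d.inv d.nt h16) S V d.R0 (O (normalizer (d.R0 : Set G))) (O (normalizer (d.Roo : Set G))) (vv d)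
      (pu d) (pl d) ∧
    ∃ (Φ : Type u) (_ : AddCommGroup Φ) (_ : Module K Φ) (φ χ : G → Φ),
      Fld (quad d.inv d.nt h16) V d.R0 (O (normalizer (d.R0 : Set G))) (O (normalizer (d.Roo : Set G))) (vv d)
        (pu d) φ χ := by
  obtain ⟨y, y', z, z', tor⟩ := H.tor (i0 d) (i1 d) (i0_ne_i1 d)
  exact main H h16 meet (fun i j hij => H.VE i j hij) tor S hSM hSR

end Cfsg.Agent.Omega.NOne.SU.GHyp

end

section


/-!
# THEOREM UNI: the output at the level of the group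

`Out` : `W` is the hermitian `F`-space `Q/R = F e₀ ⊕ ι Φ ⊕ F f₀`, `w : Q → W` the projection, `g` the hermitian
form; `e₀ = w (v 0 1 0)`.

* `ker` : `Q` is the kernel of `N_G(R)` on `W`;
* `tran` : `C_G(R)` contains, for every isotropic point, an `F`-linear isometry mapping `F e₀` to it;
* `stab` : the stabiliser of `F e₀` in `N_G(R)` normalises `V`;
* `rad` : the preimage of the unipotent radical of `F e₀` is `C_{Q'}(V) V Q`.
-/

set_option autoImplicit false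

open Subgroup

namespace Cfsg.Agent.Omega.NOne.SU

variable {G : Type*} [Group G] {k F : Type*} [Field k] [Field F] [Algebra k F]

/-- **The output of THEOREM UNI.** -/
structure Out (T : Quad k F) (V R Q Q' : Subgroup G) (v : k → F → k → G) (p : G → F)
    {Φ : Type*} [AddCommGroup Φ] [Module F Φ] (φ χ : G → Φ) (hm : Φ → Φ → F)
    {W : Type*} [AddCommGroup W] [Module F W] (w : G → W) (g : W → W → F) (f₀ : W)
    (ι : Φ →ₗ[F] W) : Prop where
  -- `W = Q/R`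
  w_mul : ∀ x ∈ Q, ∀ y ∈ Q, w (x * y) = w x + w y
  w_eq : ∀ x ∈ Q, (w x = 0 ↔ x ∈ R)
  w_surj : ∀ m, ∃ x ∈ Q, w x = m
  comm : ∀ x ∈ Q, ∀ y ∈ Q, x * y * x⁻¹ * y⁻¹ = v (T.tr (g (w x) (w y))) 0 0
  -- the hermitian form
  g_add : ∀ m m' u, g (m + m') u = g m u + g m' u
  g_smul : ∀ (s : F) m u, g (s • m) u = s * g m u
  g_sym : ∀ m u, g u m = T.sg (g m u)
  -- coordinates, `e₀ = w (v 0 1 0)`
  w_e : ∀ b, w (v 0 b 0) = b • w (v 0 1 0)
  g_ee : g (w (v 0 1 0)) (w (v 0 1 0)) = 0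
  g_ef : g (w (v 0 1 0)) f₀ = 1
  g_ff : g f₀ f₀ = 0
  g_eι : ∀ x, g (w (v 0 1 0)) (ι x) = 0
  g_fι : ∀ x, g f₀ (ι x) = 0
  g_ιι : ∀ x y, g (ι x) (ι y) = hm x y
  span : ∀ m, ∃ (a : F) (x : Φ) (b : F), m = a • w (v 0 1 0) + ι x + b • f₀
  hm_nondeg : ∀ x, (∀ u, hm x u = 0) → x = 0
  p_eq : ∀ y ∈ Q, p y = g (w y) (w (v 0 1 0))
  φ_eq : ∀ y ∈ Q, y ∈ centralizer (V : Set G) → ∃ a : F, w y = ι (φ y) + a • w (v 0 1 0)
  -- `C_{Q'}(V)`
  χ_act : ∀ n ∈ Q', n ∈ centralizer (V : Set G) → ∃ r : F, r + T.sg r = hm (χ n) (χ n) ∧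
    ∀ y ∈ Q, w (n * y * n⁻¹) = w y + g (w y) (w (v 0 1 0)) • ι (χ n) +
      (g (w y) (ι (χ n)) + r * g (w y) (w (v 0 1 0))) • w (v 0 1 0)
  -- the action of `N_G(R)`
  ker : ∀ c ∈ normalizer (R : Set G), (∀ x ∈ Q, w (c * x * c⁻¹) = w x) → c ∈ Q
  tran : ∀ m, m ≠ 0 → g m m = 0 → ∃ c ∈ centralizer (R : Set G),
    (∀ (s : F), ∀ x ∈ Q, ∀ y ∈ Q, w y = s • w x → w (c * y * c⁻¹) = s • w (c * x * c⁻¹)) ∧
    (∀ x ∈ Q, ∀ y ∈ Q, g (w (c * x * c⁻¹)) (w (c * y * c⁻¹)) = g (w x) (w y)) ∧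
    ∃ s : F, w (c * v 0 1 0 * c⁻¹) = s • m
  stab : ∀ c ∈ normalizer (R : Set G), (∃ s : F, w (c * v 0 1 0 * c⁻¹) = s • w (v 0 1 0)) →
    c ∈ normalizer (V : Set G)
  pt : ∀ c ∈ normalizer (R : Set G), ∃ m, m ≠ 0 ∧ g m m = 0 ∧
    ∀ b : F, ∃ s : F, w (c * v 0 b 0 * c⁻¹) = s • m
  rad : ∀ c ∈ centralizer (R : Set G), (∀ b, w (c * v 0 b 0 * c⁻¹) = w (v 0 b 0)) →
    (∀ x ∈ Q, g (w x) (w (v 0 1 0)) = 0 → ∃ b, w (c * x * c⁻¹) = w x + w (v 0 b 0)) →
    (∀ x ∈ Q, g (w (c * x * c⁻¹)) (w (v 0 1 0)) = g (w x) (w (v 0 1 0))) →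
    ∃ n ∈ Q', n ∈ centralizer (V : Set G) ∧ ∃ d, ∃ y ∈ Q, c = n * v 0 0 d * y

/-- Further facts (`R'` is conjugate to `R` in `X = ⟨Q, Q'⟩`, `N_G(V)` permutes the points of `V`). -/
structure Ext (V R Q Q' : Subgroup G) (p' : G → F) : Prop where
  p'_surj : ∀ l, ∃ y ∈ Q', p' y = l
  sw : ∃ n ∈ Q ⊔ Q', ∀ x, x ∈ Q ↔ n * x * n⁻¹ ∈ Q'
  /-- `N_G(V) = X (N_G(V) ∩ N_G(R))` -/
  MX : ∀ m ∈ normalizer (V : Set G), ∃ x ∈ Q ⊔ Q', x * m ∈ normalizer (R : Set G)

end Cfsg.Agent.Omega.NOne.SU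

end

section


/-!
# THEOREM UNI: the homomorphism `t : Fˣ → GL(W)` from one torus element

`exists_t`: `τ` has the weights of a generator `z0` of `Fˣ` on `e`, `P/e`, `W/P`;
then there is a homomorphism `t : Fˣ →* (W ≃ₗ[k] W)` with all the weights.
(`τ` is replaced by a power of odd order; then `τ ^ (|F| - 1)` is unipotent of odd order.)
-/

set_option autoImplicit false

namespace Cfsg.Agent.Omega.NOne.SU.TorusHom

open Cfsg.Agent.Omega.NOne.SU

variable {k F W Φ : Type*} [Field k] [Field F] [Algebra k F] [AddCommGroup W] [Module k W]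
  [AddCommGroup Φ] [Module k Φ] [Module F Φ]

/-- `τ` has the weights of `z`. -/
structure Wt (Q : Quad k F) (f : W →ₗ[k] W →ₗ[k] k) (H : Subgroup (W ≃ₗ[k] W)) (ε : F →ₗ[k] W)
    (B : W →ₗ[k] F) (y : W →ₗ[k] Φ) (τ : W ≃ₗ[k] W) (z : F) : Prop where
  wH : ∀ g ∈ H, τ * g * τ⁻¹ ∈ H
  we : ∀ c, τ (ε c) = ε (z * (Q.sg z)⁻¹ * c)
  wB : ∀ m, B (τ m) = z ^ 2 * B m
  wy : ∀ m, B m = 0 → y (τ m) = z • y m
  wf : ∀ m m', f (τ m) (τ m') = Q.nm z * f m m'

variable {Q : Quad k F} {f : W →ₗ[k] W →ₗ[k] k} {H : Subgroup (W ≃ₗ[k] W)} {ε : F →ₗ[k] W}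
    {B : W →ₗ[k] F} {y : W →ₗ[k] Φ}

theorem nm_mul (Q : Quad k F) (x x' : F) : Q.nm (x * x') = Q.nm x * Q.nm x' := by
  apply (algebraMap k F).injective
  rw [map_mul, Q.nm_eq, Q.nm_eq, Q.nm_eq, map_mul]; ring

theorem nm_one (Q : Quad k F) : Q.nm 1 = 1 := by
  apply (algebraMap k F).injective
  rw [Q.nm_eq, map_one, map_one, mul_one]

theorem Wt.one : Wt Q f H ε B y 1 1 where
  wH := fun g hg => by simpa using hg
  we := fun c => by simp
  wB := fun m => by simp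
  wy := fun m _ => by simp
  wf := fun m m' => by simp [nm_one]

theorem Wt.mul {τ τ' : W ≃ₗ[k] W} {z z' : F} (h : Wt Q f H ε B y τ z)
    (h' : Wt Q f H ε B y τ' z') : Wt Q f H ε B y (τ * τ') (z * z') where
  wH := fun g hg => by
    have h1 := h.wH _ (h'.wH g hg)
    have h2 : τ * τ' * g * (τ * τ')⁻¹ = τ * (τ' * g * τ'⁻¹) * τ⁻¹ := by group
    rw [h2]; exact h1
  we := fun c => by
    have e1 : (τ * τ') (ε c) = τ (τ' (ε c)) := rfl
    rw [e1, h'.we, h.we, map_mul (f := Q.sg), mul_inv]; congr 1; ring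
  wB := fun m => by
    have e1 : (τ * τ') m = τ (τ' m) := rfl
    rw [e1, h.wB, h'.wB]; ring
  wy := fun m hm => by
    have e1 : (τ * τ') m = τ (τ' m) := rfl
    rw [e1, h.wy _ (by rw [h'.wB, hm, mul_zero]), h'.wy m hm, mul_smul]
  wf := fun m m' => by
    have e1 : (τ * τ') m = τ (τ' m) := rfl
    have e2 : (τ * τ') m' = τ (τ' m') := rfl
    rw [e1, e2, h.wf, h'.wf, nm_mul]; ring

theorem Wt.pow {τ : W ≃ₗ[k] W} {z : F} (h : Wt Q f H ε B y τ z) (n : ℕ) :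
    Wt Q f H ε B y (τ ^ n) (z ^ n) := by
  induction n with
  | zero => simpa using Wt.one
  | succ n ih => rw [pow_succ, pow_succ]; exact ih.mul h

/-- an element with weight `1` is unipotent. -/
theorem Wt.unip [CharP k 2] (y_ker : ∀ m, B m = 0 → y m = 0 → ∃ c, m = ε c)
    {τ : W ≃ₗ[k] W} (h : Wt Q f H ε B y τ 1) : τ ^ 4 = 1 := by
  have h2 : ∀ m : W, m + m = 0 := fun m => by
    rw [← two_smul k, CharTwo.two_eq_zero, zero_smul]
  have he : ∀ c, τ (ε c) = ε c := fun c => by rw [h.we, map_one, inv_one, mul_one, one_mul]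
  have hB : ∀ m, B (τ m - m) = 0 := fun m => by
    rw [map_sub, h.wB, one_pow, one_mul, sub_self]
  -- `N = τ - 1`
  have hN3 : ∀ m, τ (τ (τ m)) - τ (τ m) - (τ (τ m) - τ m) - (τ (τ m) - τ m - (τ m - m)) = 0 := by
    intro m
    have hm1 := hB m
    have hy1 : y (τ (τ m - m) - (τ m - m)) = 0 := by
      rw [map_sub, h.wy _ hm1, one_smul, sub_self]
    have hB1 : B (τ (τ m - m) - (τ m - m)) = 0 := hB _
    obtain ⟨c, hc⟩ := y_ker _ hB1 hy1
    have h3 := he c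
    rw [← hc] at h3
    simp only [map_sub] at h3
    exact sub_eq_zero.2 h3
  ext m
  have e1 : (τ ^ 4) m = τ (τ (τ (τ m))) := by
    simp only [pow_succ, pow_zero, one_mul]; rfl
  have e2 : (1 : W ≃ₗ[k] W) m = m := rfl
  rw [e1, e2]
  have a1 := hN3 m
  have a2 := hN3 (τ m)
  generalize τ (τ (τ (τ m))) = x4 at a1 a2 ⊢
  generalize τ (τ (τ m)) = x3 at a1 a2 ⊢
  generalize τ (τ m) = x2 at a1 a2 ⊢
  generalize τ m = x1 at a1 a2 ⊢
  have b1 := h2 m
  have b2 := h2 x1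
  have b3 := h2 x2
  have b4 := h2 x3
  have key : x4 - m = (x4 - x3 - (x3 - x2) - (x3 - x2 - (x2 - x1))) +
      (x3 - x2 - (x2 - x1) - (x2 - x1 - (x1 - m))) + (x3 + x3) - (x1 + x1) := by
    abel
  rw [a1, a2, b2, b4] at key
  simpa [sub_eq_zero] using key

/-- **The homomorphism.** -/
theorem exists_t [Finite W] [Finite F] [CharP k 2]
    (y_ker : ∀ m, B m = 0 → y m = 0 → ∃ c, m = ε c)
    {τ : W ≃ₗ[k] W} {z0 : Fˣ} (hz0 : ∀ z : Fˣ, z ∈ Subgroup.zpowers z0)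
    (h : Wt Q f H ε B y τ (z0 : F)) :
    ∃ t : Fˣ →* (W ≃ₗ[k] W), (∀ z, Wt Q f H ε B y (t z) (z : F)) ∧
      ∃ n : ℕ, t z0 = τ ^ n := by
  classical
  have : CharP F 2 := charP_of_injective_algebraMap (algebraMap k F).injective 2
  have : Fintype F := Fintype.ofFinite F
  have : Finite (W ≃ₗ[k] W) := Finite.of_injective (fun g => (g : W → W)) (fun g g' hgg => by
    ext w; exact congrFun hgg w)
  have : Finite Fˣ := inferInstance
  -- `|Fˣ|` is odd
  have hodd : Odd (Nat.card Fˣ) := by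
    have h1 : Nat.card Fˣ = Fintype.card F - 1 := by
      rw [Nat.card_eq_fintype_card, Fintype.card_units]
    have h2 : Even (Fintype.card F) := by
      obtain ⟨n, hn⟩ := FiniteField.card F 2
      rw [hn.2]
      exact (Nat.even_pow.2 ⟨even_two, n.ne_zero⟩)
    rw [h1]
    have h3 : 0 < Fintype.card F := Fintype.card_pos
    obtain ⟨r, hr⟩ := h2
    exact ⟨r - 1, by omega⟩
  set N := Nat.card Fˣ with hN
  have hz0N : z0 ^ N = 1 := by rw [hN]; exact pow_card_eq_one'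
  -- the 2-part of the order of `τ`
  set o := orderOf τ with ho
  have ho0 : o ≠ 0 := (orderOf_pos τ).ne'
  obtain ⟨a, b, hb, hab⟩ := Nat.exists_eq_two_pow_mul_odd ho0
  have hcop : Nat.Coprime N (2 ^ a) := by
    apply Nat.Coprime.pow_right
    exact (Nat.coprime_two_right.2 hodd)
  obtain ⟨n, hn1, hn2⟩ := Nat.chineseRemainder hcop 1 0
  -- `σ = τ ^ n`
  have hσ := h.pow n
  have hzn : z0 ^ n = z0 := by
    have h1 : z0 ^ n = z0 ^ 1 := by
      rw [pow_eq_pow_iff_modEq]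
      have h2 : orderOf z0 ∣ N := orderOf_dvd_of_pow_eq_one hz0N
      exact hn1.of_dvd h2
    rw [h1, pow_one]
  have hzn' : (z0 : F) ^ n = (z0 : F) := by
    have h1 := congrArg (fun u : Fˣ => (u : F)) hzn
    simpa using h1
  rw [hzn'] at hσ
  have hσb : (τ ^ n) ^ b = 1 := by
    have h1 : 2 ^ a ∣ n := (Nat.modEq_zero_iff_dvd.1 hn2)
    obtain ⟨r, hr⟩ := h1
    rw [← pow_mul]
    apply orderOf_dvd_iff_pow_eq_one.1
    rw [← ho, hab, hr]
    exact ⟨r, by ring⟩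
  -- `σ ^ N = 1`
  have hσN : (τ ^ n) ^ N = 1 := by
    have h1 := hσ.pow N
    have h2 : (z0 : F) ^ N = 1 := by
      have h3 := congrArg (fun u : Fˣ => (u : F)) hz0N
      simpa using h3
    rw [h2] at h1
    have h4 : ((τ ^ n) ^ N) ^ 4 = 1 := Wt.unip y_ker h1
    have h5 : ((τ ^ n) ^ N) ^ b = 1 := by rw [← pow_mul, mul_comm, pow_mul, hσb, one_pow]
    have h6 : Nat.Coprime 4 b := by
      have : (4 : ℕ) = 2 ^ 2 := by norm_num
      rw [this]
      exact Nat.Coprime.pow_left 2 (Nat.coprime_two_left.2 hb)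
    have h7 : orderOf ((τ ^ n) ^ N) ∣ Nat.gcd 4 b :=
      Nat.dvd_gcd (orderOf_dvd_of_pow_eq_one h4) (orderOf_dvd_of_pow_eq_one h5)
    rw [h6] at h7
    exact orderOf_eq_one_iff.1 (Nat.dvd_one.1 h7)
  have hord : orderOf (τ ^ n) ∣ orderOf z0 := by
    have h1 : orderOf z0 = N := by rw [hN]; exact orderOf_eq_card_of_forall_mem_zpowers hz0
    rw [h1]; exact orderOf_dvd_of_pow_eq_one hσN
  refine ⟨monoidHomOfForallMemZpowers hz0 hord, fun z => ?_, n, ?_⟩
  · obtain ⟨i, hi⟩ := (mem_powers_iff_mem_zpowers).2 (hz0 z)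
    have h1 : monoidHomOfForallMemZpowers hz0 hord z = (τ ^ n) ^ i := by
      rw [← hi]
      simp only [map_pow, monoidHomOfForallMemZpowers_apply_gen]
    rw [h1]
    have h2 := hσ.pow i
    have h3 : (z : F) = (z0 : F) ^ i := by
      have h3 := congrArg (fun u : Fˣ => (u : F)) hi
      simpa using h3.symm
    rw [h3]; exact h2
  · exact monoidHomOfForallMemZpowers_apply_gen hz0 hord

end Cfsg.Agent.Omega.NOne.SU.TorusHom

end

section


/-!
# Elementary facts on the quadratic extension `k ⊆ F` (characteristic 2)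
-/

set_option autoImplicit false

namespace Cfsg.Agent.Omega.NOne.SU

namespace Quad

variable {k F : Type*} [Field k] [Field F] [Algebra k F] (Q : Quad k F)

theorem charF (k F : Type*) [Field k] [Field F] [Algebra k F] [CharP k 2] : CharP F 2 :=
  charP_of_injective_algebraMap (algebraMap k F).injective 2

theorem add_selfF (k : Type*) {F : Type*} [Field k] [Field F] [Algebra k F] [CharP k 2] (x : F) :
    x + x = 0 := by
  have := charF k F
  exact CharTwo.add_self_eq_zero x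

theorem add_selfM (k : Type*) {M : Type*} [Field k] [AddCommGroup M] [Module k M] [CharP k 2]
    (x : M) : x + x = 0 := by
  have h : ((1 : k) + 1) • x = 0 := by
    rw [CharTwo.add_self_eq_zero, zero_smul]
  rwa [add_smul, one_smul] at h

theorem neg_eqM (k : Type*) {M : Type*} [Field k] [AddCommGroup M] [Module k M] [CharP k 2]
    (x : M) : -x = x := by
  rw [neg_eq_iff_add_eq_zero]
  exact add_selfM k x

theorem sub_eqM (k : Type*) {M : Type*} [Field k] [AddCommGroup M] [Module k M] [CharP k 2]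
    (x y : M) : x - y = x + y := by
  rw [sub_eq_add_neg, neg_eqM k]

theorem eq_of_add_eq_zeroM (k : Type*) {M : Type*} [Field k] [AddCommGroup M] [Module k M]
    [CharP k 2] {x y : M} (h : x + y = 0) : x = y := by
  rw [← sub_eqM k] at h
  exact sub_eq_zero.1 h

include Q in
theorem exists_sg_ne [Finite k] : ∃ s, Q.sg s ≠ s := by
  by_contra hcon
  push Not at hcon
  have hs : Function.Surjective (algebraMap k F) := fun x => Q.fix x (hcon x)
  have h1 : Nat.card F ≤ Nat.card k := Nat.card_le_card_of_surjective _ hs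
  have h2 := Q.card
  have h3 := Q.four
  nlinarith

theorem algebraMap_inj {a b : k} (h : algebraMap k F a = algebraMap k F b) : a = b :=
  (algebraMap k F).injective h

theorem tr_sgH (x : F) : Q.tr (Q.sg x) = Q.tr x := by
  apply algebraMap_inj (F := F)
  rw [Q.tr_eq, Q.tr_eq, Q.sg_sg, add_comm]

theorem nm_sg (x : F) : Q.nm (Q.sg x) = Q.nm x := by
  apply algebraMap_inj (F := F)
  rw [Q.nm_eq, Q.nm_eq, Q.sg_sg, mul_comm]

theorem sg_algebraMap (a : k) : Q.sg (algebraMap k F a) = algebraMap k F a := Q.sg.commutes a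

theorem sg_smul (a : k) (x : F) : Q.sg (a • x) = a • Q.sg x := map_smul Q.sg a x

variable [CharP k 2]

theorem exists_of_tr_eq_zero {x : F} (h : Q.tr x = 0) : ∃ a : k, algebraMap k F a = x := by
  apply Q.fix
  have h1 := Q.tr_eq x
  rw [h, map_zero] at h1
  have := charF k F
  exact (CharTwo.add_eq_zero.1 h1.symm).symm

theorem tr_algebraMap (a : k) : Q.tr (algebraMap k F a) = 0 := by
  apply algebraMap_inj (F := F)
  rw [Q.tr_eq, Q.sg_algebraMap, map_zero, add_selfF k]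

theorem exists_tr_one [Finite k] : ∃ θ : F, Q.tr θ = 1 := by
  obtain ⟨s, hs⟩ := Q.exists_sg_ne
  have h1 : Q.tr s ≠ 0 := by
    intro h
    obtain ⟨a, ha⟩ := Q.exists_of_tr_eq_zero h
    exact hs (by rw [← ha, Q.sg_algebraMap])
  exact ⟨(Q.tr s)⁻¹ • s, by rw [map_smul, smul_eq_mul, inv_mul_cancel₀ h1]⟩

theorem tr_nondegH [Finite k] {c : F} (h : ∀ s, Q.tr (c * s) = 0) : c = 0 := by
  by_contra hc
  obtain ⟨θ, hθ⟩ := Q.exists_tr_one
  have := h (c⁻¹ * θ)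
  rw [mul_inv_cancel_left₀ hc, hθ] at this
  exact one_ne_zero this

theorem tr_nondegH' [Finite k] {c : F} (h : ∀ s, Q.tr (c * Q.sg s) = 0) : c = 0 :=
  Q.tr_nondegH fun s => by
    have := h (Q.sg s)
    rwa [Q.sg_sg] at this

/-- `F = k + k θ` -/
theorem exists_decomp {θ : F} (hθ : Q.tr θ = 1) (b : F) :
    ∃ a : k, b = algebraMap k F a + Q.tr b • θ := by
  have h : Q.tr (b - Q.tr b • θ) = 0 := by
    rw [map_sub, map_smul, hθ, smul_eq_mul, mul_one, sub_self]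
  obtain ⟨a, ha⟩ := Q.exists_of_tr_eq_zero h
  exact ⟨a, by rw [ha, sub_add_cancel]⟩

/-- a `k`-linear functional on `F` is `s ↦ tr (c * sg s)`. -/
theorem exists_rep [Finite k] [Finite F] (l : F →ₗ[k] k) : ∃ c : F, ∀ s, l s = Q.tr (c * Q.sg s) := by
  let T : F →ₗ[k] (F →ₗ[k] k) :=
    { toFun := fun c => { toFun := fun s => Q.tr (c * Q.sg s)
                          map_add' := fun s s' => by rw [map_add, mul_add, map_add]
                          map_smul' := fun a s => by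
                            rw [map_smul, mul_smul_comm, map_smul]; rfl }
      map_add' := fun c c' => by
        ext s
        change Q.tr ((c + c') * Q.sg s) = Q.tr (c * Q.sg s) + Q.tr (c' * Q.sg s)
        rw [add_mul, map_add]
      map_smul' := fun a c => by
        ext s
        change Q.tr ((a • c) * Q.sg s) = a • Q.tr (c * Q.sg s)
        rw [smul_mul_assoc, map_smul] }
  have hT : Function.Injective T := by
    rw [injective_iff_map_eq_zero]
    intro c hc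
    exact Q.tr_nondegH' fun s => LinearMap.congr_fun hc s
  have hfin : Module.Finite k F := Module.Finite.of_finite
  have hs : Function.Surjective T := by
    rw [← LinearMap.injective_iff_surjective_of_finrank_eq_finrank]
    · exact hT
    · exact (Subspace.dual_finrank_eq (K := k) (V := F)).symm
  obtain ⟨c, hc⟩ := hs l
  exact ⟨c, fun s => (LinearMap.congr_fun hc s).symm⟩

/-- the identity which kills the semilinear part (step 4) -/
theorem four_identity (k : Type*) {F : Type*} [Field k] [Field F] [Algebra k F] [CharP k 2]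
    {z w : F} (hz : z ≠ 0) (hz1 : 1 + z ≠ 0)
    (h : (1 + z)⁻¹ * (1 + w) ^ 3 = 1 + z⁻¹ * w ^ 3) : (z + w) * (z + w ^ 2) = 0 := by
  have h1 : z * (1 + w) ^ 3 = (1 + z) * (z + w ^ 3) := by
    have h2 : z * ((1 + z) * ((1 + z)⁻¹ * (1 + w) ^ 3)) = z * ((1 + z) * (1 + z⁻¹ * w ^ 3)) := by
      rw [h]
    rw [mul_inv_cancel_left₀ hz1] at h2
    rw [h2]
    field_simp
  have hc := charF k F
  have h3 : (2 : F) = 0 := CharTwo.two_eq_zero
  linear_combination (-1 : F) * h1 + (2 * (z * w) + 2 * (z * w ^ 2)) * h3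

end Quad

end Cfsg.Agent.Omega.NOne.SU

end

section


/-!
# THE FIELD: more outputs (`bil'`, the swap, `Q'` modulo `V` elementary abelian)
-/

set_option autoImplicit false
set_option linter.unusedVariables false
set_option linter.unusedSectionVars false

open Subgroup
open Cfsg.Agent.Omega.NO1.Beta.Meet Cfsg.Agent.Omega.NOne.SU

namespace Cfsg.Agent.Omega.NO1U

universe u

/-- The data on the side of the second point `R'`. -/
structure FldX {G : Type*} [Group G] {k F : Type*} [Field k] [Field F] [Algebra k F] (T : Quad k F)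
    (V Q Q' : Subgroup G) (v : k → F → k → G) (p' : G → F) {Φ : Type*} [AddCommGroup Φ] [Module F Φ]
    (φ χ : G → Φ) : Prop where
  p'_surj : ∀ l, ∃ y ∈ Q', p' y = l
  sq' : ∀ n ∈ Q', n * n ∈ V
  /-- `[n, y] = p'(n) φ(y)` -/
  bil' : ∀ n ∈ Q', ∀ y ∈ Q, y ∈ centralizer (V : Set G) →
    n * y * n⁻¹ * y⁻¹ ∈ Q' ∧ n * y * n⁻¹ * y⁻¹ ∈ centralizer (V : Set G) ∧
      χ (n * y * n⁻¹ * y⁻¹) = p' n • φ y
  swap : ∃ n ∈ Q ⊔ Q', (∀ x, x ∈ Q ↔ n * x * n⁻¹ ∈ Q') ∧ (∀ x, x ∈ Q' ↔ n * x * n⁻¹ ∈ Q) ∧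
    ∀ a b d, n * v a b d * n⁻¹ = v d (T.sg b) a

section

variable {G : Type u} [Group G] {k F : Type*} [Field k] [Field F] [Algebra k F] {T : Quad k F}
  {S : Sylow 2 G} {V R Q Q' : Subgroup G} {v : k → F → k → G} {p p' : G → F}
  {I : Type*} {Rf Qf : I → Subgroup G} {i j : I}

open GEnd

/-- **`GIn` and `Mt` give `Fld` and `FldX`.** -/
theorem exists_FldX (g : GIn T S V (Rf i) (Qf i) (Qf j) v p p') (M : Mt V Rf Qf) (h : i ≠ j)
    (hRj : ∀ x, x ∈ Rf j ↔ ∃ d, x = v 0 0 d) :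
    ∃ (Φ : Type u) (_ : AddCommGroup Φ) (_ : Module F Φ) (φ χ : G → Φ),
      Fld T V (Rf i) (Qf i) (Qf j) v p φ χ ∧ FldX T V (Qf i) (Qf j) v p' φ χ := by
  have hF := finF T
  have hc := charF g
  have hm := meet_V g
  obtain ⟨x, y, hpx, hpy, Fr⟩ := exists_frame g M h hRj
  obtain ⟨Φ, i1, i2, φ, χ, E⟩ := exists_fld M h hm Fr
  have hneg : ∀ u : Φ, -u = u := by
    intro u
    have h1 : (2 : F) • u = 0 := by rw [h2 g, zero_smul]
    rw [two_smul] at h1
    exact neg_eq_of_add_eq_zero_left h1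
  refine ⟨Φ, i1, i2, φ, χ, ⟨?_, ?_, ?_, ?_, ?_, ?_, ?_, ?_⟩, ⟨?_, ?_, ?_, ?_⟩⟩
  · intro a ha hac b hb hbc
    exact E.mulC a ⟨ha, hac⟩ b ⟨hb, hbc⟩
  · intro a ha hac
    rw [E.kerC a ⟨ha, hac⟩]
    constructor
    · intro hV
      obtain ⟨a', b, d, rfl⟩ := g.v_surj a hV
      have := g.V_Q _ _ _ ha
      exact ⟨a', b, by rw [this]⟩
    · rintro ⟨a', b, rfl⟩
      exact g.v_mem _ _ _
  · intro u
    obtain ⟨a, ha, hu⟩ := E.surC u
    exact ⟨a, ha.1, ha.2, hu⟩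
  · intro a ha hac b hb hbc
    exact E.mulD a ⟨ha, hac⟩ b ⟨hb, hbc⟩
  · intro n hn hnc h0
    have hV := (E.kerD n ⟨hn, hnc⟩).mp h0
    obtain ⟨a, b, d, rfl⟩ := g.v_surj n hV
    have h1 : v a b d = v a 0 0 * v 0 b d := by
      rw [← g.v_add, add_zero, zero_add, zero_add]
    have h3 : v a 0 0 ∈ Qf j := by
      have : v a 0 0 = v a b d * (v 0 b d)⁻¹ := by rw [h1]; group
      rw [this]
      exact mul_mem hn (inv_mem (g.E'_le b d))
    have h4 : v a 0 0 ∈ Rf i ⊓ Qf j := ⟨g.sp.a_mem a, h3⟩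
    rw [M.RQj i j h, mem_bot] at h4
    have h5 := (g.v_inj _ _ _ h4).1
    exact ⟨b, d, by rw [h5]⟩
  · intro u
    obtain ⟨a, ha, hu⟩ := E.surD u
    exact ⟨a, ha.1, ha.2, hu⟩
  · intro y' hy' n hn hnc
    have h1 : (x (p y'))⁻¹ * y' ∈ centralizer (V : Set G) := by
      rw [mem_C g (mul_mem (inv_mem (Fr.hx _)) hy'), g.p_add _ (inv_mem (Fr.hx _)) _ hy', p_inv g (Fr.hx _),
        hpx]
      ring
    obtain ⟨h3, h4⟩ := E.xD' M h hm Fr hy' h1 ⟨hn, hnc⟩
    have h5 : n * y' * n⁻¹ * y'⁻¹ = (cm y' n)⁻¹ := by simp only [cm]; group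
    rw [h5, E.invC h3, h4, hneg]
  · intro z hz
    have hta := fun a b d => tor_act g Fr.hx hpx Fr.hy hpy hz a b d
    obtain ⟨s1, s2, -, -⟩ := M.swap h (Fr.hx z) (Fr.hy z⁻¹) (Fr.mat z hz)
    obtain ⟨r1, r2, -, -⟩ := M.swap h (Fr.hx 1) (Fr.hy 1⁻¹) (Fr.mat 1 one_ne_zero)
    have hQi : cj (nn x y z * nn x y 1) (Qf i) = Qf i := by
      rw [cj_mul, r1, s2]
    have hQj : cj (nn x y z * nn x y 1) (Qf j) = Qf j := by
      rw [cj_mul, r2, s1]
    have hmem : ∀ l, nn x y l ∈ Qf i ⊔ Qf j := fun l =>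
      mul_mem (mul_mem (mem_sup_left (Fr.hx l)) (mem_sup_right (Fr.hy _))) (mem_sup_left (Fr.hx l))
    refine ⟨nn x y z * nn x y 1, mul_mem (hmem z) (hmem 1), hta, ?_, ?_, ?_⟩
    · intro w hw
      have hw' : (nn x y z * nn x y 1) * w * (nn x y z * nn x y 1)⁻¹ ∈ Qf i := by
        have := conj_mem_cj (c := nn x y z * nn x y 1) hw
        rwa [hQi] at this
      refine ⟨hw', ?_⟩
      have h1 := g.act _ hw' 0 0 1
      have hnz := QuadF.nm_ne T hz
      have hs := QuadF.sg_ne T hz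
      generalize nn x y z * nn x y 1 = t at *
      have h3 : t * w * t⁻¹ * v 0 0 1 * (t * w * t⁻¹)⁻¹ = t * (w * (t⁻¹ * v 0 0 1 * t) * w⁻¹) * t⁻¹ := by
        group
      have h4 : t⁻¹ * v 0 0 1 * t = v 0 0 (T.nm z) := by
        have h5 := hta 0 0 (T.nm z)
        have h6 : v (T.nm z * 0) (z * (T.sg z)⁻¹ * 0) ((T.nm z)⁻¹ * T.nm z) = v 0 0 1 := by
          rw [mul_zero, mul_zero, inv_mul_cancel₀ hnz]
        rw [h6] at h5
        rw [← h5]; group
      rw [h3, h4, g.act w hw, hta] at h1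
      have h7 := (v_eq g h1).2.1
      simp only [zero_add, map_one, mul_one, T.nm_eq] at h7
      rw [← h7]
      field_simp
    · intro a ha hac
      exact (E.hC hz ⟨ha, hac⟩).2
    · intro n hn hnc
      exact ⟨(E.hD hz ⟨hn, hnc⟩).1.1, (E.hD hz ⟨hn, hnc⟩).2⟩
  · intro l
    exact ⟨y l, Fr.hy l, hpy l⟩
  · intro n hn
    exact M.R_le j (M.Qsq j n hn)
  · intro n hn a ha hac
    have h1 : (y (p' n))⁻¹ * n ∈ centralizer (V : Set G) := by
      rw [mem_C' g (mul_mem (inv_mem (Fr.hy _)) hn), g.p'_add _ (inv_mem (Fr.hy _)) _ hn, p'_inv g (Fr.hy _),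
        hpy]
      ring
    obtain ⟨h3, h4⟩ := E.yC' M h hm Fr hn h1 ⟨ha, hac⟩
    have h5 : n * a * n⁻¹ * a⁻¹ = cm n a := by simp only [cm]
    rw [h5]
    exact ⟨h3.1, h3.2, h4⟩
  · obtain ⟨r1, r2, -, -⟩ := M.swap h (Fr.hx 1) (Fr.hy 1⁻¹) (Fr.mat 1 one_ne_zero)
    refine ⟨nn x y 1, mul_mem (mul_mem (mem_sup_left (Fr.hx _)) (mem_sup_right (Fr.hy _)))
      (mem_sup_left (Fr.hx _)), ?_, ?_, ?_⟩
    · intro w
      have e : cj (nn x y 1) (Qf i) = Qf j := r1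
      rw [← e, mem_cj]
      have e2 : (nn x y 1)⁻¹ * (nn x y 1 * w * (nn x y 1)⁻¹) * nn x y 1 = w := by
        generalize nn x y 1 = t
        group
      rw [e2]
    · intro w
      have e : cj (nn x y 1) (Qf j) = Qf i := r2
      rw [← e, mem_cj]
      have e2 : (nn x y 1)⁻¹ * (nn x y 1 * w * (nn x y 1)⁻¹) * nn x y 1 = w := by
        generalize nn x y 1 = t
        group
      rw [e2]
    · intro a b d
      rw [nn_act g Fr.hx hpx Fr.hy hpy one_ne_zero]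
      simp only [QuadF.nm_one T, map_one, inv_one, one_mul]

end

end Cfsg.Agent.Omega.NO1U

end

section


/-!
# The group `X = ⟨Q, Q'⟩` (closing of NO-1' (β), q ≥ 4, node 0)

`XD` : the data `GIn`, `Mt` (output of THEOREM BETA), `Fld` and MX (`N(V) = X (N(V) ∩ N(R))`).
`X = Q i ⊔ Q j`, `Y = (Q i ⊓ C(V)) ⊔ (Q j ⊓ C(V))`.

* `X`, `N(V)` permute the points `R k` of `V` and the groups `Q k` (`XD.permN`); `N(V)` normalises `X`, `Y`;
* `[X, C(V)] ≤ Y` (`XD.comm`); `Q` is transitive on the points `≠ R` (`XD.Qtr`).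
-/

set_option autoImplicit false
set_option linter.unusedVariables false
set_option linter.unusedSectionVars false

open Subgroup
open Cfsg.Agent.Omega.NO1.Beta.Meet Cfsg.Agent.Omega.NOne.SU

namespace Cfsg.Agent.Omega.NO1U

universe u

variable {G : Type u} [Group G] {k F : Type*} [Field k] [Field F] [Algebra k F]

/-- The data: `GIn`, `Mt`, `Fld`, MX. -/
structure XD (T : Quad k F) (S : Sylow 2 G) {I : Type*} (V : Subgroup G) (Rf Qf : I → Subgroup G) (i j : I)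
    (v : k → F → k → G) (p p' : G → F) {Φ : Type*} [AddCommGroup Φ] [Module F Φ] (φ χ : G → Φ) : Prop where
  g : GIn T S V (Rf i) (Qf i) (Qf j) v p p'
  M : Mt V Rf Qf
  ne : i ≠ j
  Rj : ∀ x, x ∈ Rf j ↔ ∃ d, x = v 0 0 d
  f : Fld T V (Rf i) (Qf i) (Qf j) v p φ χ
  mx : ∀ m ∈ normalizer (V : Set G), ∃ x ∈ Qf i ⊔ Qf j, x * m ∈ normalizer (Rf i : Set G)

variable {T : Quad k F} {S : Sylow 2 G} {I : Type*} {V : Subgroup G} {Rf Qf : I → Subgroup G} {i j : I}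
  {v : k → F → k → G} {p p' : G → F} {Φ : Type*} [AddCommGroup Φ] [Module F Φ] {φ χ : G → Φ}

/-- `Y = C_Q(V) C_{Q'}(V)` -/
def YY (V : Subgroup G) (Qf : I → Subgroup G) (i j : I) : Subgroup G :=
  (Qf i ⊓ centralizer (V : Set G)) ⊔ (Qf j ⊓ centralizer (V : Set G))

namespace XD

section mt

variable (M : Mt V Rf Qf)
include M

theorem X_le_N : Qf i ⊔ Qf j ≤ normalizer (V : Set G) := sup_le (M.Q_V i) (M.Q_V j)

/-- `X` permutes the points -/
theorem permX {x : G} (hx : x ∈ Qf i ⊔ Qf j) : ∀ l, ∃ m, cj x (Rf l) = Rf m ∧ cj x (Qf l) = Qf m := by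
  rw [Subgroup.sup_eq_closure] at hx
  have key : ∀ y, y ∈ (Qf i : Set G) ∪ (Qf j : Set G) → ∀ l, ∃ m, cj y (Rf l) = Rf m ∧ cj y (Qf l) = Qf m := by
    intro y hy l
    rcases hy with hy | hy
    · exact M.perm i y hy l
    · exact M.perm j y hy l
  induction hx using Subgroup.closure_induction_left with
  | one => intro l; exact ⟨l, by rw [cj, map_one, one_smul], by rw [cj, map_one, one_smul]⟩
  | mul_left a ha b hb ih =>
    intro l
    obtain ⟨m, h1, h2⟩ := ih l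
    obtain ⟨m', h3, h4⟩ := key a ha m
    exact ⟨m', by rw [cj_mul, h1, h3], by rw [cj_mul, h2, h4]⟩
  | inv_mul_cancel a ha b hb ih =>
    intro l
    obtain ⟨m, h1, h2⟩ := ih l
    have ha' : a⁻¹ ∈ (Qf i : Set G) ∪ (Qf j : Set G) := by
      rcases ha with ha | ha
      · exact Or.inl ((Qf i).inv_mem ha)
      · exact Or.inr ((Qf j).inv_mem ha)
    obtain ⟨m', h3, h4⟩ := key _ ha' m
    exact ⟨m', by rw [cj_mul, h1, h3], by rw [cj_mul, h2, h4]⟩

end mt

variable (D : XD T S V Rf Qf i j v p p' φ χ)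
include D

theorem frame : ∃ x y : F → G, (∀ l, p (x l) = l) ∧ (∀ l, p' (y l) = l) ∧ Fr F V Rf Qf i j x y :=
  GEnd.exists_frame D.g D.M D.ne D.Rj

/-- `n` swaps `R` and `R'` -/
theorem exists_n : ∃ n ∈ Qf i ⊔ Qf j, cj n (Qf i) = Qf j ∧ cj n (Qf j) = Qf i ∧ cj n (Rf i) = Rf j ∧
    cj n (Rf j) = Rf i := by
  obtain ⟨x, y, -, -, Fr⟩ := D.frame
  have h := D.M.swap D.ne (Fr.hx 1) (Fr.hy 1⁻¹) (Fr.mat 1 one_ne_zero)
  exact ⟨_, mul_mem (mul_mem (mem_sup_left (Fr.hx 1)) (mem_sup_right (Fr.hy _))) (mem_sup_left (Fr.hx 1)), h⟩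

/-- `X` is transitive on the points -/
theorem tranX (l : I) : ∃ x ∈ Qf i ⊔ Qf j, cj x (Rf i) = Rf l ∧ cj x (Qf i) = Qf l := by
  by_cases hl : l = i
  · subst hl
    exact ⟨1, one_mem _, by rw [cj, map_one, one_smul], by rw [cj, map_one, one_smul]⟩
  · obtain ⟨n, hn, h1, h2, h3, h4⟩ := D.exists_n
    obtain ⟨y, hy, h5⟩ := D.M.tran i j l D.ne.symm hl
    refine ⟨y * n, mul_mem (mem_sup_left hy) hn, by rw [cj_mul, h3, h5], ?_⟩
    rw [cj_mul, h1]
    exact D.M.Q_of_R hy h5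

theorem Q_le_X (l : I) : Qf l ≤ Qf i ⊔ Qf j := by
  obtain ⟨x, hx, h1, h2⟩ := D.tranX l
  rw [← h2]
  intro y hy
  rw [mem_cj] at hy
  have : y = x * (x⁻¹ * y * x) * x⁻¹ := by group
  rw [this]
  exact mul_mem (mul_mem hx (mem_sup_left hy)) (inv_mem hx)

/-- `N(V)` permutes the points -/
theorem permN {m : G} (hm : m ∈ normalizer (V : Set G)) (l : I) :
    ∃ l', cj m (Rf l) = Rf l' ∧ cj m (Qf l) = Qf l' := by
  obtain ⟨x, hx, h1, h2⟩ := D.tranX l
  obtain ⟨x', hx', h3⟩ := D.mx (m * x) (mul_mem hm (X_le_N D.M hx))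
  have h4 : cj (x' * (m * x)) (Rf i) = Rf i := cj_of_mem_normalizer h3
  have h5 : cj (x' * (m * x)) (Qf i) = Qf i := D.M.nor i _ h3
  obtain ⟨l', h6, h7⟩ := permX D.M (inv_mem hx') i
  refine ⟨l', ?_, ?_⟩
  · rw [← h6, ← h4, ← cj_mul, ← h1, ← cj_mul]
    congr 1; group
  · rw [← h7, ← h5, ← cj_mul, ← h2, ← cj_mul]
    congr 1; group

theorem N_X {m x : G} (hm : m ∈ normalizer (V : Set G)) (hx : x ∈ Qf i ⊔ Qf j) : m * x * m⁻¹ ∈ Qf i ⊔ Qf j := by
  have key : ∀ l, ∀ y ∈ Qf l, m * y * m⁻¹ ∈ Qf i ⊔ Qf j := by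
    intro l y hy
    obtain ⟨l', -, h2⟩ := D.permN hm l
    have := conj_mem_cj (c := m) hy
    rw [h2] at this
    exact D.Q_le_X l' this
  have h1 : Qf i ⊔ Qf j ≤ (Qf i ⊔ Qf j).comap (MulAut.conj m).toMonoidHom :=
    sup_le (fun y hy => key i y hy) (fun y hy => key j y hy)
  exact h1 hx

theorem NX {m : G} (hm : m ∈ normalizer (V : Set G)) :
    ∃ x ∈ Qf i ⊔ Qf j, ∃ c ∈ normalizer (V : Set G), c ∈ normalizer (Rf i : Set G) ∧ m = x * c := by
  obtain ⟨x, hx, h⟩ := D.mx m hm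
  exact ⟨x⁻¹, inv_mem hx, x * m, mul_mem (X_le_N D.M hx) hm, h, by group⟩

theorem X_le_norX {m : G} (hm : m ∈ normalizer (V : Set G)) : m ∈ normalizer ((Qf i ⊔ Qf j : Subgroup G) : Set G) := by
  rw [mem_normalizer_iff]
  intro x
  constructor
  · exact fun hx => D.N_X hm hx
  · intro hx
    have := D.N_X (inv_mem hm) hx
    have e : m⁻¹ * (m * x * m⁻¹) * m⁻¹⁻¹ = x := by group
    rwa [e] at this

/-! ### The group `Y` -/

theorem E_mem {l : I} : Rf l ≤ centralizer (V : Set G) := (D.M.R_le l).trans D.M.V_le_C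

theorem QC_le_Y (l : I) : Qf l ⊓ centralizer (V : Set G) ≤ YY V Qf i j := by
  by_cases hl : l = i
  · subst hl; exact le_sup_left
  · obtain ⟨y, hy, h5⟩ := D.M.tran i j l D.ne.symm hl
    have h6 := D.M.Q_of_R hy h5
    rintro b ⟨hb, hbC⟩
    rw [← h6] at hb
    change b ∈ cj y (Qf j) at hb
    rw [mem_cj] at hb
    have hbC' : y⁻¹ * b * y ∈ centralizer (V : Set G) := by
      have := D.M.Q_cent ((Qf i).inv_mem hy) hbC
      rwa [inv_inv] at this
    have e : b = (y * (y⁻¹ * b * y) * y⁻¹ * (y⁻¹ * b * y)⁻¹) * (y⁻¹ * b * y) := by group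
    rw [e]
    exact mul_mem (mem_sup_left (mem_inf.mpr (D.M.comm_mem hy hb hbC'))) (mem_sup_right (mem_inf.mpr ⟨hb, hbC'⟩))

theorem V_le_Y : V ≤ YY V Qf i j := by
  refine (D.M.VE i j D.ne).trans (sup_le ?_ ?_)
  · exact (le_inf inf_le_right (inf_le_left.trans D.M.V_le_C)).trans le_sup_left
  · exact (le_inf (D.M.R_Q j) (D.E_mem)).trans le_sup_right

theorem Y_le_C : YY V Qf i j ≤ centralizer (V : Set G) := sup_le inf_le_right inf_le_right

theorem Y_le_X : YY V Qf i j ≤ Qf i ⊔ Qf j := sup_le_sup inf_le_left inf_le_left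

theorem N_Y {m y : G} (hm : m ∈ normalizer (V : Set G)) (hy : y ∈ YY V Qf i j) : m * y * m⁻¹ ∈ YY V Qf i j := by
  have key : ∀ l, ∀ y ∈ Qf l ⊓ centralizer (V : Set G), m * y * m⁻¹ ∈ YY V Qf i j := by
    intro l y hy
    obtain ⟨l', -, h2⟩ := D.permN hm l
    have := conj_mem_cj (c := m) hy.1
    rw [h2] at this
    exact D.QC_le_Y l' (mem_inf.mpr ⟨this, cent_conj hm hy.2⟩)
  have h1 : YY V Qf i j ≤ (YY V Qf i j).comap (MulAut.conj m).toMonoidHom :=
    sup_le (fun y hy => key i y hy) (fun y hy => key j y hy)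
  exact h1 hy

theorem N_le_norY {m : G} (hm : m ∈ normalizer (V : Set G)) : m ∈ normalizer ((YY V Qf i j : Subgroup G) : Set G) := by
  rw [mem_normalizer_iff]
  intro x
  constructor
  · exact fun hx => D.N_Y hm hx
  · intro hx
    have := D.N_Y (inv_mem hm) hx
    have e : m⁻¹ * (m * x * m⁻¹) * m⁻¹⁻¹ = x := by group
    rwa [e] at this

/-- `[X, C(V)] ≤ Y` -/
theorem comm {x c : G} (hx : x ∈ Qf i ⊔ Qf j) (hc : c ∈ centralizer (V : Set G)) :
    x * c * x⁻¹ * c⁻¹ ∈ YY V Qf i j := by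
  have hone : ∀ l, ∀ y ∈ Qf l, y * c * y⁻¹ * c⁻¹ ∈ Qf l ⊓ centralizer (V : Set G) := by
    intro l y hy
    refine mem_inf.mpr ⟨?_, ?_⟩
    · have h1 := D.M.C_conj l hc ((Qf l).inv_mem hy)
      have e : y * c * y⁻¹ * c⁻¹ = y * (c * y⁻¹ * c⁻¹) := by group
      rw [e]; exact mul_mem hy h1
    · exact mul_mem (D.M.Q_cent hy hc) (inv_mem hc)
  have hcN : ∀ {c : G}, c ∈ centralizer (V : Set G) → c ∈ normalizer (V : Set G) := by
    intro c hc
    apply mem_normalizer_of_cj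
    exact cj_eq_of_comm fun x hx => ((mem_centralizer_iff.mp hc) x hx).symm
  have hgen : ∀ y, y ∈ (Qf i : Set G) ∪ (Qf j : Set G) → y * c * y⁻¹ * c⁻¹ ∈ YY V Qf i j := by
    intro y hy
    rcases hy with hy | hy
    · exact D.QC_le_Y i (hone i y hy)
    · exact D.QC_le_Y j (hone j y hy)
  have hle := X_le_N (i := i) (j := j) D.M
  rw [Subgroup.sup_eq_closure] at hx
  induction hx using Subgroup.closure_induction_left with
  | one => have : (1 : G) * c * 1⁻¹ * c⁻¹ = 1 := by group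
           rw [this]; exact one_mem _
  | mul_left a ha b hb ih =>
    have e : a * b * c * (a * b)⁻¹ * c⁻¹ = a * (b * c * b⁻¹ * c⁻¹) * a⁻¹ * (a * c * a⁻¹ * c⁻¹) := by group
    rw [e]
    have haN : a ∈ normalizer (V : Set G) := by
      rcases ha with ha | ha
      · exact D.M.Q_V i ha
      · exact D.M.Q_V j ha
    exact mul_mem (D.N_Y haN ih) (hgen a ha)
  | inv_mul_cancel a ha b hb ih =>
    have e : a⁻¹ * b * c * (a⁻¹ * b)⁻¹ * c⁻¹ = a⁻¹ * (b * c * b⁻¹ * c⁻¹) * a⁻¹⁻¹ * (a⁻¹ * c * a⁻¹⁻¹ * c⁻¹) := by group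
    rw [e]
    have ha' : a⁻¹ ∈ (Qf i : Set G) ∪ (Qf j : Set G) := by
      rcases ha with ha | ha
      · exact Or.inl ((Qf i).inv_mem ha)
      · exact Or.inr ((Qf j).inv_mem ha)
    have haN : a⁻¹ ∈ normalizer (V : Set G) := by
      rcases ha' with ha | ha
      · exact D.M.Q_V i ha
      · exact D.M.Q_V j ha
    exact mul_mem (D.N_Y haN ih) (hgen _ ha')

/-- 2-transitivity -/
theorem Qtr {x n : G} (hx : x ∈ Qf i ⊔ Qf j) (hxC : x ∉ normalizer (Rf i : Set G))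
    (hn : cj n (Rf i) = Rf j) : ∃ u ∈ Qf i, (u * n)⁻¹ * x ∈ normalizer (Rf i : Set G) := by
  obtain ⟨l, h1, -⟩ := permX D.M hx i
  have hl : l ≠ i := by
    rintro rfl
    exact hxC (mem_normalizer_of_cj h1)
  obtain ⟨u, hu, h2⟩ := D.M.tran i j l D.ne.symm hl
  refine ⟨u, hu, mem_normalizer_of_cj ?_⟩
  rw [cj_mul, h1, ← h2, ← hn, ← cj_mul, ← cj_mul]
  have e : (u * n)⁻¹ * u * n = 1 := by group
  rw [e, cj, map_one, one_smul]

end XD

end Cfsg.Agent.Omega.NO1U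

end
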