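import Cfsg.Agent.Mrg.Omega.NOne.SU.Defs


/-!
# Facts on the quadratic extension `F/k`
-/

set_option autoImplicit false
set_option linter.unusedSectionVars false
set_option linter.unusedVariables false

namespace Cfsg.Agent.Omega.NOne.SU.Quad

variable {k F : Type*} [Field k] [Field F] [Algebra k F] (T : Quad k F)
include T

theorem finF : Finite F := by
  have h := T.card
  have h4 := T.four
  apply Nat.finite_of_card_ne_zero
  rw [h]
  positivity

theorem fink : Finite k := by
  have h4 := T.four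
  exact Nat.finite_of_card_ne_zero (by omega)

theorem sg_alg (a : k) : T.sg (algebraMap k F a) = algebraMap k F a := T.sg.commutes a

theorem twoF (h2 : (2 : k) = 0) : (2 : F) = 0 := by
  have := congrArg (algebraMap k F) h2
  rw [map_ofNat, map_zero] at this
  exact this

theorem add_self {h2 : (2 : k) = 0} (x : F) : x + x = 0 := by
  rw [← two_mul, T.twoF h2, zero_mul]

theorem add_selfk {h2 : (2 : k) = 0} (x : k) : x + x = 0 := by
  rw [← two_mul, h2, zero_mul]

theorem exists_ne : ∃ x, T.sg x ≠ x := by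
  by_contra hcon
  push Not at hcon
  have hs : Function.Surjective (algebraMap k F) := fun x => T.fix x (hcon x)
  have := T.fink
  have h1 := Nat.card_le_card_of_surjective _ hs
  have h2 := T.card
  have h4 := T.four
  rw [h2, pow_two] at h1
  nlinarith

theorem tr_mul_alg (x : F) (a : k) : T.tr (x * algebraMap k F a) = T.tr x * a := by
  rw [mul_comm x, ← Algebra.smul_def, map_smul, smul_eq_mul, mul_comm]

theorem alg_inj' : Function.Injective (algebraMap k F) := (algebraMap k F).injective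

theorem tr_sg' (x : F) : T.tr (T.sg x) = T.tr x := by
  apply T.alg_inj'
  rw [T.tr_eq, T.tr_eq, T.sg_sg, add_comm]

theorem nm_mul (x y : F) : T.nm (x * y) = T.nm x * T.nm y := by
  apply T.alg_inj'
  rw [T.nm_eq, map_mul, map_mul, T.nm_eq, T.nm_eq]
  ring

theorem nm_one : T.nm 1 = 1 := by
  apply T.alg_inj'
  rw [T.nm_eq]
  simp

theorem nm_zero : T.nm 0 = 0 := by
  apply T.alg_inj'
  rw [T.nm_eq]
  simp

theorem nm_ne {x : F} (hx : x ≠ 0) : T.nm x ≠ 0 := by
  intro h
  have h1 := T.nm_eq x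
  rw [h, map_zero] at h1
  rcases mul_eq_zero.1 h1.symm with h | h
  · exact hx h
  · exact hx ((map_eq_zero T.sg).1 h)

theorem sg_ne' {x : F} (hx : x ≠ 0) : T.sg x ≠ 0 := fun h => hx ((map_eq_zero T.sg).1 h)

theorem tr_eq_zero (h2 : (2 : k) = 0) {x : F} (h : T.tr x = 0) : ∃ a : k, algebraMap k F a = x := by
  apply T.fix
  have h1 := T.tr_eq x
  rw [h, map_zero] at h1
  have h3 := T.add_self (h2 := h2) x
  have : T.sg x = - x := by
    rw [eq_neg_iff_add_eq_zero, add_comm]
    exact h1.symm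
  rw [this]
  exact neg_eq_of_add_eq_zero_left h3

theorem tr_alg (h2 : (2 : k) = 0) (a : k) : T.tr (algebraMap k F a) = 0 := by
  apply T.alg_inj'
  rw [T.tr_eq, T.sg_alg, map_zero, T.add_self (h2 := h2)]

theorem exists_tr_ne (h2 : (2 : k) = 0) : ∃ x, T.tr x ≠ 0 := by
  obtain ⟨x, hx⟩ := T.exists_ne
  refine ⟨x, fun h => hx ?_⟩
  obtain ⟨a, rfl⟩ := T.tr_eq_zero h2 h
  exact T.sg_alg a

/-- the trace form is nondegenerate -/
theorem eq_zero_of_tr (h2 : (2 : k) = 0) {x : F} (h : ∀ b, T.tr (x * b) = 0) : x = 0 := by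
  by_contra hx
  obtain ⟨y, hy⟩ := T.exists_tr_ne h2
  apply hy
  have := h (x⁻¹ * y)
  rwa [mul_inv_cancel_left₀ hx] at this

theorem eq_of_tr (h2 : (2 : k) = 0) {x y : F} (h : ∀ b, T.tr (x * b) = T.tr (y * b)) : x = y := by
  rw [← sub_eq_zero]
  apply T.eq_zero_of_tr h2
  intro b
  rw [sub_mul, map_sub, h b, sub_self]

/-- every element of `F` is a square -/
theorem exists_sq (h2 : (2 : k) = 0) (x : F) : ∃ y, y ^ 2 = x := by
  have := T.finF
  have hc : CharP F 2 := CharTwo.of_one_ne_zero_of_two_eq_zero one_ne_zero (T.twoF h2)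
  have hinj : Function.Injective (fun y : F => y ^ 2) := by
    intro a b hab
    have h1 : (a - b) ^ 2 = 0 := by
      have h3 : (a - b) ^ 2 = a ^ 2 - b ^ 2 - 2 * (b * (a - b)) := by ring
      rw [h3, T.twoF h2, zero_mul, sub_zero]
      exact sub_eq_zero.2 hab
    exact sub_eq_zero.1 (pow_eq_zero_iff (two_ne_zero)|>.1 h1)
  exact Finite.surjective_of_injective hinj x

/-- `θ² = tr(θ) θ + nm(θ)` -/
theorem quad (h2 : (2 : k) = 0) (x : F) : x * x = algebraMap k F (T.tr x) * x + algebraMap k F (T.nm x) := by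
  rw [T.tr_eq, T.nm_eq]
  have : (x + T.sg x) * x + x * T.sg x = x * x + 2 * (x * T.sg x) := by ring
  rw [this, T.twoF h2, zero_mul, add_zero]

/-- A `k`-linear map `ψ : F → F` with `tr (ψ(x) sg x) = 0` is a scalar of `k`. -/
theorem scalar_of (h2 : (2 : k) = 0) (ψ : F → F) (hadd : ∀ x y, ψ (x + y) = ψ x + ψ y)
    (hsm : ∀ (a : k) x, ψ (algebraMap k F a * x) = algebraMap k F a * ψ x)
    (h : ∀ x, T.tr (ψ x * T.sg x) = 0) : ∃ d : k, ∀ x, ψ x = algebraMap k F d * x := by
  obtain ⟨d, hd⟩ : ∃ d : k, algebraMap k F d = ψ 1 := by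
    apply T.tr_eq_zero h2
    have := h 1
    rwa [map_one, mul_one] at this
  refine ⟨d, fun x => ?_⟩
  by_cases hx : T.tr x = 0
  · obtain ⟨a, rfl⟩ := T.tr_eq_zero h2 hx
    have := hsm a 1
    rw [mul_one] at this
    rw [this, ← hd, mul_comm]
  · -- `ψ x = e x`
    have hx0 : x ≠ 0 := by
      rintro rfl
      exact hx (map_zero _)
    obtain ⟨e, he⟩ := T.tr_eq_zero h2 (h x)
    have h1 : ψ x = algebraMap k F (e * (T.nm x)⁻¹) * x := by
      have hs := T.sg_ne' hx0
      rw [map_mul, he, map_inv₀, T.nm_eq]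
      field_simp
    have h3 := h (x + 1)
    rw [hadd, map_add, map_one, h1, ← hd] at h3
    have h4 : T.tr ((algebraMap k F (e * (T.nm x)⁻¹) * x + algebraMap k F d) * (T.sg x + 1)) =
        T.tr (algebraMap k F (e * (T.nm x)⁻¹) * x * T.sg x) + T.tr (algebraMap k F d * 1) +
        (T.tr (x * algebraMap k F (e * (T.nm x)⁻¹)) + T.tr (T.sg x * algebraMap k F d)) := by
      rw [← map_add, ← map_add, ← map_add]
      congr 1
      ring
    rw [h4, T.tr_mul_alg, T.tr_mul_alg, T.tr_sg', ← h1, h x, mul_one, T.tr_alg h2, zero_add, zero_add,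
      ← mul_add] at h3
    have h5 : e * (T.nm x)⁻¹ + d = 0 := (mul_eq_zero.1 h3).resolve_left hx
    have h6 : e * (T.nm x)⁻¹ = d := by
      have h7 := T.add_selfk (h2 := h2) d
      calc e * (T.nm x)⁻¹ = e * (T.nm x)⁻¹ + (d + d) := by rw [h7, add_zero]
        _ = (e * (T.nm x)⁻¹ + d) + d := by ring
        _ = d := by rw [h5, zero_add]
    rw [h1, h6]

/-- there is `z ≠ 0` with `z ≠ (sg z)²` -/
theorem exists_z (h2 : (2 : k) = 0) : ∃ z : F, z ≠ 0 ∧ T.sg z * T.sg z ≠ z := by
  by_contra hcon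
  push Not at hcon
  have := T.finF
  have h1 : ∀ z : F, z ≠ 0 → z ^ 3 = 1 := by
    intro z hz
    have h3 := hcon z hz
    have h4 : T.sg z = z * z := by
      have := congrArg T.sg h3
      rw [map_mul, T.sg_sg] at this
      exact this.symm
    rw [h4] at h3
    have h5 : z * (z ^ 3 - 1) = 0 := by
      have : z * (z ^ 3 - 1) = z * z * (z * z) - z := by ring
      rw [this, h3, sub_self]
    rcases mul_eq_zero.1 h5 with h | h
    · exact absurd h hz
    · exact sub_eq_zero.1 h
  obtain ⟨g, hg⟩ := IsCyclic.exists_generator (α := Fˣ)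
  have hord := orderOf_eq_card_of_forall_mem_zpowers hg
  have h3 : g ^ 3 = 1 := Units.ext (by
    have := h1 g g.ne_zero
    push_cast
    exact this)
  have h4 := orderOf_dvd_of_pow_eq_one h3
  rw [hord] at h4
  have h5 := Nat.le_of_dvd (by norm_num) h4
  have h6 : Nat.card Fˣ = Nat.card F - 1 := by
    have := Fintype.ofFinite F
    rw [Nat.card_units]
  rw [h6, T.card] at h5
  have h7 := T.four
  have : 16 ≤ Nat.card k ^ 2 := by nlinarith
  omega

end Cfsg.Agent.Omega.NOne.SU.Quad
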