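import Cfsg.Agent.Mrg.Omega.NOne.SU.Defs
import Mathlib.Algebra.Module.TransferInstance
import Mathlib.FieldTheory.Finite.Basic

section


/-!
# THEOREM UNI, section 4: coordinates `M = e + U + e'`

`OppV D` : a member `e' = v(F)` opposite to `e = ε(F)` fixed by the torus.  `u : Φ → M` is the
inverse of `y` on `U = e^⊥ ∩ e'^⊥`; `co : M ≃ F × Φ × F`.
-/

set_option autoImplicit false
set_option linter.unusedSectionVars false

namespace Cfsg.Agent.Omega.NOne.SU

open Quad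

namespace Uni

variable {k F M Φ : Type*} [Field k] [Field F] [Algebra k F] [AddCommGroup M] [Module k M]
    [AddCommGroup Φ] [Module k Φ] [Module F Φ]

/-- An opposite member `e' = v(F)` fixed by the torus. -/
structure OppV (D : Uni k F M Φ) where
  v : F →ₗ[k] M
  Bv : ∀ s, D.B (v s) = s
  vv : ∀ s s', D.f (v s) (v s') = 0
  tv : ∀ (z : Fˣ) s, D.t z (v s) = v ((z : F) ^ 2 * s)

section basic

variable (D : Uni k F M Φ)

theorem Bε (c : F) : D.B (D.ε c) = 0 := by
  obtain ⟨j, hj, h⟩ := D.Jn 1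
  have h1 := D.Je j hj c
  rw [h, add_eq_left, one_smul] at h1
  exact D.ε_inj (by rw [h1, map_zero])

theorem yε (c : F) : D.y (D.ε c) = 0 := (D.y_ker _ (D.Bε c)).2 ⟨c, rfl⟩

theorem hm_zero_left (x : Φ) : D.hm 0 x = 0 := by
  have := D.hm_add 0 0 x
  rwa [add_zero, left_eq_add] at this

theorem hm_add_right (x u u' : Φ) : D.hm x (u + u') = D.hm x u + D.hm x u' := by
  rw [D.hm_sym, D.hm_add, map_add, ← D.hm_sym, ← D.hm_sym]

theorem hm_smul_right (s : F) (x u : Φ) : D.hm x (s • u) = D.sg s * D.hm x u := by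
  rw [D.hm_sym, D.hm_smul, map_mul, ← D.hm_sym]

theorem hm_zero_right (x : Φ) : D.hm x 0 = 0 := by
  rw [D.hm_sym, D.hm_zero_left, map_zero]

theorem tinv_B (z : Fˣ) (m : M) : D.B ((D.t z)⁻¹ m) = ((z : F) ^ 2)⁻¹ * D.B m := by
  have h := D.tB z ((D.t z)⁻¹ m)
  have h2 : D.t z ((D.t z)⁻¹ m) = m := by
    rw [← LinearEquiv.mul_apply, mul_inv_cancel]; rfl
  rw [h2] at h
  rw [h, inv_mul_cancel_left₀ (pow_ne_zero 2 z.ne_zero)]

variable [CharP k 2]

theorem f_symm (x x' : M) : D.f x x' = D.f x' x := by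
  have h := D.alt (x + x')
  simp only [map_add, LinearMap.add_apply, D.alt, zero_add, add_zero] at h
  exact eq_of_add_eq_zeroM k (by rwa [add_comm] at h)

theorem f_ε (c c' : F) : D.f (D.ε c) (D.ε c') = 0 := by
  rw [D.fe, D.Bε, map_zero, mul_zero, map_zero]

theorem tr_smul_mul (a : k) (x : F) : D.tr (a • x) = a * D.tr x := by
  rw [map_smul, smul_eq_mul]

end basic

variable {D : Uni k F M Φ} [CharP k 2] [Finite k] [Finite F] (o : D.OppV)

theorem f_ε_v (c s : F) : D.f (D.ε c) (o.v s) = D.tr (c * D.sg s) := by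
  rw [D.fe, o.Bv]

theorem u_unique {m m' : M} (hm : D.B m = 0) (hm' : D.B m' = 0)
    (h : ∀ s, D.f (o.v s) m = 0) (h' : ∀ s, D.f (o.v s) m' = 0) (hy : D.y m = D.y m') : m = m' := by
  have h1 : D.B (m - m') = 0 := by rw [map_sub, hm, hm', sub_zero]
  obtain ⟨c, hc⟩ := (D.y_ker _ h1).1 (by rw [map_sub, hy, sub_self])
  have h2 : c = 0 := by
    apply D.tr_nondegH'
    intro s
    rw [← D.f_ε_v o, D.f_symm, ← hc, map_sub, h, h', sub_zero]
  rw [h2, map_zero, sub_eq_zero] at hc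
  exact hc

theorem exists_u (x : Φ) : ∃ m, D.B m = 0 ∧ D.y m = x ∧ ∀ s, D.f (o.v s) m = 0 := by
  obtain ⟨m, hm, hy⟩ := D.y_surj x
  obtain ⟨c, hc⟩ := D.exists_rep ((D.f.flip m).comp o.v)
  refine ⟨m - D.ε c, ?_, ?_, fun s => ?_⟩
  · rw [map_sub, hm, D.Bε, sub_zero]
  · rw [map_sub, hy, D.yε, sub_zero]
  · have h := hc s
    change D.f (o.v s) m = _ at h
    rw [map_sub, h, D.f_symm (o.v s), D.f_ε_v o, sub_self]

/-- the inverse of `y` on `U = e^⊥ ∩ e'^⊥`. -/
noncomputable def uo : Φ →ₗ[k] M where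
  toFun x := (exists_u o x).choose
  map_add' x x' := by
    have h1 := (exists_u o x).choose_spec
    have h2 := (exists_u o x').choose_spec
    have h3 := (exists_u o (x + x')).choose_spec
    refine u_unique o h3.1 ?_ h3.2.2 (fun s => ?_) ?_
    · rw [map_add, h1.1, h2.1, add_zero]
    · rw [map_add, h1.2.2, h2.2.2, add_zero]
    · rw [map_add, h1.2.1, h2.2.1, h3.2.1]
  map_smul' a x := by
    have h1 := (exists_u o x).choose_spec
    have h3 := (exists_u o (a • x)).choose_spec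
    refine u_unique o h3.1 ?_ h3.2.2 (fun s => ?_) ?_
    · rw [map_smul, RingHom.id_apply, h1.1, smul_zero]
    · rw [map_smul, RingHom.id_apply, h1.2.2, smul_zero]
    · rw [map_smul, RingHom.id_apply, h1.2.1, h3.2.1]

theorem Bu (x : Φ) : D.B (uo o x) = 0 := (exists_u o x).choose_spec.1

theorem yu (x : Φ) : D.y (uo o x) = x := (exists_u o x).choose_spec.2.1

theorem vu (s : F) (x : Φ) : D.f (o.v s) (uo o x) = 0 := (exists_u o x).choose_spec.2.2 s

theorem eq_u {m : M} (hm : D.B m = 0) (h : ∀ s, D.f (o.v s) m = 0) : m = uo o (D.y m) :=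
  u_unique o hm (Bu o _) h (fun s => vu o s _) (yu o _).symm

theorem εu (c : F) (x : Φ) : D.f (D.ε c) (uo o x) = 0 := by
  rw [D.fe, Bu, map_zero, mul_zero, map_zero]

theorem uu (x x' : Φ) : D.f (uo o x) (uo o x') = D.tr (D.hm x x') := by
  rw [D.fy _ _ (Bu o x) (Bu o x'), yu, yu]

theorem t_u (z : Fˣ) (x : Φ) : D.t z (uo o x) = uo o ((z : F) • x) := by
  refine u_unique o ?_ (Bu o _) (fun s => ?_) (fun s => vu o s _) ?_
  · rw [D.tB, Bu, mul_zero]
  · have h : D.t z (o.v (((z : F) ^ 2)⁻¹ * s)) = o.v s := by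
      rw [o.tv, mul_inv_cancel_left₀ (pow_ne_zero 2 z.ne_zero)]
    rw [← h, D.tf, vu, mul_zero]
  · rw [D.ty z _ (Bu o x), yu, yu]

/-- the coordinate map `(a, x, b) ↦ ε a + u x + v b`. -/
noncomputable def psi : F × Φ × F →ₗ[k] M := D.ε.coprod ((uo o).coprod o.v)

theorem psi_apply (a : F) (x : Φ) (b : F) : psi o (a, x, b) = D.ε a + (uo o x + o.v b) := by
  rw [psi, LinearMap.coprod_apply, LinearMap.coprod_apply]

theorem B_psi (p : F × Φ × F) : D.B (psi o p) = p.2.2 := by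
  obtain ⟨a, x, b⟩ := p
  rw [psi_apply, map_add, map_add, D.Bε, Bu, o.Bv, zero_add, zero_add]

theorem psi_injective : Function.Injective (psi o) := by
  rw [injective_iff_map_eq_zero]
  rintro ⟨a, x, b⟩ h
  have h1 : b = 0 := by
    have := B_psi o (a, x, b)
    rw [h, map_zero] at this
    exact this.symm
  rw [psi_apply, h1, map_zero, add_zero] at h
  have h2 : x = 0 := by
    have := congrArg D.y h
    rwa [map_add, D.yε, yu, zero_add, map_zero] at this
  rw [h2, map_zero, add_zero] at h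
  have h3 : a = 0 := D.ε_inj (by rw [h, map_zero])
  rw [h1, h2, h3]; rfl

theorem psi_surjective : Function.Surjective (psi o) := by
  intro m
  have h1 : D.B (m - o.v (D.B m)) = 0 := by rw [map_sub, o.Bv, sub_self]
  have h2 : D.B (m - o.v (D.B m) - uo o (D.y (m - o.v (D.B m)))) = 0 := by
    rw [map_sub, h1, Bu, sub_zero]
  obtain ⟨c, hc⟩ := (D.y_ker _ h2).1 (by rw [map_sub, yu, sub_self])
  refine ⟨(c, D.y (m - o.v (D.B m)), D.B m), ?_⟩
  rw [psi_apply, ← hc]
  abel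

/-- coordinates -/
noncomputable def co : M ≃ₗ[k] F × Φ × F :=
  (LinearEquiv.ofBijective (psi o) ⟨psi_injective o, psi_surjective o⟩).symm

theorem psi_co (m : M) : psi o (co o m) = m :=
  (LinearEquiv.ofBijective (psi o) ⟨psi_injective o, psi_surjective o⟩).apply_symm_apply m

theorem co_psi (p : F × Φ × F) : co o (psi o p) = p :=
  (LinearEquiv.ofBijective (psi o) ⟨psi_injective o, psi_surjective o⟩).symm_apply_apply p

theorem co_ε (a : F) : co o (D.ε a) = (a, 0, 0) := by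
  have h : D.ε a = psi o (a, 0, 0) := by rw [psi_apply, map_zero, map_zero, add_zero, add_zero]
  rw [h, co_psi]

theorem co_u (x : Φ) : co o (uo o x) = (0, x, 0) := by
  have h : uo o x = psi o (0, x, 0) := by rw [psi_apply, map_zero, map_zero, add_zero, zero_add]
  rw [h, co_psi]

theorem co_v (b : F) : co o (o.v b) = (0, 0, b) := by
  have h : o.v b = psi o (0, 0, b) := by rw [psi_apply, map_zero, map_zero, zero_add, zero_add]
  rw [h, co_psi]

theorem co_B (m : M) : (co o m).2.2 = D.B m := by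
  conv_rhs => rw [← psi_co o m]
  exact (B_psi o _).symm

theorem co_y {m : M} (h : D.B m = 0) : (co o m).2.1 = D.y m := by
  have h1 := psi_co o m
  have h2 : (co o m).2.2 = 0 := by rw [co_B, h]
  have h3 : psi o (co o m) = D.ε (co o m).1 + (uo o (co o m).2.1 + o.v (co o m).2.2) :=
    psi_apply o _ _ _
  rw [h2, map_zero, add_zero] at h3
  have h4 := congrArg D.y (h3.symm.trans h1)
  rw [map_add, D.yε, yu, zero_add] at h4
  exact h4

theorem eq_psi (m : M) : m = D.ε (co o m).1 + (uo o (co o m).2.1 + o.v (co o m).2.2) := by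
  conv_lhs => rw [← psi_co o m]
  exact psi_apply o _ _ _

/-- two additive maps which agree on `e`, `U`, `e'` are equal -/
theorem ext_on {N : Type*} [AddCommGroup N] {φ ψ : M →+ N} (h1 : ∀ a, φ (D.ε a) = ψ (D.ε a))
    (h2 : ∀ x, φ (uo o x) = ψ (uo o x)) (h3 : ∀ b, φ (o.v b) = ψ (o.v b)) (m : M) : φ m = ψ m := by
  rw [eq_psi o m, map_add, map_add, map_add, map_add, h1, h2, h3]

end Uni

end Cfsg.Agent.Omega.NOne.SU

end

section


/-!
# THEOREM UNI, section 4: `J` is `F`-linear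

`rho o j : F → F` is the `e`-coordinate of `j` on `e'`.
-/

set_option autoImplicit false
set_option linter.unusedSectionVars false

namespace Cfsg.Agent.Omega.NOne.SU

open Quad

namespace Uni

variable {k F M Φ : Type*} [Field k] [Field F] [Algebra k F] [AddCommGroup M] [Module k M]
    [AddCommGroup Φ] [Module k Φ] [Module F Φ]

section basic

variable (D : Uni k F M Φ)

theorem J_B {j : M ≃ₗ[k] M} (hj : j ∈ D.J) (m : M) : D.B (j m) = D.B m := by
  have h := (D.JM j hj m).1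
  rwa [map_sub, sub_eq_zero] at h

theorem chi_mul {j j' : M ≃ₗ[k] M} (hj : j ∈ D.J) (hj' : j' ∈ D.J) {m : M} (hm : D.B m = 1) :
    D.χ (j * j') = D.χ j + D.χ j' := by
  have h1 := (D.JM _ (mul_mem hj hj') m).2
  have h2 := (D.JM _ hj (j' m)).2
  have h3 := (D.JM _ hj' m).2
  rw [hm, one_smul] at h1 h3
  rw [D.J_B hj', hm, one_smul] at h2
  rw [← h1, ← h2, ← h3, ← map_add, LinearEquiv.mul_apply]
  congr 1
  abel

theorem chi_one {m : M} (hm : D.B m = 1) : D.χ 1 = 0 := by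
  have h := (D.JM 1 (one_mem _) m).2
  rw [hm, one_smul] at h
  rw [← h, show (1 : M ≃ₗ[k] M) m = m from rfl, sub_self, map_zero]

end basic

variable {D : Uni k F M Φ} [CharP k 2] [Finite k] [Finite F] (o : D.OppV)

include o in
theorem chi_mul' {j j' : M ≃ₗ[k] M} (hj : j ∈ D.J) (hj' : j' ∈ D.J) :
    D.χ (j * j') = D.χ j + D.χ j' := D.chi_mul hj hj' (o.Bv 1)

include o in
theorem chi_inv {j : M ≃ₗ[k] M} (hj : j ∈ D.J) : D.χ j⁻¹ = - D.χ j := by
  have h := D.chi_mul hj (inv_mem hj) (o.Bv 1)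
  rw [mul_inv_cancel, D.chi_one (o.Bv 1)] at h
  exact (neg_eq_of_add_eq_zero_right h.symm).symm

theorem J_u {j : M ≃ₗ[k] M} (hj : j ∈ D.J) (x : Φ) :
    j (uo o x) = uo o x + D.ε (D.hm x (D.χ j)) := by
  rw [D.JP j hj _ (Bu o x), yu]

/-- the `e`-coordinate of `j` on `e'` -/
noncomputable def rho (j : M ≃ₗ[k] M) : F →ₗ[k] F :=
  (LinearMap.fst k F (Φ × F)).comp ((co o).toLinearMap.comp (j.toLinearMap.comp o.v))

theorem rho_apply (j : M ≃ₗ[k] M) (b : F) : rho o j b = (co o (j (o.v b))).1 := rfl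

theorem J_v {j : M ≃ₗ[k] M} (hj : j ∈ D.J) (b : F) :
    j (o.v b) = D.ε (rho o j b) + (uo o (b • D.χ j) + o.v b) := by
  have h1 := D.JM j hj (o.v b)
  rw [o.Bv] at h1
  have h2 : (co o (j (o.v b))).2.2 = b := by rw [co_B, D.J_B hj, o.Bv]
  have h3 : (co o (j (o.v b))).2.1 = b • D.χ j := by
    have h4 : co o (j (o.v b)) = co o (j (o.v b) - o.v b) + co o (o.v b) := by
      rw [← map_add, sub_add_cancel]
    rw [h4, co_v, Prod.snd_add, Prod.fst_add, co_y o h1.1, h1.2]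
    exact add_zero _
  conv_lhs => rw [eq_psi o (j (o.v b)), h2, h3]
  rw [rho_apply]

theorem rho_mul {j j' : M ≃ₗ[k] M} (hj : j ∈ D.J) (hj' : j' ∈ D.J) (b : F) :
    rho o (j * j') b = rho o j b + rho o j' b + b * D.hm (D.χ j') (D.χ j) := by
  rw [rho_apply, LinearEquiv.mul_apply, J_v o hj', map_add j, map_add j, D.Je j hj, J_u o hj,
    J_v o hj b, D.hm_smul]
  simp only [map_add, co_ε, co_u, co_v, Prod.fst_add]
  ring

theorem J_ext {j j' : M ≃ₗ[k] M} (hj : j ∈ D.J) (hj' : j' ∈ D.J) (h1 : D.χ j = D.χ j')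
    (h2 : ∀ b, rho o j b = rho o j' b) : j = j' := by
  ext m
  refine ext_on o (φ := j.toLinearMap.toAddMonoidHom) (ψ := j'.toLinearMap.toAddMonoidHom)
    (fun a => ?_) (fun x => ?_) (fun b => ?_) m
  · change j _ = j' _
    rw [D.Je j hj, D.Je j' hj']
  · change j _ = j' _
    rw [J_u o hj, J_u o hj', h1]
  · change j _ = j' _
    rw [J_v o hj, J_v o hj', h1, h2]

/-- the semilinear part of `rho` -/
noncomputable def sl (θ : F) (j : M ≃ₗ[k] M) : F := rho o j θ + θ * rho o j 1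

theorem sl_mul (θ : F) {j j' : M ≃ₗ[k] M} (hj : j ∈ D.J) (hj' : j' ∈ D.J) :
    sl o θ (j * j') = sl o θ j + sl o θ j' := by
  rw [sl, sl, sl, rho_mul o hj hj', rho_mul o hj hj']
  have h := add_selfF k (θ * D.hm (D.χ j') (D.χ j))
  linear_combination h

theorem sl_of_chi (θ : F) {j : M ≃ₗ[k] M} (hj : j ∈ D.J) (h : D.χ j = 0) : sl o θ j = 0 := by
  obtain ⟨a, ha⟩ := D.JA j hj h
  have h1 : ∀ b, rho o j b = a • b := fun b => by
    rw [rho_apply, ha, o.Bv, map_add, co_v, co_ε]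
    exact zero_add _
  rw [sl, h1, h1, mul_smul_comm, mul_one, add_selfF k]

theorem sl_congr (θ : F) {j j' : M ≃ₗ[k] M} (hj : j ∈ D.J) (hj' : j' ∈ D.J)
    (h : D.χ j = D.χ j') : sl o θ j = sl o θ j' := by
  have h1 : D.χ (j * j'⁻¹) = 0 := by
    rw [chi_mul' o hj (inv_mem hj'), chi_inv o hj', h, add_neg_cancel]
  have h2 := sl_of_chi o θ (mul_mem hj (inv_mem hj')) h1
  have h3 := sl_mul o θ (mul_mem hj (inv_mem hj')) hj'
  rw [inv_mul_cancel_right, h2, zero_add] at h3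
  exact h3

theorem t_inv_apply (z : Fˣ) (m : M) : (D.t z)⁻¹ m = D.t z⁻¹ m := by rw [map_inv]

theorem t_t_inv (z : Fˣ) (m : M) : D.t z (D.t z⁻¹ m) = m := by
  rw [← LinearEquiv.mul_apply, ← map_mul, mul_inv_cancel, map_one]
  rfl

theorem conj_mem_J (z : Fˣ) {j : M ≃ₗ[k] M} (hj : j ∈ D.J) : D.t z * j * (D.t z)⁻¹ ∈ D.J := by
  have hval : ∀ m, (D.t z * j * (D.t z)⁻¹) m = D.t z (j (D.t z⁻¹ m)) := fun m => by
    rw [LinearEquiv.mul_apply, LinearEquiv.mul_apply, t_inv_apply]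
  have htt : ∀ m, D.t z (D.t z⁻¹ m) = m := t_t_inv z
  refine D.Jmax _ (D.tH z j (D.J_le hj)) (fun c => ?_) (fun m hm => ?_) (fun m => ?_)
  · rw [hval, D.te, D.Je j hj, ← D.te z⁻¹ c, htt]
  · have h1 : D.B (D.t z⁻¹ m) = 0 := by rw [D.tB, hm, mul_zero]
    rw [hval, D.JP j hj _ h1, map_add, htt, D.te]
    exact ⟨_, add_sub_cancel_left _ _⟩
  · rw [hval, map_sub, D.tB, D.J_B hj, D.tB, sub_eq_zero, ← mul_assoc]
    rw [Units.val_inv_eq_inv_val, ← mul_pow, mul_inv_cancel₀ z.ne_zero, one_pow, one_mul]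

include o in
theorem conj_chi (z : Fˣ) {j : M ≃ₗ[k] M} (hj : j ∈ D.J) :
    D.χ (D.t z * j * (D.t z)⁻¹) = (z : F)⁻¹ • D.χ j := by
  have h1 := (D.JM _ (conj_mem_J z hj) (o.v 1)).2
  rw [o.Bv, one_smul] at h1
  rw [← h1, LinearEquiv.mul_apply, LinearEquiv.mul_apply, t_inv_apply]
  have h2 : D.t z (j (D.t z⁻¹ (o.v 1))) - o.v 1
      = D.t z (j (D.t z⁻¹ (o.v 1)) - D.t z⁻¹ (o.v 1)) := by
    rw [map_sub, t_t_inv]
  have h3 := D.JM j hj (D.t z⁻¹ (o.v 1))
  rw [h2, D.ty z _ h3.1, h3.2, D.tB, o.Bv, mul_one, smul_smul, Units.val_inv_eq_inv_val]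
  congr 1
  have := z.ne_zero
  field_simp

theorem conj_rho (z : Fˣ) {j : M ≃ₗ[k] M} (hj : j ∈ D.J) (b : F) :
    rho o (D.t z * j * (D.t z)⁻¹) b
      = (z : F) * (D.sg z)⁻¹ * rho o j ((z : F)⁻¹ ^ 2 * b) := by
  rw [rho_apply, LinearEquiv.mul_apply, LinearEquiv.mul_apply, t_inv_apply, o.tv,
    Units.val_inv_eq_inv_val, J_v o hj, map_add (D.t z), map_add (D.t z), D.te, t_u, o.tv,
    map_add, map_add, co_ε, co_u, co_v]
  simp only [Prod.fst_add, add_zero]

theorem rho_eq {θ : F} (hθ : D.tr θ = 1) (j : M ≃ₗ[k] M) (b : F) :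
    rho o j b = b * rho o j 1 + D.tr b • sl o θ j := by
  obtain ⟨a, ha⟩ := D.exists_decomp hθ b
  have h1 : b = a • (1 : F) + D.tr b • θ := by
    rw [← Algebra.algebraMap_eq_smul_one]; exact ha
  have h2 : rho o j b = a • rho o j 1 + D.tr b • rho o j θ := by
    conv_lhs => rw [h1, map_add, map_smul, map_smul]
  have h3 := add_selfF k (D.tr b • (θ * rho o j 1))
  have h4 : b * rho o j 1 = a • rho o j 1 + D.tr b • (θ * rho o j 1) := by
    conv_lhs => rw [h1, add_mul, smul_mul_assoc, one_mul, smul_mul_assoc]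
  rw [h2, h4, sl, smul_add]
  linear_combination (-1 : F) * h3

theorem conj_sl {θ : F} (hθ : D.tr θ = 1) (z : Fˣ) {j : M ≃ₗ[k] M} (hj : j ∈ D.J) :
    sl o θ (D.t z * j * (D.t z)⁻¹) = (z : F) * (D.sg z)⁻¹ ^ 3 * sl o θ j := by
  rw [sl, conj_rho o z hj, conj_rho o z hj, rho_eq o hθ j ((z : F)⁻¹ ^ 2 * θ),
    rho_eq o hθ j ((z : F)⁻¹ ^ 2 * 1)]
  set w : F := (z : F)⁻¹ ^ 2 with hw
  have h1 : algebraMap k F (D.tr (w * θ)) = w * θ + D.sg w * D.sg θ := by
    rw [D.tr_eq, map_mul]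
  have h2 : algebraMap k F (D.tr (w * 1)) = w + D.sg w := by
    rw [D.tr_eq, mul_one]
  have h3 : θ + D.sg θ = 1 := by rw [← D.tr_eq, hθ, map_one]
  have h4 : D.sg w = (D.sg z)⁻¹ ^ 2 := by rw [hw, map_pow, map_inv₀]
  rw [Algebra.smul_def, Algebra.smul_def, h1, h2, h4]
  have h5 := add_selfF k (w * θ * rho o j 1)
  have h6 := add_selfF k (w * θ * sl o θ j)
  have h7 : D.sg θ = 1 + θ := by
    have := add_selfF k θ
    linear_combination h3 - this
  rw [h7]
  have h8 := add_selfF k ((D.sg z)⁻¹ ^ 2 * θ * sl o θ j)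
  linear_combination (z : F) * (D.sg z)⁻¹ * (h5 + h6 + h8)

/-- **`J` is `F`-linear** (uses `|k| ≥ 4`). -/
theorem sl_eq_zero {θ : F} (hθ : D.tr θ = 1) {j : M ≃ₗ[k] M} (hj : j ∈ D.J) : sl o θ j = 0 := by
  by_contra hs
  -- for every `z ≠ 0, 1` : `z = w` or `z = w ^ 2`, `w = sg z`
  have key : ∀ z : F, z ≠ 0 → 1 + z ≠ 0 → (z + D.sg z) * (z + D.sg z ^ 2) = 0 := by
    intro z hz hz1
    have hid : ∀ (y : F) (hy : y ≠ 0), ∃ j' ∈ D.J, D.χ j' = y • D.χ j ∧
        sl o θ j' = y⁻¹ * D.sg y ^ 3 * sl o θ j := by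
      intro y hy
      refine ⟨_, conj_mem_J (Units.mk0 y hy)⁻¹ hj, ?_, ?_⟩
      · rw [conj_chi o _ hj, Units.val_inv_eq_inv_val, inv_inv, Units.val_mk0]
      · rw [conj_sl o hθ _ hj, Units.val_inv_eq_inv_val, Units.val_mk0, map_inv₀, inv_inv]
    obtain ⟨j1, hj1, h1, h1'⟩ := hid z hz
    obtain ⟨j2, hj2, h2, h2'⟩ := hid (1 + z) hz1
    have h3 : D.χ j2 = D.χ (j * j1) := by
      rw [chi_mul' o hj hj1, h2, h1, add_smul, one_smul]
    have h4 := sl_congr o θ hj2 (mul_mem hj hj1) h3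
    rw [sl_mul o θ hj hj1, h2', h1'] at h4
    apply four_identity k hz hz1
    apply mul_right_cancel₀ hs
    rw [map_add, map_one] at h4
    rw [h4]
    ring
  -- an element outside `k`
  have hfix : ∀ z : F, z + D.sg z = 0 → ∃ a : k, algebraMap k F a = z := fun z h => by
    apply D.exists_of_tr_eq_zero
    apply algebraMap_inj (F := F)
    rw [D.tr_eq, h, map_zero]
  have hθ0 : ∀ a : k, ¬ ∃ b : k, algebraMap k F b = θ + algebraMap k F a := by
    rintro a ⟨b, hb⟩
    have h1 : D.tr (θ + algebraMap k F a) = 0 := by rw [← hb, D.tr_algebraMap]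
    rw [map_add, D.tr_algebraMap, hθ, add_zero] at h1
    exact one_ne_zero h1
  have cube : ∀ a : k, (θ + algebraMap k F a) ^ 3 = 1 := by
    intro a
    set z := θ + algebraMap k F a with hz
    have hz0 : z ≠ 0 := fun h => hθ0 a ⟨0, by rw [map_zero]; exact h.symm⟩
    have hz1 : 1 + z ≠ 0 := fun h => hθ0 a ⟨1, by
      rw [map_one]; exact eq_of_add_eq_zeroM k h⟩
    rcases mul_eq_zero.1 (key z hz0 hz1) with h | h
    · exact (hθ0 a (hfix z h)).elim
    · have h1 : z = D.sg z ^ 2 := eq_of_add_eq_zeroM k h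
      have h2 : D.sg z = z ^ 2 := by
        have := congrArg D.sg h1
        rwa [map_pow, D.sg_sg] at this
      rw [h2, ← pow_mul] at h1
      have h3 : z * z ^ 3 = z * 1 := by rw [mul_one, ← pow_succ']; exact h1.symm
      exact mul_left_cancel₀ hz0 h3
  have hc : (2 : F) = 0 := by have := charF k F; exact CharTwo.two_eq_zero
  have c0 : θ ^ 3 = 1 := by
    have := cube 0
    rwa [map_zero, add_zero] at this
  have quad : ∀ a : k, a ≠ 0 →
      θ ^ 2 + θ * algebraMap k F a + algebraMap k F a ^ 2 = 0 := by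
    intro a ha
    have h1 := cube a
    have h2 : algebraMap k F a ≠ 0 := fun h => ha (algebraMap_inj (F := F) (by rw [h, map_zero]))
    apply mul_left_cancel₀ h2
    rw [mul_zero]
    linear_combination h1 - c0 - (θ ^ 2 * algebraMap k F a + θ * algebraMap k F a ^ 2) * hc
  obtain ⟨a, ha0, ha1⟩ : ∃ a : k, a ≠ 0 ∧ a ≠ 1 := by
    by_contra hcon
    push Not at hcon
    have h1 : Nat.card k ≤ 2 := by
      have hs : Function.Surjective (fun b : Bool => if b then (1 : k) else 0) := by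
        intro a
        by_cases h : a = 0
        · exact ⟨false, by simp [h]⟩
        · exact ⟨true, by simp [hcon a h]⟩
      have := Nat.card_le_card_of_surjective _ hs
      simpa using this
    have := D.four
    omega
  have q1 := quad 1 one_ne_zero
  have qa := quad a ha0
  rw [map_one] at q1
  have h5 : (1 + algebraMap k F a) * (θ + algebraMap k F (1 + a)) = 0 := by
    rw [map_add, map_one]
    linear_combination q1 + qa - (θ ^ 2) * hc + (algebraMap k F a) * hc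
  rcases mul_eq_zero.1 h5 with h | h
  · apply ha1
    apply algebraMap_inj (F := F)
    rw [map_one]
    exact (eq_of_add_eq_zeroM k h).symm
  · exact hθ0 (1 + a) ⟨0, by rw [map_zero]; exact h.symm⟩

theorem rho_linear {j : M ≃ₗ[k] M} (hj : j ∈ D.J) (b : F) : rho o j b = b * rho o j 1 := by
  obtain ⟨θ, hθ⟩ := D.exists_tr_one
  rw [rho_eq o hθ j b, sl_eq_zero o hθ hj, smul_zero, add_zero]

end Uni

end Cfsg.Agent.Omega.NOne.SU

end

section


/-!
# THEOREM UNI, section 5: the `F`-structure and the hermitian form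

`IsF o` : the `F`-structure of `M = e + U + e'`.  `gf o` is the hermitian form, `f = tr g`.
-/

set_option autoImplicit false
set_option linter.unusedSectionVars false

namespace Cfsg.Agent.Omega.NOne.SU

open Quad

namespace Uni

variable {k F M Φ : Type*} [Field k] [Field F] [Algebra k F] [AddCommGroup M] [Module k M]
    [AddCommGroup Φ] [Module k Φ] [Module F Φ]

/-- `k` acts on `Φ` through `F`. -/
theorem tower_Φ {D : Uni k F M Φ} (o : D.OppV) (a : k) (x : Φ) : algebraMap k F a • x = a • x := by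
  obtain ⟨j, hj, rfl⟩ := D.Jall x
  have h1 := (D.JM j hj (a • o.v 1)).2
  have h2 := (D.JM j hj (o.v 1)).2
  rw [map_smul, ← smul_sub, map_smul, h2, o.Bv, one_smul, map_smul, o.Bv] at h1
  rw [h1, Algebra.algebraMap_eq_smul_one]

section

variable {D : Uni k F M Φ} [CharP k 2] [Finite k] [Finite F] (o : D.OppV)

/-- the `F`-structure of `M` (section 4) -/
noncomputable abbrev modF : Module F M := AddEquiv.module F (co o).toAddEquiv

/-- the `F`-structure is the one of the coordinates -/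
structure IsF [Module F M] : Prop where
  hε : ∀ (s c : F), s • D.ε c = D.ε (s * c)
  hu : ∀ (s : F) (x : Φ), s • uo o x = uo o (s • x)
  hv : ∀ (s b : F), s • o.v b = o.v (s * b)

theorem modF_smul (s : F) (m : M) : (modF o).smul s m = psi o (s • co o m) := rfl

theorem isF_modF : @IsF k F M Φ _ _ _ _ _ _ _ _ D _ _ _ o (modF o) := by
  let _ := modF o
  refine ⟨fun s c => ?_, fun s x => ?_, fun s b => ?_⟩
  · change psi o (s • co o (D.ε c)) = _
    rw [co_ε, Prod.smul_mk, Prod.smul_mk, smul_zero, smul_zero, psi_apply, map_zero, map_zero,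
      add_zero, add_zero, smul_eq_mul]
  · change psi o (s • co o (uo o x)) = _
    rw [co_u, Prod.smul_mk, Prod.smul_mk, smul_zero, psi_apply, map_zero, map_zero,
      add_zero, zero_add]
  · change psi o (s • co o (o.v b)) = _
    rw [co_v, Prod.smul_mk, Prod.smul_mk, smul_zero, smul_zero, psi_apply, map_zero, map_zero,
      zero_add, zero_add, smul_eq_mul]

/-- the hermitian form -/
noncomputable def gf (m m' : M) : F :=
  (co o m).1 * D.sg (co o m').2.2 + (co o m).2.2 * D.sg (co o m').1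
    + D.hm (co o m).2.1 (co o m').2.1

theorem f_eq_tr (m m' : M) : D.f m m' = D.tr (gf o m m') := by
  have h1 : ∀ (s : F) (x : Φ), D.f (uo o x) (o.v s) = 0 := fun s x => by rw [D.f_symm, vu]
  have h2 : ∀ (a : F) (x : Φ), D.f (uo o x) (D.ε a) = 0 := fun a x => by rw [D.f_symm, εu]
  have h3 : ∀ (a s : F), D.f (o.v s) (D.ε a) = D.tr (s * D.sg a) := fun a s => by
    rw [D.f_symm, f_ε_v, ← D.tr_sgH, map_mul, D.sg_sg, mul_comm]
  conv_lhs => rw [eq_psi o m, eq_psi o m']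
  simp only [map_add, LinearMap.add_apply, D.f_ε, f_ε_v, εu, uu, vu, o.vv, h1, h2, h3, gf]
  ring

theorem gf_sym (m m' : M) : gf o m' m = D.sg (gf o m m') := by
  rw [gf, gf, map_add, map_add, map_mul, map_mul, D.sg_sg, D.sg_sg, D.hm_sym (co o m).2.1]
  ring

theorem gf_add (m m' w : M) : gf o (m + m') w = gf o m w + gf o m' w := by
  rw [gf, gf, gf, map_add, Prod.fst_add, Prod.snd_add, Prod.fst_add, Prod.snd_add, D.hm_add]
  ring

theorem gf_add_right (w m m' : M) : gf o w (m + m') = gf o w m + gf o w m' := by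
  rw [gf_sym, gf_add, map_add, ← gf_sym, ← gf_sym]

theorem gf_zero_left (w : M) : gf o 0 w = 0 := by
  have := gf_add o 0 0 w
  rwa [add_zero, left_eq_add] at this

theorem gf_zero_right (w : M) : gf o w 0 = 0 := by
  rw [gf_sym, gf_zero_left, map_zero]

theorem gf_nondeg {m : M} (h : ∀ w, gf o m w = 0) : m = 0 :=
  D.nondeg m fun w => by rw [f_eq_tr o, h, map_zero]

theorem gf_ε (m : M) (c : F) : gf o m (D.ε c) = D.B m * D.sg c := by
  rw [gf, co_ε, co_B]
  simp [D.hm_zero_right]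

theorem gf_v (m : M) (b : F) : gf o m (o.v b) = (co o m).1 * D.sg b := by
  rw [gf, co_v]
  simp [D.hm_zero_right]

theorem gf_u (m : M) (x : Φ) : gf o m (uo o x) = D.hm (co o m).2.1 x := by
  rw [gf, co_u]
  simp

theorem gf_vv (b b' : F) : gf o (o.v b) (o.v b') = 0 := by
  rw [gf_v, co_v, zero_mul]

theorem gf_εε (b b' : F) : gf o (D.ε b) (D.ε b') = 0 := by
  rw [gf_ε, D.Bε, zero_mul]

theorem gf_P {m m' : M} (h : D.B m = 0) (h' : D.B m' = 0) :
    gf o m m' = D.hm (D.y m) (D.y m') := by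
  rw [gf, co_B, co_B, h, h', co_y o h, co_y o h', map_zero, mul_zero, zero_mul, zero_add, zero_add]

variable [Module F M]

namespace IsF

variable {o} (hF : IsF o)

include hF

theorem co_smul (s : F) (m : M) : co o (s • m) = s • co o m := by
  have h1 : s • m = psi o (s • co o m) := by
    have h2 : s • co o m = (s * (co o m).1, s • (co o m).2.1, s * (co o m).2.2) := rfl
    rw [h2, psi_apply]
    conv_lhs => rw [eq_psi o m, smul_add, smul_add, hF.hε, hF.hu, hF.hv]
  rw [h1, co_psi]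

theorem B_smul (s : F) (m : M) : D.B (s • m) = s * D.B m := by
  rw [← co_B o, hF.co_smul, ← co_B o]; rfl

theorem y_smul (s : F) {m : M} (h : D.B m = 0) : D.y (s • m) = s • D.y m := by
  rw [← co_y o h, ← co_y o (by rw [hF.B_smul, h, mul_zero]), hF.co_smul]; rfl

theorem gf_smul (s : F) (m w : M) : gf o (s • m) w = s * gf o m w := by
  rw [gf, gf, hF.co_smul, Prod.smul_fst, Prod.smul_snd, Prod.smul_fst, Prod.smul_snd, D.hm_smul,
    smul_eq_mul, smul_eq_mul]
  ring

theorem gf_smul_right (s : F) (m w : M) : gf o m (s • w) = D.sg s * gf o m w := by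
  rw [gf_sym, hF.gf_smul, map_mul, ← gf_sym]

theorem tower (a : k) (m : M) : algebraMap k F a • m = a • m := by
  rw [eq_psi o m, smul_add, smul_add, hF.hε, hF.hu, hF.hv, smul_add, smul_add, ← map_smul,
    ← map_smul, ← map_smul, tower_Φ o, Algebra.smul_def, Algebra.smul_def]

/-- the sesquilinear form with `f = tr g` is unique -/
theorem unique {g1 g2 : M → M → F} (h1 : ∀ s m w, g1 (s • m) w = s * g1 m w)
    (h2 : ∀ s m w, g2 (s • m) w = s * g2 m w) (h : ∀ m w, D.tr (g1 m w) = D.tr (g2 m w))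
    (m w : M) : g1 m w = g2 m w := by
  rw [← sub_eq_zero]
  apply D.tr_nondegH
  intro s
  rw [sub_mul, map_sub, mul_comm, ← h1, mul_comm, ← h2, h, sub_self]

/-- `F`-linear isometries of `f` preserve `g`. -/
theorem isom {ζ : M → M} (h1 : ∀ (s : F) m, ζ (s • m) = s • ζ m)
    (h2 : ∀ m m', D.f (ζ m) (ζ m') = D.f m m') (m m' : M) :
    gf o (ζ m) (ζ m') = gf o m m' := by
  refine hF.unique (g1 := fun m m' => gf o (ζ m) (ζ m')) (g2 := gf o) (fun s m w => ?_)
    (fun s m w => hF.gf_smul s m w) (fun m w => ?_) m m'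
  · rw [h1, hF.gf_smul]
  · rw [← f_eq_tr, h2, f_eq_tr o]

theorem ext_smul {φ : M ≃ₗ[k] M} (h1 : ∀ s a : F, φ (s • D.ε a) = s • φ (D.ε a))
    (h2 : ∀ (s : F) x, φ (s • uo o x) = s • φ (uo o x))
    (h3 : ∀ s b : F, φ (s • o.v b) = s • φ (o.v b)) (s : F) (m : M) : φ (s • m) = s • φ m := by
  rw [eq_psi o m, smul_add, smul_add, map_add, map_add, map_add, map_add, smul_add, smul_add,
    h1, h2, h3]

/-- **`J` is `F`-linear.** -/
theorem J_smul {j : M ≃ₗ[k] M} (hj : j ∈ D.J) (s : F) (m : M) : j (s • m) = s • j m := by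
  refine hF.ext_smul (fun s a => ?_) (fun s x => ?_) (fun s b => ?_) s m
  · rw [hF.hε, D.Je j hj, D.Je j hj, hF.hε]
  · rw [hF.hu, J_u o hj, J_u o hj, smul_add, hF.hu, hF.hε, D.hm_smul]
  · rw [hF.hv, J_v o hj, J_v o hj, smul_add, smul_add, hF.hε, hF.hu, hF.hv, rho_linear o hj b,
      rho_linear o hj (s * b), mul_assoc, smul_smul]

/-- the torus is `F`-linear. -/
theorem t_smul (z : Fˣ) (s : F) (m : M) : D.t z (s • m) = s • D.t z m := by
  refine hF.ext_smul (fun s a => ?_) (fun s x => ?_) (fun s b => ?_) s m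
  · rw [hF.hε, D.te, D.te, hF.hε]
    congr 1
    ring
  · rw [hF.hu, t_u, t_u, hF.hu, smul_smul, smul_smul, mul_comm]
  · rw [hF.hv, o.tv, o.tv, hF.hv]
    congr 1
    ring

theorem t_gf (z : Fˣ) (m m' : M) :
    gf o (D.t z m) (D.t z m') = algebraMap k F (D.nm z) * gf o m m' := by
  refine hF.unique (g1 := fun m m' => gf o (D.t z m) (D.t z m'))
    (g2 := fun m m' => algebraMap k F (D.nm z) * gf o m m') (fun s m w => ?_)
    (fun s m w => ?_) (fun m w => ?_) m m'
  · rw [hF.t_smul, hF.gf_smul]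
  · rw [hF.gf_smul]
    ring
  · rw [← f_eq_tr, D.tf, ← Algebra.smul_def, map_smul, smul_eq_mul, f_eq_tr o]

end IsF

end

end Uni

end Cfsg.Agent.Omega.NOne.SU

end

section


/-!
# THEOREM UNI, section 5: `Omega` is the set of all isotropic points

`Sw o` : the output of sections 1-3.
-/

set_option autoImplicit false
set_option linter.unusedSectionVars false

namespace Cfsg.Agent.Omega.NOne.SU

open Quad

namespace Uni

variable {k F M Φ : Type*} [Field k] [Field F] [Algebra k F] [AddCommGroup M] [Module k M]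
    [AddCommGroup Φ] [Module k Φ] [Module F Φ]

/-- **Output of sections 1-3.** -/
structure Sw {D : Uni k F M Φ} (o : D.OppV) : Prop where
  w : ∀ b : k, ∃ w ∈ D.H, (∀ a, w (D.ε a) = D.ε a + b • o.v a) ∧ (∀ s, w (o.v s) = o.v s) ∧
    ∀ m, D.B m = 0 → (∀ s, D.f (o.v s) m = 0) → w m = m
  pos : ∀ g ∈ D.H, (∀ c, D.B (g (D.ε c)) = 0) ∨ (∀ c, D.B (g (D.ε c)) = 0 → c = 0)
  trans : ∀ g ∈ D.H, (∀ c, D.B (g (D.ε c)) = 0 → c = 0) →
    ∃ j ∈ D.J, ∀ s, ∃ s', j (o.v s) = g (D.ε s')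

variable {D : Uni k F M Φ} [CharP k 2] [Finite k] [Finite F] {o : D.OppV}

/-- the swap of `e` and `e'` -/
theorem Sw.swap (S : Sw o) : ∃ s1 ∈ D.H, (∀ a, s1 (D.ε a) = o.v a) ∧ (∀ b, s1 (o.v b) = D.ε b) ∧
    ∀ x, s1 (uo o x) = uo o x := by
  obtain ⟨w, hw, w1, w2, w3⟩ := S.w 1
  obtain ⟨n, hn, h⟩ := D.Jn 1
  have nε : ∀ a, n (D.ε a) = D.ε a := fun a => D.Je n hn a
  have nu : ∀ x, n (uo o x) = uo o x := fun x => by rw [h, Bu, smul_zero, map_zero, add_zero]
  have nv : ∀ b, n (o.v b) = o.v b + D.ε b := fun b => by rw [h, o.Bv, one_smul]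
  have wu : ∀ x, w (uo o x) = uo o x := fun x => w3 _ (Bu o x) fun s => vu o s x
  refine ⟨n * w * n, mul_mem (mul_mem (D.J_le hn) hw) (D.J_le hn), fun a => ?_, fun b => ?_,
    fun x => ?_⟩
  · rw [LinearEquiv.mul_apply, LinearEquiv.mul_apply, nε, w1, one_smul, map_add, nε, nv]
    rw [← add_assoc, add_right_comm, add_selfM k, zero_add]
  · rw [LinearEquiv.mul_apply, LinearEquiv.mul_apply, nv, map_add, w2, w1, one_smul, ← add_assoc,
      add_right_comm, add_selfM k, zero_add, nε]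
  · rw [LinearEquiv.mul_apply, LinearEquiv.mul_apply, nu, wu, nu]

variable [Module F M] (hF : IsF o)

/-- the `F`-linear elements of `H`. -/
def HF (D : Uni k F M Φ) : Subgroup (M ≃ₗ[k] M) where
  carrier := {h | h ∈ D.H ∧ ∀ (s : F) m, h (s • m) = s • h m}
  mul_mem' := fun {a b} ha hb => ⟨mul_mem ha.1 hb.1, fun s m => by
    rw [LinearEquiv.mul_apply, hb.2, ha.2, LinearEquiv.mul_apply]⟩
  one_mem' := ⟨one_mem _, fun _ _ => rfl⟩
  inv_mem' := fun {a} ha => ⟨inv_mem ha.1, fun s m => by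
    apply a.injective
    have h1 : ∀ x, a (a⁻¹ x) = x := fun x => by
      rw [← LinearEquiv.mul_apply, mul_inv_cancel]; rfl
    rw [h1, ha.2, h1]⟩

theorem HF_le : HF D ≤ D.H := fun _ h => h.1

theorem HF_smul {h : M ≃ₗ[k] M} (hh : h ∈ HF D) (s : F) (m : M) : h (s • m) = s • h m := hh.2 s m

theorem apply_inv (a : M ≃ₗ[k] M) (x : M) : a (a⁻¹ x) = x := by
  rw [← LinearEquiv.mul_apply, mul_inv_cancel]; rfl

theorem inv_apply (a : M ≃ₗ[k] M) (x : M) : a⁻¹ (a x) = x := by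
  rw [← LinearEquiv.mul_apply, inv_mul_cancel]; rfl

namespace IsF

include hF

theorem J_le_HF : D.J ≤ HF D := fun _ hj => ⟨D.J_le hj, hF.J_smul hj⟩

theorem HF_gf {h : M ≃ₗ[k] M} (hh : h ∈ HF D) (m m' : M) : gf o (h m) (h m') = gf o m m' :=
  hF.isom hh.2 (D.isom h hh.1) m m'

theorem swap (S : Sw o) : ∃ s1 ∈ HF D, (∀ a, s1 (D.ε a) = o.v a) ∧ (∀ b, s1 (o.v b) = D.ε b) ∧
    ∀ x, s1 (uo o x) = uo o x := by
  obtain ⟨s1, h, h1, h2, h3⟩ := S.swap
  refine ⟨s1, ⟨h, ?_⟩, h1, h2, h3⟩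
  refine hF.ext_smul (fun s a => ?_) (fun s x => ?_) (fun s b => ?_)
  · rw [hF.hε, h1, h1, hF.hv]
  · rw [hF.hu, h3, h3, hF.hu]
  · rw [hF.hv, h2, h2, hF.hε]

/-- (a) `J` is transitive on the isotropic vectors with given nonzero `B`. -/
theorem J_trans {m : M} (h1 : D.B m = 1) (h2 : gf o m m = 0) :
    ∃ j ∈ D.J, ∀ b, j (o.v b) = b • m := by
  obtain ⟨j, hj, hx⟩ := D.Jall (co o m).2.1
  have hm := eq_psi o m
  rw [co_B, h1] at hm
  have hjv := J_v o hj 1
  rw [one_smul, hx] at hjv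
  have hiso : gf o (j (o.v 1)) (j (o.v 1)) = 0 := by
    rw [hF.HF_gf (hF.J_le_HF hj), gf_vv]
  have e1 : ∀ c : F, gf o (D.ε c + (uo o (co o m).2.1 + o.v 1)) (D.ε c + (uo o (co o m).2.1 + o.v 1))
      = algebraMap k F (D.tr c) + D.hm (co o m).2.1 (co o m).2.1 := by
    intro c
    have e2 : co o (D.ε c + (uo o (co o m).2.1 + o.v 1)) = (c, (co o m).2.1, 1) := by
      rw [← psi_apply, co_psi]
    rw [gf, e2, D.tr_eq]
    simp only [map_one, mul_one, one_mul]
  have h3 : gf o (D.ε (co o m).1 + (uo o (co o m).2.1 + o.v 1))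
      (D.ε (co o m).1 + (uo o (co o m).2.1 + o.v 1)) = 0 := by rw [← hm]; exact h2
  rw [hjv, e1] at hiso
  rw [e1] at h3
  have h4 : D.tr ((co o m).1 - rho o j 1) = 0 := by
    rw [map_sub, sub_eq_zero]
    apply algebraMap_inj (F := F)
    exact add_right_cancel (h3.trans hiso.symm)
  obtain ⟨a, ha⟩ := D.exists_of_tr_eq_zero h4
  obtain ⟨n, hn, hna⟩ := D.Jn a
  have h5 : (n * j) (o.v 1) = m := by
    rw [LinearEquiv.mul_apply, hna, D.J_B hj, o.Bv, ← Algebra.algebraMap_eq_smul_one, ha, hjv,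
      add_comm, ← add_assoc, ← map_add, sub_add_cancel]
    exact hm.symm
  refine ⟨n * j, mul_mem hn hj, fun b => ?_⟩
  have h6 : o.v b = b • o.v 1 := by rw [hF.hv, mul_one]
  rw [h6, hF.J_smul (mul_mem hn hj), h5]

/-- (b) for `B m ≠ 0`. -/
theorem pt_of_B (S : Sw o) {m : M} (h1 : D.B m ≠ 0) (h2 : gf o m m = 0) :
    ∃ h ∈ HF D, h (D.ε (D.B m)) = m := by
  obtain ⟨s1, hs, s1ε, -, -⟩ := hF.swap S
  obtain ⟨j, hj, h⟩ := hF.J_trans (m := (D.B m)⁻¹ • m)
    (by rw [hF.B_smul, inv_mul_cancel₀ h1])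
    (by rw [hF.gf_smul, hF.gf_smul_right, h2, mul_zero, mul_zero])
  refine ⟨j * s1, mul_mem (hF.J_le_HF hj) hs, ?_⟩
  rw [LinearEquiv.mul_apply, s1ε, h, smul_smul, mul_inv_cancel₀ h1, one_smul]

/-- **(b) Every isotropic vector is in an `HF`-conjugate of `e`.** -/
theorem pt (S : Sw o) {m : M} (h2 : gf o m m = 0) : ∃ h ∈ HF D, ∃ c, h (D.ε c) = m := by
  by_cases h1 : D.B m = 0
  · by_cases h3 : (co o m).2.1 = 0
    · refine ⟨1, one_mem _, (co o m).1, ?_⟩
      have hm := eq_psi o m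
      rw [co_B, h1, h3, map_zero, map_zero, add_zero, add_zero] at hm
      exact hm.symm
    · obtain ⟨s1, hs, s1ε, s1v, s1u⟩ := hF.swap S
      obtain ⟨x, hx⟩ : ∃ x, (co o m).1 + D.hm (co o m).2.1 x ≠ 0 := by
        by_cases h4 : (co o m).1 = 0
        · by_contra hcon
          push Not at hcon
          apply h3
          apply D.hm_nondeg
          intro x
          have := hcon x
          rwa [h4, zero_add] at this
        · exact ⟨0, by rwa [D.hm_zero_right, add_zero]⟩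
      obtain ⟨j, hj, rfl⟩ := D.Jall x
      have hm := eq_psi o m
      rw [co_B, h1, map_zero, add_zero] at hm
      have h5 : (s1 * j) m = uo o (co o m).2.1 + o.v ((co o m).1 + D.hm (co o m).2.1 (D.χ j)) := by
        rw [LinearEquiv.mul_apply]
        conv_lhs => rw [hm]
        rw [map_add j, D.Je j hj, J_u o hj, map_add, map_add, s1ε, s1u, s1ε, map_add]
        abel
      have hsj : s1 * j ∈ HF D := mul_mem hs (hF.J_le_HF hj)
      have h6 : D.B ((s1 * j) m) ≠ 0 := by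
        rw [h5, map_add, Bu, zero_add, o.Bv]
        exact hx
      obtain ⟨h, hh, h7⟩ := hF.pt_of_B S h6 (by rw [hF.HF_gf hsj, h2])
      refine ⟨(s1 * j)⁻¹ * h, mul_mem (inv_mem hsj) hh, D.B ((s1 * j) m), ?_⟩
      rw [LinearEquiv.mul_apply, h7, inv_apply]
  · obtain ⟨h, hh, h3⟩ := hF.pt_of_B S h1 h2
    exact ⟨h, hh, _, h3⟩

/-- `f` is zero on the conjugates only for zero. -/
theorem eq_zero_of_HF (S : Sw o) {m : M} (h : ∀ g ∈ HF D, ∀ c, D.f (g (D.ε c)) m = 0) : m = 0 := by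
  obtain ⟨s1, hs, s1ε, -, -⟩ := hF.swap S
  have h1 : ∀ c, D.f (D.ε c) m = 0 := fun c => h 1 (one_mem _) c
  have h2 : ∀ j ∈ D.J, ∀ b, D.f (j (o.v b)) m = 0 := fun j hj b => by
    have := h (j * s1) (mul_mem (hF.J_le_HF hj) hs) b
    rwa [LinearEquiv.mul_apply, s1ε] at this
  have h3 : ∀ b, D.f (o.v b) m = 0 := fun b => h2 1 (one_mem _) b
  have h4 : ∀ x, D.f (uo o x) m = 0 := fun x => by
    obtain ⟨j, hj, rfl⟩ := D.Jall x
    have h5 := h2 j hj 1
    rw [J_v o hj, map_add, map_add, LinearMap.add_apply, LinearMap.add_apply, h1, h3, zero_add,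
      add_zero, one_smul] at h5
    exact h5
  apply D.nondeg
  intro w
  rw [D.f_symm, eq_psi o w, map_add, map_add, LinearMap.add_apply, LinearMap.add_apply, h1, h3, h4,
    zero_add, add_zero]

/-- **(c) Every conjugate of `e` under `H` is one under `HF`.** -/
theorem conj (S : Sw o) {g : M ≃ₗ[k] M} (hg : g ∈ D.H) :
    ∃ h ∈ HF D, ∀ c, ∃ c', g (D.ε c) = h (D.ε c') := by
  by_cases hcon : ∀ h ∈ HF D, ∀ c, D.B (h⁻¹ (g (D.ε c))) = 0
  · exfalso
    have h1 : g (D.ε 1) = 0 := by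
      apply hF.eq_zero_of_HF S
      intro h hh c
      have h2 := D.fe c (h⁻¹ (g (D.ε 1)))
      rw [hcon h hh, map_zero, mul_zero, map_zero, ← D.isom h hh.1, apply_inv] at h2
      exact h2
    have h2 : D.ε 1 = 0 := by
      apply g.injective
      rw [h1, map_zero]
    exact one_ne_zero (D.ε_inj (h2.trans (map_zero _).symm))
  · push Not at hcon
    obtain ⟨h, hh, c, hc⟩ := hcon
    have hgh : h⁻¹ * g ∈ D.H := mul_mem (inv_mem hh.1) hg
    rcases S.pos _ hgh with h1 | h1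
    · exact (hc (h1 c)).elim
    · obtain ⟨j, hj, h2⟩ := S.trans _ hgh h1
      choose φ hφ using h2
      have hinj : Function.Injective φ := fun a b hab => by
        have h3 := (hφ a).trans ((congrArg (fun c => (h⁻¹ * g) (D.ε c)) hab).trans (hφ b).symm)
        have h4 := j.injective h3
        have h5 := congrArg D.B h4
        rwa [o.Bv, o.Bv] at h5
      obtain ⟨s1, hs, s1ε, -, -⟩ := hF.swap S
      refine ⟨h * j * s1, mul_mem (mul_mem hh (hF.J_le_HF hj)) hs, fun c => ?_⟩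
      obtain ⟨c', rfl⟩ := (Finite.injective_iff_surjective.1 hinj) c
      refine ⟨c', ?_⟩
      rw [LinearEquiv.mul_apply, LinearEquiv.mul_apply, s1ε, hφ, LinearEquiv.mul_apply, apply_inv]

/-- **(d) All unitary transvections are in `H`.** -/
theorem transv (S : Sw o) {m0 : M} (h0 : gf o m0 m0 = 0) (a : k) :
    ∃ h ∈ HF D, ∀ m, h m = m + a • gf o m m0 • m0 := by
  obtain ⟨h, hh, c, rfl⟩ := hF.pt S h0
  obtain ⟨n, hn, hna⟩ := D.Jn (a * D.nm c)
  refine ⟨h * n * h⁻¹, mul_mem (mul_mem hh (hF.J_le_HF hn)) (inv_mem hh), fun m => ?_⟩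
  have h1 : gf o m (h (D.ε c)) = D.B (h⁻¹ m) * D.sg c := by
    conv_lhs => rw [← apply_inv h m]
    rw [hF.HF_gf hh, gf_ε]
  rw [LinearEquiv.mul_apply, LinearEquiv.mul_apply, hna, map_add, apply_inv, h1]
  congr 1
  have h2 : (a * D.nm c) • D.B (h⁻¹ m) = a • (D.B (h⁻¹ m) * D.sg c * c) := by
    rw [mul_smul, Algebra.smul_def (D.nm c), D.nm_eq]
    congr 1
    ring
  rw [h2, ← HF_smul hh, ← map_smul h, hF.hε, map_smul D.ε]

/-- **(e) `J` is the group of all `F`-linear isometries trivial on `e`, `e^⊥/e`, `M/e^⊥`.** -/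
theorem mem_J {ζ : M ≃ₗ[k] M} (h1 : ∀ (s : F) m, ζ (s • m) = s • ζ m)
    (h2 : ∀ m m', D.f (ζ m) (ζ m') = D.f m m') (h3 : ∀ c, ζ (D.ε c) = D.ε c)
    (h4 : ∀ m, D.B m = 0 → ∃ c, ζ m - m = D.ε c) (h5 : ∀ m, D.B (ζ m) = D.B m) : ζ ∈ D.J := by
  have hg := hF.isom h1 h2
  obtain ⟨j, hj, h6⟩ := hF.J_trans (m := ζ (o.v 1)) (by rw [h5, o.Bv]) (by rw [hg, gf_vv])
  have h7 : ∀ b, j (o.v b) = ζ (o.v b) := fun b => by
    rw [h6, ← h1, hF.hv, mul_one]
  have h8 : ∀ x, j⁻¹ (ζ (uo o x)) = uo o x := fun x => by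
    obtain ⟨c, hc⟩ := h4 _ (Bu o x)
    have h9 : ζ (uo o x) = uo o x + D.ε c := by rw [← hc]; abel
    have h10 : j⁻¹ (ζ (uo o x)) = uo o x + D.ε (D.hm x (D.χ j⁻¹) + c) := by
      rw [h9, map_add, J_u o (inv_mem hj), D.Je _ (inv_mem hj), map_add, add_assoc]
    have h11 : D.hm x (D.χ j⁻¹) + c = 0 := by
      apply D.tr_nondegH'
      intro s
      have h12 : D.f (j⁻¹ (ζ (uo o x))) (o.v s) = 0 := by
        rw [← D.isom j (D.J_le hj), apply_inv, h7, h2, D.f_symm, vu]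
      rw [h10, map_add, LinearMap.add_apply, D.f_symm (uo o x), vu, zero_add, f_ε_v] at h12
      exact h12
    rw [h10, h11, map_zero, add_zero]
  have h13 : ζ = j := by
    ext m
    refine ext_on o (φ := ζ.toLinearMap.toAddMonoidHom) (ψ := j.toLinearMap.toAddMonoidHom)
      (fun a => ?_) (fun x => ?_) (fun b => ?_) m
    · change ζ _ = j _
      rw [h3, D.Je j hj]
    · change ζ _ = j _
      rw [← apply_inv j (ζ (uo o x)), h8]
    · change ζ _ = j _
      rw [h7]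
  rw [h13]
  exact hj

end IsF

end Uni

end Cfsg.Agent.Omega.NOne.SU

end

section


/-!
# THEOREM UNI, section 5: the transvection group and semilinearity

* `HT D` : the group generated by the conjugates of the `N_a`; it is transitive on isotropic points.
* `semi` : additive maps normalising `H`, preserving `f` up to a function and mapping `e` to a
  conjugate, semilinear on `e`, are semilinear similitudes of `(M, g)`;
* `semi_ε` : they are semilinear on `e` if `Φ ≠ 0`.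
-/

set_option autoImplicit false
set_option linter.unusedSectionVars false

namespace Cfsg.Agent.Omega.NOne.SU

open Quad

namespace Quad

variable {k F : Type*} [Field k] [Field F] [Algebra k F] (Q : Quad k F) [CharP k 2]

theorem sg_pow [Finite k] (x : F) : Q.sg x = x ^ Nat.card k := by
  have : Fintype k := Fintype.ofFinite k
  have h0 : ∀ y : F, FiniteField.frobeniusAlgHom k F y = y ^ Nat.card k := fun y => by
    rw [Nat.card_eq_fintype_card]; rfl
  have hc : (2 : F) = 0 := by have := charF k F; exact CharTwo.two_eq_zero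
  by_cases hx : Q.sg x = x
  · obtain ⟨a, rfl⟩ := Q.fix x hx
    rw [Q.sg_algebraMap, ← map_pow, Nat.card_eq_fintype_card, FiniteField.pow_card]
  · have h1 : (x ^ Nat.card k - x) * (x ^ Nat.card k - Q.sg x) = 0 := by
      have h2 : x * x - algebraMap k F (Q.tr x) * x + algebraMap k F (Q.nm x) = 0 := by
        rw [Q.tr_eq, Q.nm_eq]; ring
      have h3 := congrArg (FiniteField.frobeniusAlgHom k F) h2
      rw [map_add, map_sub, map_mul, map_mul, map_zero, AlgHom.commutes, AlgHom.commutes, h0,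
        Q.tr_eq, Q.nm_eq] at h3
      linear_combination h3
    rcases mul_eq_zero.1 h1 with h | h
    · exfalso
      rw [sub_eq_zero] at h
      -- the elements of `k` and `x` are `q + 1` roots of `X ^ q = X`
      have hq : 1 < Nat.card k := by have := Q.four; omega
      have hne : (Polynomial.X ^ Nat.card k - Polynomial.X : Polynomial F) ≠ 0 :=
        FiniteField.X_pow_card_sub_X_ne_zero F hq
      have hdeg : (Polynomial.X ^ Nat.card k - Polynomial.X : Polynomial F).natDegree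
          = Nat.card k := FiniteField.X_pow_card_sub_X_natDegree_eq F hq
      have hroots : ∀ y : F, y ^ Nat.card k = y →
          y ∈ (Polynomial.X ^ Nat.card k - Polynomial.X : Polynomial F).roots := fun y hy => by
        rw [Polynomial.mem_roots hne, Polynomial.IsRoot.def, Polynomial.eval_sub,
          Polynomial.eval_pow, Polynomial.eval_X, hy, sub_self]
      classical
      let s : Finset F := insert x (Finset.univ.image (algebraMap k F))
      have hxs : x ∉ Finset.univ.image (algebraMap k F) := by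
        intro hxm
        obtain ⟨a, -, ha⟩ := Finset.mem_image.1 hxm
        exact hx (by rw [← ha, Q.sg_algebraMap])
      have hs : s ⊆ (Polynomial.X ^ Nat.card k - Polynomial.X : Polynomial F).roots.toFinset := by
        intro y hy
        rw [Multiset.mem_toFinset]
        apply hroots
        rcases Finset.mem_insert.1 hy with rfl | hy
        · exact h
        · obtain ⟨a, -, rfl⟩ := Finset.mem_image.1 hy
          rw [← map_pow, Nat.card_eq_fintype_card, FiniteField.pow_card]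
      have h4 := Finset.card_le_card hs
      rw [Finset.card_insert_of_notMem hxs, Finset.card_image_of_injective _
        (algebraMap k F).injective, Finset.card_univ, ← Nat.card_eq_fintype_card] at h4
      have h5 := (Multiset.toFinset_card_le
        (Polynomial.X ^ Nat.card k - Polynomial.X : Polynomial F).roots)
      have h6 := Polynomial.card_roots' (Polynomial.X ^ Nat.card k - Polynomial.X : Polynomial F)
      omega
    · exact (sub_eq_zero.1 h).symm

theorem map_sg [Finite k] (σ : F →+* F) (x : F) : σ (Q.sg x) = Q.sg (σ x) := by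
  rw [Q.sg_pow, Q.sg_pow, map_pow]

include Q in
/-- the restriction of `σ` to `k` -/
theorem exists_res [Finite k] (σ : F →+* F) (a : k) : ∃ b : k, algebraMap k F b = σ (algebraMap k F a) :=
  Q.fix _ (by rw [← Q.map_sg, Q.sg_algebraMap])

end Quad

namespace Uni

variable {k F M Φ : Type*} [Field k] [Field F] [Algebra k F] [AddCommGroup M] [Module k M]
    [AddCommGroup Φ] [Module k Φ] [Module F Φ]

/-- the group generated by the conjugates of the `N_a` -/
def HT (D : Uni k F M Φ) : Subgroup (M ≃ₗ[k] M) :=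
  Subgroup.closure {τ | ∃ g ∈ D.H, ∃ n ∈ D.J, (∃ a : k, ∀ m, n m = m + D.ε (a • D.B m)) ∧
    τ = g * n * g⁻¹}

theorem HT_le (D : Uni k F M Φ) : D.HT ≤ D.H := by
  rw [HT, Subgroup.closure_le]
  rintro _ ⟨g, hg, n, hn, -, rfl⟩
  exact mul_mem (mul_mem hg (D.J_le hn)) (inv_mem hg)

variable {D : Uni k F M Φ} [CharP k 2] [Finite k] [Finite F] {o : D.OppV}
variable [Module F M] (hF : IsF o)

namespace IsF

include hF

/-- all unitary transvections are in `HT` and in `HF`. -/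
theorem transvT (S : Sw o) {m0 : M} (h0 : gf o m0 m0 = 0) (a : k) :
    ∃ h ∈ HF D, h ∈ HT D ∧ ∀ m, h m = m + a • gf o m m0 • m0 := by
  obtain ⟨h, hh, c, rfl⟩ := hF.pt S h0
  obtain ⟨n, hn, hna⟩ := D.Jn (a * D.nm c)
  refine ⟨h * n * h⁻¹, mul_mem (mul_mem hh (hF.J_le_HF hn)) (inv_mem hh),
    Subgroup.subset_closure ⟨h, hh.1, n, hn, ⟨_, hna⟩, rfl⟩, fun m => ?_⟩
  have h1 : gf o m (h (D.ε c)) = D.B (h⁻¹ m) * D.sg c := by
    conv_lhs => rw [← apply_inv h m]
    rw [hF.HF_gf hh, gf_ε]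
  rw [LinearEquiv.mul_apply, LinearEquiv.mul_apply, hna, map_add, apply_inv, h1]
  congr 1
  have h2 : (a * D.nm c) • D.B (h⁻¹ m) = a • (D.B (h⁻¹ m) * D.sg c * c) := by
    rw [mul_smul, Algebra.smul_def (D.nm c), D.nm_eq]
    congr 1
    ring
  rw [h2, ← HF_smul hh, ← map_smul h, hF.hε, map_smul D.ε]

/-- non-perpendicular isotropic vectors are conjugate up to scalars. -/
theorem nonperp (S : Sw o) {m1 m2 : M} (h1 : gf o m1 m1 = 0) (h2 : gf o m2 m2 = 0)
    (h : gf o m1 m2 ≠ 0) : ∃ t ∈ HT D, t ∈ HF D ∧ ∃ c : F, c ≠ 0 ∧ t m1 = c • m2 := by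
  set c : F := D.sg (gf o m1 m2)⁻¹ with hc
  have hc0 : c ≠ 0 := by
    rw [hc, Ne, map_eq_zero]
    exact inv_ne_zero h
  have h3 : gf o m1 (c • m2) = 1 := by
    rw [hF.gf_smul_right, hc, D.sg_sg, inv_mul_cancel₀ h]
  have h4 : gf o (c • m2) (c • m2) = 0 := by
    rw [hF.gf_smul, hF.gf_smul_right, h2, mul_zero, mul_zero]
  obtain ⟨t1, a1, b1, e1⟩ := hF.transvT S h1 1
  obtain ⟨t2, a2, b2, e2⟩ := hF.transvT S h4 1
  refine ⟨t1 * t2, mul_mem b1 b2, mul_mem a1 a2, c, hc0, ?_⟩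
  have h5 : t2 m1 = m1 + c • m2 := by rw [e2, h3, one_smul, one_smul]
  have h6 : t1 m1 = m1 := by rw [e1, h1, zero_smul, smul_zero, add_zero]
  have h7 : t1 (c • m2) = c • m2 + m1 := by
    rw [e1, gf_sym, h3, map_one, one_smul, one_smul]
  rw [LinearEquiv.mul_apply, h5, map_add, h6, h7, add_comm (c • m2), ← add_assoc, add_selfM k,
    zero_add]

/-- `HT` is transitive on isotropic points. -/
theorem ptT (S : Sw o) {m : M} (h2 : gf o m m = 0) (h0 : m ≠ 0) :
    ∃ h ∈ HT D, h ∈ HF D ∧ ∃ c : F, c ≠ 0 ∧ h (D.ε c) = m := by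
  have key : ∀ {w w' : M}, gf o w w = 0 → gf o w' w' = 0 → gf o w w' ≠ 0 →
      (∃ h ∈ HT D, h ∈ HF D ∧ ∃ c : F, c ≠ 0 ∧ h (D.ε c) = w) →
      ∃ h ∈ HT D, h ∈ HF D ∧ ∃ c : F, c ≠ 0 ∧ h (D.ε c) = w' := by
    rintro w w' hw hw' hne ⟨h, ht, hf, c, hc, rfl⟩
    obtain ⟨t, ht', hf', c', hc', he⟩ := hF.nonperp S hw hw' hne
    refine ⟨t * h, mul_mem ht' ht, mul_mem hf' hf, c'⁻¹ * c, mul_ne_zero (inv_ne_zero hc') hc, ?_⟩
    rw [LinearEquiv.mul_apply, ← hF.hε, hf.2, hf'.2, he, smul_smul, inv_mul_cancel₀ hc', one_smul]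
  have hε : ∃ h ∈ HT D, h ∈ HF D ∧ ∃ c : F, c ≠ 0 ∧ h (D.ε c) = D.ε 1 :=
    ⟨1, one_mem _, one_mem _, 1, one_ne_zero, rfl⟩
  by_cases h1 : D.B m = 0
  · have hm := eq_psi o m
    rw [co_B, h1, map_zero, add_zero] at hm
    by_cases h3 : (co o m).2.1 = 0
    · rw [h3, map_zero, add_zero] at hm
      refine ⟨1, one_mem _, one_mem _, (co o m).1, fun h => h0 ?_, hm.symm⟩
      rw [hm, h, map_zero]
    · obtain ⟨x, hx⟩ : ∃ x, (co o m).1 + D.hm (co o m).2.1 x ≠ 0 := by
        by_cases h4 : (co o m).1 = 0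
        · by_contra hcon
          push Not at hcon
          apply h3
          apply D.hm_nondeg
          intro x
          have := hcon x
          rwa [h4, zero_add] at this
        · exact ⟨0, by rwa [D.hm_zero_right, add_zero]⟩
      obtain ⟨j, hj, rfl⟩ := D.Jall x
      have hji := inv_mem hj
      have hw : gf o (j⁻¹ (o.v 1)) (j⁻¹ (o.v 1)) = 0 := by
        rw [hF.HF_gf (hF.J_le_HF hji), gf_vv]
      have h5 : gf o (D.ε 1) (j⁻¹ (o.v 1)) ≠ 0 := by
        rw [gf_sym, gf_ε, D.J_B hji, o.Bv, map_one, mul_one, map_one]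
        exact one_ne_zero
      have h6 : gf o (j⁻¹ (o.v 1)) m ≠ 0 := by
        rw [← hF.HF_gf (hF.J_le_HF hj), apply_inv, gf_sym, gf_v, map_one, mul_one, Ne,
          map_eq_zero]
        have h7 : j m = D.ε ((co o m).1 + D.hm (co o m).2.1 (D.χ j)) + uo o (co o m).2.1 := by
          conv_lhs => rw [hm]
          rw [map_add j, D.Je j hj, J_u o hj, map_add]
          abel
        rw [h7, map_add, co_ε, co_u]
        simpa using hx
      exact key hw h2 h6 (key (gf_εε o 1 1) hw h5 hε)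
  · refine key (gf_εε o 1 1) h2 ?_ hε
    rw [gf_sym, gf_ε, map_one, mul_one, Ne, map_eq_zero]
    exact h1

/-! ### semilinearity -/

/-- The hypotheses on an additive map normalising `H` and fixing `e`. -/
structure _root_.Cfsg.Agent.Omega.NOne.SU.Uni.Nor (D : Uni k F M Φ) (ζ : M ≃+ M) (l : k → k) :
    Prop where
  H : ∀ g ∈ D.H, ∃ g' ∈ D.H, ∀ m, ζ (g m) = g' (ζ m)
  f : ∀ m m', D.f (ζ m) (ζ m') = l (D.f m m')
  l0 : ∀ a, l a = 0 → a = 0
  e : ∀ c, ∃ c', ζ (D.ε c) = D.ε c'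

variable {ζ : M ≃+ M} {l : k → k} (hζ : D.Nor ζ l)

include hζ

theorem l_zero : l 0 = 0 := by
  have := hζ.f 0 0
  rw [map_zero ζ, map_zero (D.f 0)] at this
  exact this.symm

theorem e_surj (c : F) : ∃ c', ζ (D.ε c') = D.ε c := by
  choose φ hφ using hζ.e
  have hinj : Function.Injective φ := fun a b hab =>
    D.ε_inj (ζ.injective ((hφ a).trans ((congrArg D.ε hab).trans (hφ b).symm)))
  obtain ⟨c', rfl⟩ := (Finite.injective_iff_surjective.1 hinj) c
  exact ⟨c', hφ c'⟩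

theorem B_iff (m : M) : D.B (ζ m) = 0 ↔ D.B m = 0 := by
  have key : ∀ m, D.B m = 0 ↔ ∀ c, D.f (D.ε c) m = 0 := fun m =>
    ⟨fun h c => by rw [D.fe, h, map_zero, mul_zero, map_zero], fun h => by
      have h1 : D.sg (D.B m) = 0 := D.tr_nondegH fun c => by
        rw [mul_comm, ← D.fe, h]
      rwa [map_eq_zero] at h1⟩
  rw [key, key]
  constructor
  · intro h c
    obtain ⟨c', hc'⟩ := hζ.e c
    apply hζ.l0
    rw [← hζ.f, hc', h]
  · intro h c
    obtain ⟨c', hc'⟩ := hF.e_surj hζ c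
    rw [← hc', hζ.f, h, hF.l_zero hζ]

/-- `ζ` on `M/P`. -/
theorem B_congr {m m' : M} (h : D.B m = D.B m') : D.B (ζ m) = D.B (ζ m') := by
  rw [← sub_eq_zero, ← map_sub, ← map_sub, hF.B_iff hζ, map_sub, h, sub_self]

/-- `ζ` normalises `J`. -/
theorem conjJ {j : M ≃ₗ[k] M} (hj : j ∈ D.J) : ∃ j' ∈ D.J, ∀ m, ζ (j m) = j' (ζ m) := by
  obtain ⟨g', hg', h⟩ := hζ.H j (D.J_le hj)
  refine ⟨g', D.Jmax g' hg' (fun c => ?_) (fun m hm => ?_) (fun m => ?_), h⟩
  · obtain ⟨c', hc'⟩ := hF.e_surj hζ c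
    rw [← hc', ← h, D.Je j hj]
  · obtain ⟨m', rfl⟩ := ζ.surjective m
    rw [hF.B_iff hζ] at hm
    rw [← h, D.JP j hj _ hm, map_add, add_sub_cancel_left]
    exact hζ.e _
  · obtain ⟨m', rfl⟩ := ζ.surjective m
    rw [← h, ← map_sub, hF.B_iff hζ, map_sub, D.J_B hj, sub_self]

/-- **semilinearity on `e` if `Φ ≠ 0`.** -/
theorem semi_ε [Nontrivial Φ] : ∃ σ : F →+* F, ∀ s c : F, ζ (D.ε (s * c)) = σ s • ζ (D.ε c) := by
  obtain ⟨x0, hx0⟩ := exists_ne (0 : Φ)
  obtain ⟨u0, hu0⟩ : ∃ u0, D.hm x0 u0 ≠ 0 := by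
    by_contra hcon
    push Not at hcon
    exact hx0 (D.hm_nondeg _ hcon)
  -- the operators `n_s`
  have key : ∀ s : F, ∃ s' : F, ∀ m, ζ (D.ε (s * D.B m)) = D.ε (s' * D.B (ζ m)) := by
    intro s
    obtain ⟨j', hj', hx'⟩ := D.Jall ((s * (D.hm x0 u0)⁻¹) • x0)
    obtain ⟨j, hj, hx⟩ := D.Jall u0
    obtain ⟨i', hi', e'⟩ := hF.conjJ hζ hj'
    obtain ⟨i, hi, e⟩ := hF.conjJ hζ hj
    have gen : ∀ {a b : M ≃ₗ[k] M}, a ∈ D.J → b ∈ D.J → ∀ m,
        a (b m - m) - (b m - m) = D.ε (D.B m * D.hm (D.χ b) (D.χ a)) := by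
      intro a b ha hb m
      have h1 := D.JM b hb m
      rw [D.JP a ha _ h1.1, add_sub_cancel_left, h1.2, D.hm_smul]
    refine ⟨D.hm (D.χ i') (D.χ i), fun m => ?_⟩
    have h1 := gen hj hj' m
    have h2 := gen hi hi' (ζ m)
    rw [hx, hx', D.hm_smul, mul_assoc, inv_mul_cancel₀ hu0, mul_one, mul_comm] at h1
    rw [mul_comm] at h2
    rw [← h1, ← h2, map_sub ζ, e, map_sub ζ, e']
  choose st hst using key
  choose A hA using hζ.e
  have hA0 : ∀ c, A c = 0 → c = 0 := fun c h => by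
    have := hA c
    rw [h, map_zero] at this
    exact D.ε_inj ((ζ.map_eq_zero_iff.1 this).trans (map_zero _).symm)
  have hAadd : ∀ c c', A (c + c') = A c + A c' := fun c c' => D.ε_inj (by
    rw [← hA, map_add, map_add, hA, hA, map_add])
  have h1 : ∀ s b : F, A (s * b) = st s * D.B (ζ (o.v b)) := fun s b => D.ε_inj (by
    have := hst s (o.v b)
    rw [o.Bv] at this
    rw [← hA, this])
  have hst1 : st 1 ≠ 0 := fun h => by
    have := h1 1 1
    rw [h, zero_mul, mul_one] at this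
    exact one_ne_zero (hA0 _ this)
  have hA1 : A 1 ≠ 0 := fun h => one_ne_zero (hA0 _ h)
  have h2 : ∀ b : F, D.B (ζ (o.v b)) = (st 1)⁻¹ * A b := fun b => by
    have := h1 1 b
    rw [one_mul] at this
    rw [this, inv_mul_cancel_left₀ hst1]
  have h3 : ∀ s b : F, A (s * b) = st s * (st 1)⁻¹ * A b := fun s b => by
    rw [h1, h2, mul_assoc]
  have h4 : ∀ s : F, st s * (st 1)⁻¹ = A s * (A 1)⁻¹ := fun s => by
    have := h3 s 1
    rw [mul_one] at this
    rw [this, mul_inv_cancel_right₀ hA1]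
  have hzero : A 0 = 0 := by
    have := hAadd 0 0
    rwa [add_zero, left_eq_add] at this
  refine ⟨{ toFun := fun s => A s * (A 1)⁻¹
            map_one' := mul_inv_cancel₀ hA1
            map_mul' := fun s b => by
              change A (s * b) * (A 1)⁻¹ = A s * (A 1)⁻¹ * (A b * (A 1)⁻¹)
              rw [h3, h4]; ring
            map_zero' := by
              change A 0 * (A 1)⁻¹ = 0
              rw [hzero, zero_mul]
            map_add' := fun s b => by
              change A (s + b) * (A 1)⁻¹ = A s * (A 1)⁻¹ + A b * (A 1)⁻¹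
              rw [hAadd, add_mul] }, fun s c => ?_⟩
  change _ = (A s * (A 1)⁻¹) • ζ (D.ε c)
  rw [hA, hA, hF.hε, h3, h4]

variable {σ : F →+* F} (hσ : ∀ s c : F, ζ (D.ε (s * c)) = σ s • ζ (D.ε c))

include hσ

/-- the function `l` -/
theorem exists_gam : ∃ ν : F, ν ≠ 0 ∧ ∀ x : F, l (D.tr x) = D.tr (ν * σ x) := by
  obtain ⟨a, ha⟩ := hζ.e 1
  have ha0 : a ≠ 0 := fun h => by
    rw [h, map_zero] at ha
    exact one_ne_zero (D.ε_inj ((ζ.map_eq_zero_iff.1 ha).trans (map_zero _).symm))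
  have hεc : ∀ c, ζ (D.ε c) = D.ε (σ c * a) := fun c => by
    have := hσ c 1
    rw [mul_one, ha, hF.hε] at this
    exact this
  refine ⟨a * D.sg (D.B (ζ (o.v 1))), mul_ne_zero ha0 ?_, fun x => ?_⟩
  · intro h
    rw [map_eq_zero, hF.B_iff hζ, o.Bv] at h
    exact one_ne_zero h
  · have h1 := hζ.f (D.ε x) (o.v 1)
    rw [f_ε_v, map_one D.sg, mul_one, hεc, D.fe] at h1
    rw [← h1]
    congr 1
    ring

/-- `ζ` is semilinear on `M/P`. -/
theorem B_semi (s : F) (m : M) : D.B (ζ (s • m)) = σ s * D.B (ζ m) := by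
  obtain ⟨ν, hν, h1⟩ := hF.exists_gam hζ hσ
  obtain ⟨a, ha⟩ := hζ.e 1
  have ha0 : a ≠ 0 := fun h => by
    rw [h, map_zero] at ha
    exact one_ne_zero (D.ε_inj ((ζ.map_eq_zero_iff.1 ha).trans (map_zero _).symm))
  have hεc : ∀ c, ζ (D.ε c) = D.ε (σ c * a) := fun c => by
    have := hσ c 1
    rw [mul_one, ha, hF.hε] at this
    exact this
  -- `tr (σ c * (a * sg (B ζ m))) = tr (σ c * (ν * σ (sg (B m))))`
  have hσs : Function.Surjective σ := Finite.surjective_of_injective σ.injective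
  have h2 : ∀ m, a * D.sg (D.B (ζ m)) = ν * σ (D.sg (D.B m)) := fun m => by
    rw [← sub_eq_zero]
    apply D.tr_nondegH
    intro c'
    obtain ⟨c, rfl⟩ := hσs c'
    have h3 := hζ.f (D.ε c) m
    rw [D.fe, h1, hεc, D.fe, map_mul σ] at h3
    rw [sub_mul, map_sub, sub_eq_zero]
    have h4 : a * D.sg (D.B (ζ m)) * σ c = σ c * a * D.sg (D.B (ζ m)) := by ring
    have h5 : ν * σ (D.sg (D.B m)) * σ c = ν * (σ c * σ (D.sg (D.B m))) := by ring
    rw [h4, h5, h3]
  have h6 := h2 (s • m)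
  rw [hF.B_smul, map_mul, map_mul, D.map_sg, mul_left_comm, ← h2 m, mul_left_comm] at h6
  have h7 := mul_left_cancel₀ ha0 h6
  rw [← map_mul] at h7
  exact D.sg.injective h7

/-- **`ζ` is semilinear.** -/
theorem semi_smul (S : Sw o) (s : F) (m : M) : ζ (s • m) = σ s • ζ m := by
  -- isotropic vectors outside `P`
  have iso : ∀ m, gf o m m = 0 → D.B m ≠ 0 → ∀ s : F, ζ (s • m) = σ s • ζ m := by
    intro m h0 hB s
    obtain ⟨h, hh, c, rfl⟩ := hF.pt S h0
    have hc0 : c ≠ 0 := fun hc => hB (by rw [hc, map_zero, map_zero, map_zero])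
    obtain ⟨g', hg', hg⟩ := hζ.H h hh.1
    obtain ⟨h', hh', hc'⟩ := hF.conj S hg'
    have h1 : ∀ c, ∃ c', ζ (h (D.ε c)) = h' (D.ε c') := fun c => by
      obtain ⟨c1, e1⟩ := hζ.e c
      obtain ⟨c2, e2⟩ := hc' c1
      exact ⟨c2, by rw [hg, e1, e2]⟩
    obtain ⟨c1, e1⟩ := h1 c
    obtain ⟨c2, e2⟩ := h1 (s * c)
    have hc1 : c1 ≠ 0 := fun hc => by
      rw [hc, map_zero, map_zero] at e1
      have e3 := ζ.map_eq_zero_iff.1 e1
      apply hB
      rw [e3, map_zero]
    have e4 : ζ (s • h (D.ε c)) = (c2 * c1⁻¹) • ζ (h (D.ε c)) := by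
      rw [← hh.2, hF.hε, e2, e1, ← hh'.2, hF.hε, inv_mul_cancel_right₀ hc1]
    have e5 := hF.B_semi hζ hσ s (h (D.ε c))
    rw [e4, hF.B_smul] at e5
    have e6 : D.B (ζ (h (D.ε c))) ≠ 0 := fun h => hB ((hF.B_iff hζ _).1 h)
    rw [e4, mul_right_cancel₀ e6 e5]
  have hv : ∀ s b : F, ζ (s • o.v b) = σ s • ζ (o.v b) := fun s b => by
    by_cases hb : b = 0
    · rw [hb, map_zero, smul_zero, map_zero, smul_zero]
    · exact iso _ (gf_vv o b b) (by rwa [o.Bv]) s
  have hε : ∀ s c : F, ζ (s • D.ε c) = σ s • ζ (D.ε c) := fun s c => by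
    rw [hF.hε, hσ]
  have hu : ∀ (s : F) (x : Φ), ζ (s • uo o x) = σ s • ζ (uo o x) := fun s x => by
    obtain ⟨j, hj, rfl⟩ := D.Jall x
    have h1 := iso (j (o.v 1)) (by rw [hF.HF_gf (hF.J_le_HF hj), gf_vv])
      (by rw [D.J_B hj, o.Bv]; exact one_ne_zero) s
    rw [J_v o hj, one_smul, smul_add, smul_add, map_add, map_add, map_add, map_add, smul_add,
      smul_add, hv, hε, add_right_inj, add_left_inj] at h1
    exact h1
  rw [eq_psi o m, smul_add, smul_add, map_add, map_add, map_add, map_add, smul_add, smul_add,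
    hv, hu, hε]

/-- **`ζ` is a similitude of `g`.** -/
theorem semi_gf (S : Sw o) : ∃ γ : k, γ ≠ 0 ∧ (∀ x, l (D.tr x) = γ * D.tr (σ x)) ∧
    ∀ m m', gf o (ζ m) (ζ m') = γ • σ (gf o m m') := by
  obtain ⟨ν, hν, h1⟩ := hF.exists_gam hζ hσ
  have h2 : D.tr ν = 0 := by
    have h3 := h1 1
    have h5 : D.tr 1 = 0 := by
      rw [show (1 : F) = algebraMap k F 1 from (map_one _).symm, D.tr_algebraMap]
    rw [map_one σ, mul_one, h5, hF.l_zero hζ] at h3
    exact h3.symm
  obtain ⟨γ, rfl⟩ := D.exists_of_tr_eq_zero h2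
  have hγ : γ ≠ 0 := fun h => hν (by rw [h, map_zero])
  have h4 : ∀ x, l (D.tr x) = γ * D.tr (σ x) := fun x => by
    rw [h1, ← Algebra.smul_def, map_smul, smul_eq_mul]
  refine ⟨γ, hγ, h4, fun m m' => ?_⟩
  have hσs : Function.Surjective σ := Finite.surjective_of_injective σ.injective
  rw [← sub_eq_zero]
  apply D.tr_nondegH
  intro c'
  obtain ⟨c, rfl⟩ := hσs c'
  rw [sub_mul, map_sub, sub_eq_zero, mul_comm, ← hF.gf_smul, ← hF.semi_smul hζ hσ S,
    ← f_eq_tr, hζ.f, f_eq_tr o, h4, hF.gf_smul, map_mul, smul_mul_assoc, map_smul, smul_eq_mul,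
    mul_comm (σ c)]

end IsF

end Uni

end Cfsg.Agent.Omega.NOne.SU

end
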