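import Cfsg.Agent.Mrg.Omega.NOne.SU.Grp6
import Cfsg.Agent.Mrg.Omega.NOne.SU.HermCo
import Cfsg.Agent.Mrg.Omega.NOne.SU.Defs
import Mathlib

section


/-!
# THEOREM UNI: the output

`exists_herm : ∃ (_ : Module F M), Nonempty (Herm D)`; `Herm D` lists everything: the `F`-structure,
the hermitian form `g` with `f = tr g`, all isotropic points are conjugate to `e` under the group
`HT` generated by the conjugates of the `N_a` (= all unitary transvections), every conjugate of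
`e` is an isotropic point, `J` = all linear isometries trivial on `e`, `e^⊥/e`, `M/e^⊥`, and
every additive map normalising `H`, preserving `f` up to a function of the value and permuting the
conjugates of `e` is a semilinear similitude (if `Φ ≠ 0`, or if it is semilinear on `e`).
-/

set_option autoImplicit false
set_option linter.unusedSectionVars false

namespace Cfsg.Agent.Omega.NOne.SU

open Quad

namespace Uni

variable {k F M Φ : Type*} [Field k] [Field F] [Algebra k F] [AddCommGroup M] [Module k M]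
    [AddCommGroup Φ] [Module k Φ] [Module F Φ]

theorem tower_of [CharP k 2] (D : Uni k F M Φ) : IsScalarTower k F Φ := by
  have key : ∀ (a : k) (x : Φ), algebraMap k F a • x = a • x := by
    intro a x
    obtain ⟨j, hj, rfl⟩ := D.Jall x
    obtain ⟨m, hm⟩ := D.B_surj 1
    have h1 := (D.JM j hj (a • m)).2
    have h2 := (D.JM j hj m).2
    rw [map_smul, ← smul_sub, map_smul, h2, hm, one_smul, map_smul, hm] at h1
    rw [h1, Algebra.algebraMap_eq_smul_one]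
  refine ⟨fun a s x => ?_⟩
  rw [Algebra.smul_def, mul_smul, key]

theorem exists_sw [CharP k 2] [Finite M] (D : Uni k F M Φ) : ∃ o : D.OppV, Sw o := by
  have := D.tower_of
  obtain ⟨g0, -, v, h1, -, -, h2, h3, h4, h5, -⟩ := exists_v (U := D)
  exact ⟨⟨v, h1, h2, h3⟩, fun b => by
    obtain ⟨w, hw, a1, a2, a3⟩ := h4 b
    exact ⟨w, hw, a1, a2, fun m _ hm => a3 m hm⟩, fun g hg => D.pos hg, h5⟩

/-- an additive map `ζ` normalises `H`, preserves `f` up to the function `l` and maps `e` to a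
conjugate of `e`. -/
structure Norm (D : Uni k F M Φ) (ζ : M ≃+ M) (l : k → k) : Prop where
  H : ∀ g ∈ D.H, ∃ g' ∈ D.H, ∀ m, ζ (g m) = g' (ζ m)
  f : ∀ m m', D.f (ζ m) (ζ m') = l (D.f m m')
  l0 : ∀ a, l a = 0 → a = 0
  e : ∃ g ∈ D.H, ∀ c, ∃ c', ζ (D.ε c) = g (D.ε c')

/-- **OUTPUT of THEOREM UNI.** -/
structure Herm (D : Uni k F M Φ) [Module F M] where
  /-- the hermitian form -/
  g : M → M → F
  /-- an opposite point -/
  v : F →ₗ[k] M
  tower : ∀ (a : k) (m : M), algebraMap k F a • m = a • m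
  add_left : ∀ m m' w, g (m + m') w = g m w + g m' w
  add_right : ∀ w m m', g w (m + m') = g w m + g w m'
  smul_left : ∀ (s : F) m w, g (s • m) w = s * g m w
  smul_right : ∀ (s : F) m w, g m (s • w) = D.sg s * g m w
  sym : ∀ m w, g w m = D.sg (g m w)
  nondeg : ∀ m, (∀ w, g m w = 0) → m = 0
  f_eq : ∀ m w, D.f m w = D.tr (g m w)
  ε_smul : ∀ s c, D.ε (s * c) = s • D.ε c
  g_ε : ∀ m c, g m (D.ε c) = D.B m * D.sg c
  B_smul : ∀ (s : F) m, D.B (s • m) = s * D.B m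
  y_smul : ∀ (s : F) m, D.B m = 0 → D.y (s • m) = s • D.y m
  g_y : ∀ m m', D.B m = 0 → D.B m' = 0 → g m m' = D.hm (D.y m) (D.y m')
  v_smul : ∀ s b, v (s * b) = s • v b
  B_v : ∀ b, D.B (v b) = b
  g_v : ∀ b b', g (v b) (v b') = 0
  t_v : ∀ (z : Fˣ) b, D.t z (v b) = v ((z : F) ^ 2 * b)
  J_smul : ∀ j ∈ D.J, ∀ (s : F) m, j (s • m) = s • j m
  t_smul : ∀ (z : Fˣ) (s : F) m, D.t z (s • m) = s • D.t z m
  t_g : ∀ (z : Fˣ) m m', g (D.t z m) (D.t z m') = algebraMap k F (D.nm z) * g m m'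
  /-- linear isometries of `f` are isometries of `g` -/
  isom : ∀ ζ : M → M, (∀ (s : F) m, ζ (s • m) = s • ζ m) →
    (∀ m m', D.f (ζ m) (ζ m') = D.f m m') → ∀ m m', g (ζ m) (ζ m') = g m m'
  /-- all unitary transvections are in `H`, even in the group `HT` -/
  transv : ∀ m0, g m0 m0 = 0 → ∀ a : k, ∃ h ∈ D.HT, ∀ m, h m = m + a • g m m0 • m0
  /-- `HT` is transitive on the isotropic points -/
  pt : ∀ m, g m m = 0 → m ≠ 0 → ∃ h ∈ D.HT, (∀ (s : F) m, h (s • m) = s • h m) ∧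
    ∃ c : F, c ≠ 0 ∧ h (D.ε c) = m
  /-- the conjugates of `e` are isotropic points -/
  conj : ∀ h ∈ D.H, ∃ h' ∈ D.HT, (∀ (s : F) m, h' (s • m) = s • h' m) ∧
    (∀ c, ∃ c', h (D.ε c) = h' (D.ε c')) ∧ ∀ c', ∃ c, h (D.ε c) = h' (D.ε c')
  mem_J : ∀ ζ : M ≃ₗ[k] M, (∀ (s : F) m, ζ (s • m) = s • ζ m) →
    (∀ m m', D.f (ζ m) (ζ m') = D.f m m') → (∀ c, ζ (D.ε c) = D.ε c) →
    (∀ m, D.B m = 0 → ∃ c, ζ m - m = D.ε c) → (∀ m, D.B (ζ m) = D.B m) → ζ ∈ D.J
  /-- semilinearity, if `Φ ≠ 0` -/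
  semi : Nontrivial Φ → ∀ (ζ : M ≃+ M) (l : k → k), D.Norm ζ l →
    ∃ (σ : F →+* F) (γ : k), γ ≠ 0 ∧ (∀ (s : F) m, ζ (s • m) = σ s • ζ m) ∧
      (∀ m m', g (ζ m) (ζ m') = γ • σ (g m m')) ∧ ∀ x, l (D.tr x) = γ * D.tr (σ x)
  /-- semilinearity, if it is given on `e` -/
  semi' : ∀ (ζ : M ≃+ M) (l : k → k), D.Norm ζ l → ∀ σ : F →+* F,
    (∀ s c : F, ζ (D.ε (s * c)) = σ s • ζ (D.ε c)) →
    ∃ γ : k, γ ≠ 0 ∧ (∀ (s : F) m, ζ (s • m) = σ s • ζ m) ∧
      (∀ m m', g (ζ m) (ζ m') = γ • σ (g m m')) ∧ ∀ x, l (D.tr x) = γ * D.tr (σ x)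
  /-- if `Φ ≠ 0`, the clause `e` of `Norm` is automatic -/
  normE : Nontrivial Φ → ∀ (ζ : M ≃+ M) (l : k → k),
    (∀ g ∈ D.H, ∃ g' ∈ D.H, ∀ m, ζ (g m) = g' (ζ m)) →
    (∀ m m', D.f (ζ m) (ζ m') = l (D.f m m')) → (∀ a, l a = 0 → a = 0) → D.Norm ζ l
  /-- the elements of `H` are semilinear isometries, if `Φ ≠ 0` -/
  semiH : Nontrivial Φ → ∀ h ∈ D.H, ∃ σ : F →+* F, (∀ a : k, σ (algebraMap k F a) = algebraMap k F a) ∧
    (∀ (s : F) m, h (s • m) = σ s • h m) ∧ ∀ m m', g (h m) (h m') = σ (g m m')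

section

variable {D : Uni k F M Φ} [CharP k 2] [Finite k] [Finite F] {o : D.OppV}
variable [Module F M] (hF : IsF o)

namespace IsF

include hF

theorem conjT (S : Sw o) {h : M ≃ₗ[k] M} (hh : h ∈ D.H) : ∃ h' ∈ D.HT, h' ∈ HF D ∧
    (∀ c, ∃ c', h (D.ε c) = h' (D.ε c')) ∧ ∀ c', ∃ c, h (D.ε c) = h' (D.ε c') := by
  obtain ⟨h1, hh1, hc⟩ := hF.conj S hh
  choose φ hφ using hc
  have h0 : φ 1 ≠ 0 := fun e => by
    have h2 := hφ 1
    rw [e, map_zero, map_zero] at h2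
    have h3 : D.ε 1 = 0 := by
      apply h.injective
      rw [h2, map_zero]
    exact one_ne_zero (D.ε_inj (h3.trans (map_zero _).symm))
  have hiso : gf o (h1 (D.ε (φ 1))) (h1 (D.ε (φ 1))) = 0 := by
    rw [hF.HF_gf hh1, gf_εε]
  obtain ⟨h', ht, hf, c0, hc0, he⟩ := hF.ptT S hiso fun e => h0 (D.ε_inj (by
    rw [map_zero]
    apply h1.injective
    rw [e, map_zero]))
  have key : ∀ c, h (D.ε c) = h' (D.ε (φ c * (φ 1)⁻¹ * c0)) := fun c => by
    rw [← hF.hε, hf.2, he, ← hh1.2, hF.hε, inv_mul_cancel_right₀ h0, hφ]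
  have hinj : Function.Injective fun c => φ c * (φ 1)⁻¹ * c0 := fun a b hab => by
    have h2 := (key a).trans ((congrArg (fun c => h' (D.ε c)) hab).trans (key b).symm)
    exact D.ε_inj (h.injective h2)
  refine ⟨h', ht, hf, fun c => ⟨_, key c⟩, fun c' => ?_⟩
  obtain ⟨c, hc⟩ := (Finite.injective_iff_surjective.1 hinj) c'
  exact ⟨c, by rw [key, ← hc]⟩

/-- move `e` back -/
theorem norm_nor (S : Sw o) {ζ : M ≃+ M} {l : k → k} (hζ : D.Norm ζ l) :
    ∃ h ∈ HF D, D.Nor (ζ.trans (h⁻¹ : M ≃ₗ[k] M).toAddEquiv) l := by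
  obtain ⟨g, hg, hge⟩ := hζ.e
  obtain ⟨h, -, hf, h1, -⟩ := hF.conjT S hg
  refine ⟨h, hf, fun g1 hg1 => ?_, fun m m' => ?_, hζ.l0, fun c => ?_⟩
  · obtain ⟨g2, hg2, h2⟩ := hζ.H g1 hg1
    refine ⟨h⁻¹ * g2 * h, mul_mem (mul_mem (inv_mem hf.1) hg2) hf.1, fun m => ?_⟩
    change h⁻¹ (ζ (g1 m)) = (h⁻¹ * g2 * h) (h⁻¹ (ζ m))
    rw [h2, LinearEquiv.mul_apply, LinearEquiv.mul_apply, apply_inv]
  · change D.f (h⁻¹ (ζ m)) (h⁻¹ (ζ m')) = _
    rw [← hζ.f, ← D.isom h hf.1 (h⁻¹ (ζ m)), apply_inv, apply_inv]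
  · obtain ⟨c1, e1⟩ := hge c
    obtain ⟨c2, e2⟩ := h1 c1
    refine ⟨c2, ?_⟩
    change h⁻¹ (ζ (D.ε c)) = _
    rw [e1, e2, inv_apply]

theorem semi' (S : Sw o) {ζ : M ≃+ M} {l : k → k} (hζ : D.Norm ζ l) {σ : F →+* F}
    (hσ : ∀ s c : F, ζ (D.ε (s * c)) = σ s • ζ (D.ε c)) :
    ∃ γ : k, γ ≠ 0 ∧ (∀ (s : F) m, ζ (s • m) = σ s • ζ m) ∧
      (∀ m m', gf o (ζ m) (ζ m') = γ • σ (gf o m m')) ∧ ∀ x, l (D.tr x) = γ * D.tr (σ x) := by
  obtain ⟨h, hf, hn⟩ := hF.norm_nor S hζ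
  have hval : ∀ m, (ζ.trans (h⁻¹ : M ≃ₗ[k] M).toAddEquiv) m = h⁻¹ (ζ m) := fun m => rfl
  have hfi : h⁻¹ ∈ HF D := inv_mem hf
  have hσ' : ∀ s c : F, (ζ.trans (h⁻¹ : M ≃ₗ[k] M).toAddEquiv) (D.ε (s * c))
      = σ s • (ζ.trans (h⁻¹ : M ≃ₗ[k] M).toAddEquiv) (D.ε c) := fun s c => by
    rw [hval, hval, hσ, hfi.2]
  obtain ⟨γ, h0, h1, h2⟩ := hF.semi_gf hn hσ' S
  have h3 := hF.semi_smul hn hσ' S
  refine ⟨γ, h0, fun s m => ?_, fun m m' => ?_, h1⟩
  · have h4 := h3 s m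
    rw [hval, hval, ← hfi.2] at h4
    exact (h⁻¹).injective h4
  · have h4 := h2 m m'
    rw [hval, hval, hF.HF_gf hfi] at h4
    exact h4

theorem semi [Nontrivial Φ] (S : Sw o) {ζ : M ≃+ M} {l : k → k} (hζ : D.Norm ζ l) :
    ∃ (σ : F →+* F) (γ : k), γ ≠ 0 ∧ (∀ (s : F) m, ζ (s • m) = σ s • ζ m) ∧
      (∀ m m', gf o (ζ m) (ζ m') = γ • σ (gf o m m')) ∧ ∀ x, l (D.tr x) = γ * D.tr (σ x) := by
  obtain ⟨h, hf, hn⟩ := hF.norm_nor S hζ
  have hval : ∀ m, (ζ.trans (h⁻¹ : M ≃ₗ[k] M).toAddEquiv) m = h⁻¹ (ζ m) := fun m => rfl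
  have hfi : h⁻¹ ∈ HF D := inv_mem hf
  obtain ⟨σ, hσ⟩ := hF.semi_ε hn
  refine ⟨σ, hF.semi' S hζ fun s c => ?_⟩
  have h4 := hσ s c
  rw [hval, hval, ← hfi.2] at h4
  exact (h⁻¹).injective h4

theorem semiH [Nontrivial Φ] (S : Sw o) {h : M ≃ₗ[k] M} (hh : h ∈ D.H) :
    ∃ σ : F →+* F, (∀ a : k, σ (algebraMap k F a) = algebraMap k F a) ∧
    (∀ (s : F) m, h (s • m) = σ s • h m) ∧ ∀ m m', gf o (h m) (h m') = σ (gf o m m') := by
  have hn : D.Norm h.toAddEquiv id := by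
    refine ⟨fun g hg => ⟨h * g * h⁻¹, mul_mem (mul_mem hh hg) (inv_mem hh), fun m => ?_⟩,
      fun m m' => D.isom h hh m m', fun a ha => ha, h, hh, fun c => ⟨c, rfl⟩⟩
    change h (g m) = (h * g * h⁻¹) (h m)
    rw [LinearEquiv.mul_apply, LinearEquiv.mul_apply, inv_apply]
  obtain ⟨σ, γ, h0, h1, h2, h3⟩ := hF.semi S hn
  have h1' : ∀ (s : F) m, h (s • m) = σ s • h m := h1
  have hinj : ∀ {s s' : F}, s • h (D.ε 1) = s' • h (D.ε 1) → s = s' := fun {s s'} e => by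
    have e1 : (s - s') • h (D.ε 1) = 0 := by rw [sub_smul, e, sub_self]
    rcases smul_eq_zero.1 e1 with e2 | e2
    · exact sub_eq_zero.1 e2
    · exfalso
      have e3 : D.ε 1 = 0 := by
        apply h.injective
        rw [e2, map_zero]
      exact one_ne_zero (D.ε_inj (e3.trans (map_zero _).symm))
  have hk : ∀ a : k, σ (algebraMap k F a) = algebraMap k F a := fun a => by
    apply hinj
    rw [← h1', hF.tower, hF.tower, map_smul]
  have htr : ∀ x, D.tr (σ x) = D.tr x := fun x => by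
    apply algebraMap_inj (F := F)
    rw [D.tr_eq, ← D.map_sg, ← map_add, ← D.tr_eq, hk]
  obtain ⟨θ, hθ⟩ := D.exists_tr_one
  have hγ : γ = 1 := by
    have := h3 θ
    rw [htr, hθ, mul_one] at this
    exact this.symm
  exact ⟨σ, hk, h1', fun m m' => by
    have := h2 m m'
    rw [hγ, one_smul] at this
    exact this⟩

/-- if `Φ ≠ 0`, a map normalising `H` permutes the conjugates of `e`. -/
theorem normE [Nontrivial Φ] [Finite M] (S : Sw o) {ζ : M ≃+ M} {l : k → k}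
    (hH : ∀ g ∈ D.H, ∃ g' ∈ D.H, ∀ m, ζ (g m) = g' (ζ m))
    (hf : ∀ m m', D.f (ζ m) (ζ m') = l (D.f m m')) (l0 : ∀ a, l a = 0 → a = 0) :
    D.Norm ζ l := by
  refine ⟨hH, hf, l0, ?_⟩
  obtain ⟨n, hn, hna⟩ := D.Jn 1
  obtain ⟨τ, hτ, he⟩ := hH n (D.J_le hn)
  obtain ⟨σ, -, h1, -⟩ := hF.semiH S hτ
  have hτm : ∀ m, τ (ζ m) = ζ m + ζ (D.ε (D.B m)) := fun m => by
    rw [← he, hna, one_smul, map_add]
  have hl0 : l 0 = 0 := by
    have := hf 0 0
    rw [map_zero ζ, map_zero (D.f 0)] at this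
    exact this.symm
  by_cases hσ : ∀ s, σ s = s
  · -- `ζ e` is an `F`-point
    have hs : ∀ s c : F, ∃ c', s • ζ (D.ε c) = ζ (D.ε c') := fun s c => by
      obtain ⟨m', hm'⟩ := ζ.surjective (s • ζ (o.v c))
      refine ⟨D.B m', ?_⟩
      have h2 := hτm (o.v c)
      have h3 := hτm m'
      rw [hm', h1, hσ, h2, o.Bv, smul_add, add_right_inj] at h3
      exact h3
    have hm0 : ζ (D.ε 1) ≠ 0 := fun e =>
      one_ne_zero (D.ε_inj ((ζ.map_eq_zero_iff.1 e).trans (map_zero _).symm))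
    have hiso : gf o (ζ (D.ε 1)) (ζ (D.ε 1)) = 0 := by
      apply D.tr_nondegH
      intro s
      obtain ⟨c', hc'⟩ := hs s 1
      rw [mul_comm, ← hF.gf_smul, ← f_eq_tr, hc', hf, D.f_ε, hl0]
    obtain ⟨h, ht, hl, c0, hc0, h2⟩ := hF.ptT S hiso hm0
    choose φ hφ using fun s => hs s 1
    have hinj : Function.Injective φ := fun a b hab => by
      have h3 : a • ζ (D.ε 1) = b • ζ (D.ε 1) :=
        (hφ a).trans ((congrArg (fun c => ζ (D.ε c)) hab).trans (hφ b).symm)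
      have h4 : (a - b) • ζ (D.ε 1) = 0 := by rw [sub_smul, h3, sub_self]
      rcases smul_eq_zero.1 h4 with h5 | h5
      · exact sub_eq_zero.1 h5
      · exact (hm0 h5).elim
    refine ⟨h, D.HT_le ht, fun c => ?_⟩
    obtain ⟨s, rfl⟩ := (Finite.injective_iff_surjective.1 hinj) c
    exact ⟨s * c0, by rw [← hφ, ← h2, ← hl.2, hF.hε]⟩
  · exfalso
    push Not at hσ
    obtain ⟨θ, hθ⟩ := hσ
    have hfix : ∀ p, D.B p = 0 → τ (ζ p) = ζ p := fun p hp => by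
      rw [hτm, hp, map_zero, map_zero, add_zero]
    let φ : (F × Φ) × (F × Φ) → M := fun z =>
      ζ (D.ε z.1.1 + uo o z.1.2) + θ • ζ (D.ε z.2.1 + uo o z.2.2)
    have hP : ∀ (a : F) (x : Φ), D.B (D.ε a + uo o x) = 0 := fun a x => by
      rw [map_add, D.Bε, Bu, add_zero]
    have hPi : ∀ (a : F) (x : Φ), D.ε a + uo o x = 0 → a = 0 ∧ x = 0 := fun a x h => by
      have h2 : psi o (a, x, 0) = psi o 0 := by
        rw [psi_apply, map_zero, map_zero, add_zero]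
        exact h
      have h3 := psi_injective o h2
      exact ⟨congrArg Prod.fst h3, congrArg (fun z => z.2.1) h3⟩
    have key : ∀ p p', D.B p = 0 → D.B p' = 0 → ζ p + θ • ζ p' = 0 → p = 0 ∧ p' = 0 := by
      intro p p' hp hp' h
      have h2 : ζ p = θ • ζ p' := eq_of_add_eq_zeroM k h
      have h3 := congrArg τ h2
      rw [hfix p hp, h1, hfix p' hp', h2] at h3
      have h4 : (θ - σ θ) • ζ p' = 0 := by rw [sub_smul, h3, sub_self]
      rcases smul_eq_zero.1 h4 with h5 | h5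
      · exact (hθ (sub_eq_zero.1 h5).symm).elim
      · rw [h5, smul_zero] at h2
        exact ⟨ζ.map_eq_zero_iff.1 h2, ζ.map_eq_zero_iff.1 h5⟩
    have hinj : Function.Injective φ := by
      rintro ⟨⟨a, x⟩, ⟨b, y⟩⟩ ⟨⟨a', x'⟩, ⟨b', y'⟩⟩ h
      change ζ (D.ε a + uo o x) + θ • ζ (D.ε b + uo o y)
        = ζ (D.ε a' + uo o x') + θ • ζ (D.ε b' + uo o y') at h
      have h2 : ζ (D.ε (a - a') + uo o (x - x')) + θ • ζ (D.ε (b - b') + uo o (y - y')) = 0 := by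
        have e1 : D.ε (a - a') + uo o (x - x') = (D.ε a + uo o x) - (D.ε a' + uo o x') := by
          rw [map_sub, map_sub]; abel
        have e2 : D.ε (b - b') + uo o (y - y') = (D.ε b + uo o y) - (D.ε b' + uo o y') := by
          rw [map_sub, map_sub]; abel
        rw [e1, e2, map_sub ζ, map_sub ζ, smul_sub]
        rw [← sub_eq_zero] at h
        rw [← h]
        abel
      obtain ⟨h3, h4⟩ := key _ _ (hP _ _) (hP _ _) h2
      obtain ⟨a1, x1⟩ := hPi _ _ h3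
      obtain ⟨b1, y1⟩ := hPi _ _ h4
      rw [sub_eq_zero] at a1 x1 b1 y1
      rw [a1, x1, b1, y1]
    have hΦ : Finite Φ := Finite.of_injective (fun x => uo o x) fun x y h => by
      have := congrArg D.y h
      change D.y (uo o x) = D.y (uo o y) at this
      rwa [yu, yu] at this
    have c1 : Nat.card ((F × Φ) × (F × Φ)) ≤ Nat.card M := Nat.card_le_card_of_injective _ hinj
    have c2 : Nat.card M = Nat.card (F × Φ × F) := Nat.card_congr (co o).toEquiv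
    rw [c2, Nat.card_prod, Nat.card_prod, Nat.card_prod, Nat.card_prod] at c1
    have c3 : 1 < Nat.card Φ := Finite.one_lt_card
    have c4 : 0 < Nat.card F := Nat.card_pos
    have c5 : Nat.card F * Nat.card F * Nat.card Φ * Nat.card Φ
        ≤ Nat.card F * Nat.card F * Nat.card Φ * 1 := by
      calc _ = Nat.card F * Nat.card Φ * (Nat.card F * Nat.card Φ) := by ring
        _ ≤ Nat.card F * (Nat.card Φ * Nat.card F) := c1
        _ = _ := by ring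
    have c6 := Nat.le_of_mul_le_mul_left c5 (by positivity)
    omega

/-- everything -/
noncomputable def herm [Finite M] (S : Sw o) : D.Herm where
  g := gf o
  v := o.v
  tower := hF.tower
  add_left := gf_add o
  add_right := gf_add_right o
  smul_left := hF.gf_smul
  smul_right := hF.gf_smul_right
  sym := gf_sym o
  nondeg := fun _ h => gf_nondeg o h
  f_eq := f_eq_tr o
  ε_smul := fun s c => (hF.hε s c).symm
  g_ε := gf_ε o
  B_smul := hF.B_smul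
  y_smul := fun s _ h => hF.y_smul s h
  g_y := fun _ _ h h' => gf_P o h h'
  v_smul := fun s b => (hF.hv s b).symm
  B_v := o.Bv
  g_v := gf_vv o
  t_v := o.tv
  J_smul := fun _ hj => hF.J_smul hj
  t_smul := hF.t_smul
  t_g := hF.t_gf
  isom := fun _ h1 h2 => hF.isom h1 h2
  transv := fun _ h0 a => by
    obtain ⟨h, -, h1, h2⟩ := hF.transvT S h0 a
    exact ⟨h, h1, h2⟩
  pt := fun _ h2 h0 => by
    obtain ⟨h, h1, h3, h4⟩ := hF.ptT S h2 h0
    exact ⟨h, h1, h3.2, h4⟩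
  conj := fun _ hh => by
    obtain ⟨h, h1, h3, h4⟩ := hF.conjT S hh
    exact ⟨h, h1, h3.2, h4⟩
  mem_J := fun _ h1 h2 h3 h4 h5 => hF.mem_J h1 h2 h3 h4 h5
  semi := fun _ _ _ hζ => hF.semi S hζ
  semi' := fun _ _ hζ _ hσ => hF.semi' S hζ hσ
  normE := fun _ _ _ hH hf l0 => hF.normE S hH hf l0
  semiH := fun _ _ hh => hF.semiH S hh

end IsF

end

/-- **THEOREM UNI.** -/
theorem exists_herm [CharP k 2] [Finite M] (D : Uni k F M Φ) :
    ∃ (_ : Module F M), Nonempty D.Herm := by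
  have := D.toQuad.finite_k
  have := D.toQuad.finite_F
  obtain ⟨o, S⟩ := D.exists_sw
  let _ := modF o
  exact ⟨_, ⟨(isF_modF o).herm S⟩⟩

end Uni

end Cfsg.Agent.Omega.NOne.SU

end

section


/-!
# THEOREM UNI: the coordinate fields of `Out` from `GIn`, `Fld` and `Herm`
-/

set_option autoImplicit false
set_option linter.unusedSectionVars false

open Subgroup

namespace Cfsg.Agent.Omega.NOne.SU

variable {G : Type*} [Group G] {k F : Type*} [Field k] [Field F] [Algebra k F]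

namespace GIn

variable {T : Quad k F} {S : Sylow 2 G} {V R Q Q' : Subgroup G} {v : k → F → k → G} {p p' : G → F}
variable (h : GIn T S V R Q Q' v p p') (sc : Scal h.sp.form)
variable {Φ : Type*} [AddCommGroup Φ] [Module F Φ] {φ χ : G → Φ} (f : Fld T V R Q Q' v p φ χ)
  [Module k Φ] [IsScalarTower k F Φ] [Finite G] [Module F (h.M sc)] (D : (h.uni sc f).Herm)

namespace OC

omit [Finite G] in
variable {h sc} in
theorem B_ep (c : F) : h.BM sc (h.epM sc c) = 0 := h.Bm_ep c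

variable {h sc f}

include D

theorem g_ep (m : h.M sc) (c : F) : D.g m (h.epM sc c) = h.BM sc m * T.sg c := D.g_ε m c

theorem ep_smul (s c : F) : h.epM sc (s * c) = s • h.epM sc c := D.ε_smul s c

theorem B_smul (s : F) (m : h.M sc) : h.BM sc (s • m) = s * h.BM sc m := D.B_smul s m

theorem sym (m w : h.M sc) : D.g w m = T.sg (D.g m w) := D.sym m w

theorem f_eq (m w : h.M sc) : h.fM sc m w = T.tr (D.g m w) := D.f_eq m w

theorem smul_right (s : F) (m w : h.M sc) : D.g m (s • w) = T.sg s * D.g m w := D.smul_right s m w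

theorem y_smul (s : F) (m : h.M sc) (hm : h.BM sc m = 0) : h.yM sc f (s • m) = s • h.yM sc f m :=
  D.y_smul s m hm

theorem g_y (m m' : h.M sc) (hm : h.BM sc m = 0) (hm' : h.BM sc m' = 0) :
    D.g m m' = h.hmΦ sc f (h.yM sc f m) (h.yM sc f m') := D.g_y m m' hm hm'

theorem ep_eq (c : F) : h.epM sc c = c • h.epM sc 1 := by
  rw [← ep_smul D, mul_one]

/-- the vector `f₀` -/
noncomputable def f0 : h.M sc := D.v 1

theorem B_f0 : h.BM sc (f0 D) = 1 := D.B_v 1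

theorem g_ff : D.g (f0 D) (f0 D) = 0 := D.g_v 1 1

theorem g_fe : D.g (f0 D) (h.epM sc 1) = 1 := by
  rw [g_ep, B_f0, map_one, mul_one]

theorem g_ef : D.g (h.epM sc 1) (f0 D) = 1 := by
  rw [sym D, g_fe, map_one]

theorem g_ee : D.g (h.epM sc 1) (h.epM sc 1) = 0 := by
  rw [g_ep, B_ep, zero_mul]

theorem g_epf (c : F) : D.g (h.epM sc c) (f0 D) = c := by
  rw [ep_eq D, D.smul_left, g_ef, mul_one]

/-- uniqueness -/
theorem uniq {m m' : h.M sc} (hm : h.BM sc m = 0) (hm' : h.BM sc m' = 0) (hy : h.yM sc f m = h.yM sc f m')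
    (hf : D.g m (f0 D) = D.g m' (f0 D)) : m = m' := by
  have h1 : h.BM sc (m - m') = 0 := by rw [map_sub, hm, hm', sub_zero]
  obtain ⟨c, hc⟩ := (h.yM_ker sc f (m - m') h1).1 (by rw [map_sub, hy, sub_self])
  have h3 : m = h.epM sc c + m' := by rw [← hc, sub_add_cancel]
  have h4 : D.g m (f0 D) = c + D.g m' (f0 D) := by rw [h3, D.add_left, g_epf]
  rw [hf] at h4
  have h5 : c = 0 := left_eq_add.1 (by rw [add_comm]; exact h4)
  rw [h3, h5, map_zero, zero_add]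

theorem exists_iot (x : Φ) : ∃ m : h.M sc, h.BM sc m = 0 ∧ h.yM sc f m = x ∧ D.g m (f0 D) = 0 := by
  obtain ⟨m, hm, hy⟩ := h.y_surj_of sc f (h.yM_φ sc f) x
  refine ⟨m + h.epM sc (D.g m (f0 D)), ?_, ?_, ?_⟩
  · rw [map_add, hm, B_ep, add_zero]
  · rw [map_add, hy, h.yM_ep, add_zero]
  · rw [D.add_left, g_epf, T.add_self (h2 := h.h2)]

/-- the embedding `ι : Φ → W` -/
noncomputable def iot : Φ →ₗ[F] h.M sc where
  toFun := fun x => (exists_iot D x).choose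
  map_add' := fun x x' => by
    obtain ⟨h1, h2, h3⟩ := (exists_iot D x).choose_spec
    obtain ⟨h1', h2', h3'⟩ := (exists_iot D x').choose_spec
    obtain ⟨h1'', h2'', h3''⟩ := (exists_iot D (x + x')).choose_spec
    apply uniq D h1''
    · rw [map_add, h1, h1', add_zero]
    · rw [h2'', map_add, h2, h2']
    · rw [h3'', D.add_left, h3, h3', add_zero]
  map_smul' := fun s x => by
    obtain ⟨h1, h2, h3⟩ := (exists_iot D x).choose_spec
    obtain ⟨h1'', h2'', h3''⟩ := (exists_iot D (s • x)).choose_spec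
    rw [RingHom.id_apply]
    apply uniq D h1''
    · rw [B_smul D, h1, mul_zero]
    · rw [h2'', y_smul D s _ h1, h2]
    · rw [h3'', D.smul_left, h3, mul_zero]

theorem B_iot (x : Φ) : h.BM sc (iot D x) = 0 := (exists_iot D x).choose_spec.1

theorem y_iot (x : Φ) : h.yM sc f (iot D x) = x := (exists_iot D x).choose_spec.2.1

theorem g_iotf (x : Φ) : D.g (iot D x) (f0 D) = 0 := (exists_iot D x).choose_spec.2.2

theorem g_fiot (x : Φ) : D.g (f0 D) (iot D x) = 0 := by rw [sym D, g_iotf, map_zero]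

theorem g_eiot (x : Φ) : D.g (h.epM sc 1) (iot D x) = 0 := by
  rw [sym D, g_ep, B_iot, zero_mul, map_zero]

theorem g_iote (x : Φ) : D.g (iot D x) (h.epM sc 1) = 0 := by rw [g_ep, B_iot, zero_mul]

theorem g_iotiot (x y : Φ) : D.g (iot D x) (iot D y) = h.hmΦ sc f x y := by
  rw [g_y D _ _ (B_iot D x) (B_iot D y), y_iot, y_iot]

/-- on `e^⊥` -/
theorem perp {m : h.M sc} (hm : h.BM sc m = 0) : m = iot D (h.yM sc f m) + D.g m (f0 D) • h.epM sc 1 := by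
  rw [← ep_eq D]
  apply uniq D hm
  · rw [map_add, B_iot, B_ep, add_zero]
  · rw [map_add, y_iot, h.yM_ep, add_zero]
  · rw [D.add_left, g_iotf, g_epf, zero_add]

theorem span (m : h.M sc) : ∃ (a : F) (x : Φ) (b : F), m = a • h.epM sc 1 + iot D x + b • f0 D := by
  have h1 : h.BM sc (m - h.BM sc m • f0 D) = 0 := by
    rw [map_sub, B_smul D, B_f0, mul_one, sub_self]
  have h2 := perp D h1
  rw [sub_eq_iff_eq_add] at h2
  exact ⟨D.g (m - h.BM sc m • f0 D) (f0 D), h.yM sc f (m - h.BM sc m • f0 D), h.BM sc m, by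
    rw [add_comm (_ • h.epM sc 1)]
    exact h2⟩

theorem comm {x y : G} (hx : x ∈ Q) (hy : y ∈ Q) :
    x * y * x⁻¹ * y⁻¹ = v (T.tr (D.g (h.prM sc x) (h.prM sc y))) 0 0 := by
  have h1 := h.sp.comm x hx y hy
  rw [← f_eq D, h.fM_pr sc hx hy]
  exact (h.sp.a_co h1).symm

theorem w_e (b : F) : h.prM sc (v 0 b 0) = b • h.prM sc (v 0 1 0) := by
  rw [h.prM_E, h.prM_E, ← ep_eq D]

theorem p_eq {y : G} (hy : y ∈ Q) : p y = D.g (h.prM sc y) (h.prM sc (v 0 1 0)) := by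
  rw [h.prM_E, g_ep, map_one, mul_one, h.BM_pr sc hy]

theorem φ_eq {y : G} (hy : y ∈ Q) (hyV : y ∈ centralizer (V : Set G)) :
    ∃ a : F, h.prM sc y = iot D (φ y) + a • h.prM sc (v 0 1 0) := by
  have h1 := perp D ((h.BM_eq_zero sc hy).2 hyV)
  rw [h.yM_φ sc f y hy hyV] at h1
  rw [h.prM_E]
  exact ⟨_, h1⟩

/-- the decomposition of a vector -/
theorem decomp (m : h.M sc) : ∃ x : Φ, m = D.g m (f0 D) • h.epM sc 1 + iot D x +
    D.g m (h.epM sc 1) • f0 D := by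
  obtain ⟨a, x, b, hm⟩ := span D m
  have h1 : D.g m (f0 D) = a := by
    rw [hm, D.add_left, D.add_left, D.smul_left, D.smul_left, g_ef, g_iotf, g_ff]; ring
  have h2 : D.g m (h.epM sc 1) = b := by
    rw [hm, D.add_left, D.add_left, D.smul_left, D.smul_left, g_ee, g_iote, g_fe]; ring
  exact ⟨x, by rw [h1, h2]; exact hm⟩

/-- **the action of `n ∈ C_{Q'}(V)`** -/
theorem chi_act {n : G} (hn : n ∈ Q') (hnV : n ∈ centralizer (V : Set G)) :
    ∃ r : F, r + T.sg r = h.hmΦ sc f (χ n) (χ n) ∧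
    ∀ y ∈ Q, h.prM sc (n * y * n⁻¹) = h.prM sc y + D.g (h.prM sc y) (h.prM sc (v 0 1 0)) • iot D (χ n) +
      (D.g (h.prM sc y) (iot D (χ n)) + r * D.g (h.prM sc y) (h.prM sc (v 0 1 0))) • h.prM sc (v 0 1 0) := by
  have hnR := h.CV_le_CR hnV
  set L := h.linC sc n hnR with hL
  have hLJ : L ∈ h.JJ sc := h.linN_J sc f hn hnV
  have hsm : ∀ (s : F) m, L (s • m) = s • L m := D.J_smul L hLJ
  -- `L f₀`
  have h1 : h.BM sc (L (f0 D) - f0 D) = 0 := h.linN_B sc hnV (f0 D)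
  have h2 : h.yM sc f (L (f0 D) - f0 D) = χ n := by
    rw [h.linN_y sc f hn hnV, B_f0, one_smul]
  have h3 := perp D h1
  rw [h2] at h3
  set r := D.g (L (f0 D) - f0 D) (f0 D) with hr
  have h4 : L (f0 D) = f0 D + (iot D (χ n) + r • h.epM sc 1) := by
    rw [← h3, add_sub_cancel]
  refine ⟨r, ?_, fun y hy => ?_⟩
  · have h5 : D.g (L (f0 D)) (L (f0 D)) = D.g (f0 D) (f0 D) :=
      D.isom L hsm (fun m m' => isom (ind_linC (sc := sc) n hnR).mem m m') _ _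
    rw [g_ff, h4] at h5
    simp only [D.add_left, D.add_right, D.smul_left, smul_right D, g_ff, g_fiot, g_fe, g_iotf, g_iotiot,
      g_iote, g_ef, g_eiot, g_ee] at h5
    have h6 : (h.hmΦ sc f (χ n) (χ n)) + (r + T.sg r) = 0 := by
      rw [← h5]; ring
    have h7 := T.add_self (h2 := h.h2) (h.hmΦ sc f (χ n) (χ n))
    calc r + T.sg r = (h.hmΦ sc f (χ n) (χ n) + h.hmΦ sc f (χ n) (χ n)) + (r + T.sg r) := by
          rw [h7, zero_add]
      _ = h.hmΦ sc f (χ n) (χ n) + (h.hmΦ sc f (χ n) (χ n) + (r + T.sg r)) := by ring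
      _ = _ := by rw [h6, add_zero]
  · have h5 : h.prM sc (n * y * n⁻¹) = L (h.prM sc y) := ((ind_linC (sc := sc) n hnR).2 y hy).symm
    rw [h5, h.prM_E]
    obtain ⟨x, hx⟩ := decomp D (h.prM sc y)
    set m := h.prM sc y with hm
    set α := D.g m (f0 D) with hα
    set β := D.g m (h.epM sc 1) with hβ
    have h6 : D.g m (iot D (χ n)) = h.hmΦ sc f x (χ n) := by
      rw [hx, D.add_left, D.add_left, D.smul_left, D.smul_left, g_eiot, g_iotiot, g_fiot]; ring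
    have h7 : L (iot D x) = iot D x + h.hmΦ sc f x (χ n) • h.epM sc 1 := by
      rw [hL, h.linN_P sc f hn hnV _ (B_iot D x), y_iot, ep_eq D]
    have h8 : L (h.epM sc 1) = h.epM sc 1 := h.linN_ep sc hnV 1
    rw [h6]
    conv_lhs => rw [hx]
    rw [map_add, map_add, hsm, hsm, h8, h7, h4]
    conv_rhs => rw [hx]
    simp only [smul_add, add_smul, smul_smul]
    rw [mul_comm r β]
    abel

end OC

end GIn

end Cfsg.Agent.Omega.NOne.SU

end

section


/-!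
# THEOREM UNI: `N_G(R)` acts on `W = Q/R` by semilinear similitudes (`Φ ≠ 0`)

`zt c hc : h.M sc ≃+ h.M sc` : the action of `c ∈ N_G(R)`.
-/

set_option autoImplicit false
set_option linter.unusedSectionVars false

open Subgroup

namespace Cfsg.Agent.Omega.NOne.SU

variable {G : Type*} [Group G] {k F : Type*} [Field k] [Field F] [Algebra k F]

namespace GIn

variable {T : Quad k F} {S : Sylow 2 G} {V R Q Q' : Subgroup G} {v : k → F → k → G} {p p' : G → F}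
variable (h : GIn T S V R Q Q' v p p') (sc : Scal h.sp.form)

/-- the action of `c ∈ N_G(R)` on `M = Q/R` -/
noncomputable def zt (c : G) (hc : c ∈ normalizer (R : Set G)) : h.M sc ≃+ h.M sc where
  toFun := h.cj c
  invFun := h.cj c⁻¹
  left_inv := h.cj_inv_cj hc
  right_inv := h.cj_cj_inv hc
  map_add' := h.cj_add hc

theorem zt_pr {c : G} (hc : c ∈ normalizer (R : Set G)) {x : G} (hx : x ∈ Q) :
    h.zt sc c hc (h.prM sc x) = h.prM sc (c * x * c⁻¹) := h.cj_pr hc hx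

/-- the action of `c ∈ N_G(R)` on `R`, as a function on `k` -/
noncomputable def lz (c : G) (a : k) : k := h.sp.co (c * v a 0 0 * c⁻¹)

theorem v_lz {c : G} (hc : c ∈ normalizer (R : Set G)) (a : k) :
    v (h.lz c a) 0 0 = c * v a 0 0 * c⁻¹ :=
  h.sp.a_co ((mem_normalizer_iff.1 hc _).1 (h.mem_R.2 ⟨a, rfl⟩))

theorem lz_ne {c : G} (hc : c ∈ normalizer (R : Set G)) (a : k) (ha : h.lz c a = 0) : a = 0 := by
  have h1 := h.v_lz hc a
  rw [ha, h.v_zero] at h1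
  have h2 : v a 0 0 = 1 := by
    have h3 : v a 0 0 = c⁻¹ * (c * v a 0 0 * c⁻¹) * c := by group
    rw [h3, ← h1]
    group
  exact (h.v_inj a 0 0 h2).1

theorem zt_f {c : G} (hc : c ∈ normalizer (R : Set G)) (w w' : h.M sc) :
    h.fM sc (h.zt sc c hc w) (h.zt sc c hc w') = h.lz c (h.fM sc w w') := by
  obtain ⟨x, hx, rfl⟩ := h.prM_surj sc w
  obtain ⟨y, hy, rfl⟩ := h.prM_surj sc w'
  rw [h.zt_pr sc hc hx, h.zt_pr sc hc hy, h.fM_pr sc (h.nor c hc x hx) (h.nor c hc y hy),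
    h.fM_pr sc hx hy]
  have h1 : c * x * c⁻¹ * (c * y * c⁻¹) * (c * x * c⁻¹)⁻¹ * (c * y * c⁻¹)⁻¹ =
      c * (x * y * x⁻¹ * y⁻¹) * c⁻¹ := by group
  have h2 : v (h.sp.co (x * y * x⁻¹ * y⁻¹)) 0 0 = x * y * x⁻¹ * y⁻¹ :=
    h.sp.a_co (h.sp.comm x hx y hy)
  rw [h1, lz, h2]

theorem conj_CR {c d : G} (hc : c ∈ normalizer (R : Set G)) (hd : d ∈ centralizer (R : Set G)) :
    c * d * c⁻¹ ∈ centralizer (R : Set G) := by
  rw [mem_centralizer_iff] at hd ⊢
  intro r hr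
  have h1 : c⁻¹ * r * c ∈ R := by
    have := (mem_normalizer_iff.1 (inv_mem hc) r).1 hr
    rwa [inv_inv] at this
  have h2 := hd _ h1
  calc r * (c * d * c⁻¹) = c * (c⁻¹ * r * c * d) * c⁻¹ := by group
    _ = c * (d * (c⁻¹ * r * c)) * c⁻¹ := by rw [h2]
    _ = c * d * c⁻¹ * r := by group

theorem zt_H {c : G} (hc : c ∈ normalizer (R : Set G)) (g : h.M sc ≃ₗ[k] h.M sc)
    (hg : g ∈ h.H sc) : ∃ g' ∈ h.H sc, ∀ m, h.zt sc c hc (g m) = g' (h.zt sc c hc m) := by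
  obtain ⟨d, hd⟩ := hg
  have hd' := conj_CR hc hd.1
  refine ⟨_, (ind_linC (h := h) (sc := sc) (c * d * c⁻¹) hd').mem, fun m => ?_⟩
  obtain ⟨x, hx, rfl⟩ := h.prM_surj sc m
  rw [hd.2 x hx, h.zt_pr sc hc (h.nor d (h.CR_le_NR hd.1) x hx), h.zt_pr sc hc hx,
    (ind_linC (c * d * c⁻¹) hd').2 _ (h.nor c hc x hx)]
  congr 1
  group

variable {Φ : Type*} [AddCommGroup Φ] [Module F Φ] {φ χ : G → Φ} (f : Fld T V R Q Q' v p φ χ)
  [Module k Φ] [IsScalarTower k F Φ] [Finite G] [Nontrivial Φ] [Module F (h.M sc)]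

/-- **`c ∈ N_G(R)` normalises `H` and permutes the conjugates of `e`.** -/
theorem zt_norm (E : (h.uni sc f).Herm) {c : G} (hc : c ∈ normalizer (R : Set G)) :
    (h.uni sc f).Norm (h.zt sc c hc) (h.lz c) :=
  E.normE inferInstance _ _ (h.zt_H sc hc) (h.zt_f sc hc) (h.lz_ne hc)

/-- **`c ∈ N_G(R)` acts on `M` as a semilinear similitude.** -/
theorem zt_semi (E : (h.uni sc f).Herm) {c : G} (hc : c ∈ normalizer (R : Set G)) :
    ∃ (σ : F →+* F) (γ : k), γ ≠ 0 ∧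
      (∀ (s : F) m, h.zt sc c hc (s • m) = σ s • h.zt sc c hc m) ∧
      (∀ m m', E.g (h.zt sc c hc m) (h.zt sc c hc m') = γ • σ (E.g m m')) ∧
      ∀ x, c * v (T.tr x) 0 0 * c⁻¹ = v (γ * T.tr (σ x)) 0 0 := by
  obtain ⟨σ, γ, h0, h1, h2, h3⟩ := E.semi inferInstance _ _ (h.zt_norm sc f E hc)
  refine ⟨σ, γ, h0, h1, h2, fun x => ?_⟩
  have h4 := h3 x
  rw [← h.v_lz hc]
  exact congrArg (fun a => v a 0 0) h4

/-- the image of `e` under `c ∈ N_G(R)` is an isotropic point -/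
theorem zt_pt (E : (h.uni sc f).Herm) {c : G} (hc : c ∈ normalizer (R : Set G)) :
    ∃ m : h.M sc, m ≠ 0 ∧ E.g m m = 0 ∧ ∀ b : F, ∃ s : F, h.prM sc (c * v 0 b 0 * c⁻¹) = s • m := by
  obtain ⟨σ, γ, h0, h1, h2, -⟩ := h.zt_semi sc f E hc
  have hε : ∀ b : F, h.epM sc b = b • h.epM sc 1 := fun b => by
    have := E.ε_smul b 1
    rw [mul_one] at this
    exact this
  refine ⟨h.zt sc c hc (h.epM sc 1), fun e => ?_, ?_, fun b => ⟨σ b, ?_⟩⟩
  · have h3 := (h.zt sc c hc).map_eq_zero_iff.1 e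
    exact one_ne_zero (h.epM_inj sc (h3.trans (map_zero _).symm))
  · have h3 : E.g (h.epM sc 1) (h.epM sc 1) = 0 := by
      have h4 := E.g_ε (h.epM sc 1) 1
      have h5 : (h.uni sc f).B (h.epM sc 1) = 0 := (h.uni sc f).Bε 1
      rw [h5, zero_mul] at h4
      exact h4
    rw [h2, h3, map_zero, smul_zero]
  · rw [← h.zt_pr sc hc (h.E_le 0 b), h.prM_E, hε, h1]

/-- `N_G(R) = C_G(R) N_{N_G(R)}(e)` -/
theorem zt_conj (E : (h.uni sc f).Herm) {c : G} (hc : c ∈ normalizer (R : Set G)) :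
    ∃ d ∈ centralizer (R : Set G), ∀ b : F, ∃ b' : F,
      h.prM sc (d⁻¹ * c * v 0 b 0 * (d⁻¹ * c)⁻¹) = h.epM sc b' := by
  obtain ⟨g, hg, hge⟩ := (h.zt_norm sc f E hc).e
  obtain ⟨d, hd⟩ := hg
  refine ⟨d, hd.1, fun b => ?_⟩
  obtain ⟨b', hb'⟩ := hge b
  refine ⟨b', ?_⟩
  have hb'' : h.zt sc c hc (h.epM sc b) = g (h.epM sc b') := hb'
  have h1 : g (h.prM sc (d⁻¹ * c * v 0 b 0 * (d⁻¹ * c)⁻¹)) = g (h.epM sc b') := by
    rw [← hb'', ← h.prM_E sc 0 b, h.zt_pr sc hc (h.E_le 0 b), hd.2 _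
      (h.nor _ (mul_mem (inv_mem (h.CR_le_NR hd.1)) hc) _ (h.E_le 0 b))]
    congr 1
    group
  exact g.injective h1

end GIn

end Cfsg.Agent.Omega.NOne.SU

end

section


/-!
# Sylow's theorem in a normal subgroup

`exists_conj_le` : if `S ≤ N` is Sylow in `G`, `C` is normal in `N` and `D ≤ C` is a 2-group, then `D` is
conjugate under `C` to a subgroup of `S`.
-/

set_option autoImplicit false

open Subgroup

namespace Cfsg.Agent.Omega.NOne.SU.SylC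

variable {G : Type*} [Group G] [Finite G]

theorem exists_conj_le' (S : Sylow 2 G) {N D : Subgroup G} (hS : (S : Subgroup G) ≤ N) (hD : IsPGroup 2 D)
    (hDN : D ≤ N) : ∃ y ∈ N, ∀ d ∈ D, y * d * y⁻¹ ∈ S := by
  obtain ⟨P, hP⟩ := (hD.comap_subtype (K := N)).exists_le_sylow
  obtain ⟨x, hx⟩ := MulAction.exists_smul_eq N P (S.subtype hS)
  refine ⟨x, x.2, fun d hd => ?_⟩
  have h1 : (⟨d, hDN hd⟩ : N) ∈ P := hP (mem_subgroupOf.2 hd)
  have h3 : x * ⟨d, hDN hd⟩ * x⁻¹ ∈ (S.subtype hS : Subgroup N) := by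
    rw [← hx, Sylow.coe_subgroup_smul]
    exact mem_map.2 ⟨_, h1, rfl⟩
  exact h3

theorem exists_conj_le (S : Sylow 2 G) {C N D : Subgroup G} (hCN : C ≤ N)
    (hnor : ∀ y ∈ N, ∀ x ∈ C, y * x * y⁻¹ ∈ C) (hS : (S : Subgroup G) ≤ N) (hD : IsPGroup 2 D) (hDC : D ≤ C) :
    ∃ x ∈ C, ∀ d ∈ D, x * d * x⁻¹ ∈ S := by
  obtain ⟨P, hP⟩ := (hD.comap_subtype (K := C)).exists_le_sylow
  have hK : IsPGroup 2 ((S : Subgroup G) ⊓ C : Subgroup G) := S.2.to_le inf_le_left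
  obtain ⟨P2, hP2⟩ := (hK.comap_subtype (K := C)).exists_le_sylow
  -- `|P| ≤ |S ⊓ C|`
  have hP1 : IsPGroup 2 ((P : Subgroup C).map C.subtype) := P.2.map _
  obtain ⟨y, hy, hyP⟩ := exists_conj_le' S hS hP1 ((map_subtype_le _).trans hCN)
  have hcard : Nat.card P ≤ Nat.card ((S : Subgroup G) ⊓ C : Subgroup G) := by
    have hm : ∀ z : P, y * ((z : C) : G) * y⁻¹ ∈ ((S : Subgroup G) ⊓ C : Subgroup G) := fun z =>
      ⟨hyP _ (mem_map.2 ⟨(z : C), z.2, rfl⟩), hnor y hy _ (z : C).2⟩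
    apply Nat.card_le_card_of_injective (fun z : P => (⟨_, hm z⟩ : ((S : Subgroup G) ⊓ C : Subgroup G)))
    intro z z' hz
    have h1 := congrArg Subtype.val hz
    exact Subtype.ext (Subtype.ext (mul_left_cancel (mul_right_cancel h1)))
  have hcard2 : Nat.card P = Nat.card P2 := by
    rw [Sylow.card_eq_multiplicity, Sylow.card_eq_multiplicity]
  have hcard3 : Nat.card (((S : Subgroup G) ⊓ C : Subgroup G).subgroupOf C) =
      Nat.card ((S : Subgroup G) ⊓ C : Subgroup G) :=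
    Nat.card_congr (subgroupOfEquivOfLe inf_le_right).toEquiv
  have heq : ((S : Subgroup G) ⊓ C : Subgroup G).subgroupOf C = (P2 : Subgroup C) := by
    apply eq_of_le_of_card_ge hP2
    have : Nat.card (P2 : Subgroup C) = Nat.card P := hcard2.symm
    rw [this]
    exact hcard.trans hcard3.symm.le
  obtain ⟨x, hx⟩ := MulAction.exists_smul_eq C P P2
  refine ⟨x, x.2, fun d hd => ?_⟩
  have h1 : (⟨d, hDC hd⟩ : C) ∈ P := hP (mem_subgroupOf.2 hd)
  have h3 : x * ⟨d, hDC hd⟩ * x⁻¹ ∈ (P2 : Subgroup C) := by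
    rw [← hx, Sylow.coe_subgroup_smul]
    exact mem_map.2 ⟨_, h1, rfl⟩
  rw [← heq, mem_subgroupOf] at h3
  exact h3.1

end Cfsg.Agent.Omega.NOne.SU.SylC

end

section


/-!
# THEOREM UNI: `GIn`, `Fld` ⟹ `Out`

`GIn.exists_Out` : the output of THEOREM UNI at the level of the group.  The field `pt` comes from
`zt_pt` if `Φ ≠ 0`; for `Φ = 0` it is `pt0`: by Sylow's theorem in `C_G(R)` some conjugate `x c V c⁻¹ x⁻¹`
(`x ∈ C_G(R)`) lies in `S`, so acts on `E/R` as a group of order `≤ 2 < q`, hence `(x c)⁻¹ E (x c) ≤ C_Q(V) = E`.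
-/

set_option autoImplicit false
set_option linter.unusedSectionVars false

open Subgroup

namespace Cfsg.Agent.Omega.NOne.SU

variable {G : Type*} [Group G] {k F : Type*} [Field k] [Field F] [Algebra k F]

namespace GIn

variable {T : Quad k F} {S : Sylow 2 G} {V R Q Q' : Subgroup G} {v : k → F → k → G} {p p' : G → F}
variable (h : GIn T S V R Q Q' v p p') (sc : Scal h.sp.form)
variable {Φ : Type*} [AddCommGroup Φ] [Module F Φ] {φ χ : G → Φ} (f : Fld T V R Q Q' v p φ χ)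

theorem V_two (h : GIn T S V R Q Q' v p p') : IsPGroup 2 V := by
  intro x
  refine ⟨1, Subtype.ext ?_⟩
  obtain ⟨a, b, d, hx⟩ := h.v_surj x x.2
  simp only [SubmonoidClass.coe_pow, OneMemClass.coe_one, pow_one]
  rw [pow_two, ← hx, h.v_sq]

include h f in
/-- **`Φ = 0`**: `N_G(R) = C_G(R) N_{N_G(R)}(E)` -/
theorem pt0 [Finite G] [Subsingleton Φ] {c : G} (hc : c ∈ normalizer (R : Set G)) :
    ∃ x ∈ centralizer (R : Set G), ∀ a b, ∃ a' b', (x * c) * v a b 0 * (x * c)⁻¹ = v a' b' 0 := by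
  classical
  -- `c V c⁻¹ ≤ C(R)`
  obtain ⟨x, hx, hxS⟩ := SylC.exists_conj_le S (C := centralizer (R : Set G)) (N := normalizer (R : Set G))
    (D := V.map (MulAut.conj c).toMonoidHom) h.CR_le_NR (fun y hy x hx => CR_conj hy hx) h.S_R
    (h.V_two.map _) (by
      rintro _ ⟨w, hw, rfl⟩
      exact CR_conj hc (h.CV_le_CR (h.V_le_CV hw)))
  refine ⟨x, hx, ?_⟩
  set y := x * c with hy
  have hyR : y ∈ normalizer (R : Set G) := mul_mem (h.CR_le_NR hx) hc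
  have hyS : ∀ w ∈ V, y * w * y⁻¹ ∈ S := by
    intro w hw
    have := hxS (c * w * c⁻¹) (mem_map.2 ⟨w, hw, rfl⟩)
    have e : x * (c * w * c⁻¹) * x⁻¹ = y * w * y⁻¹ := by rw [hy]; group
    rwa [e] at this
  have hyC : ∀ w ∈ V, y * w * y⁻¹ ∈ centralizer (R : Set G) := fun w hw =>
    CR_conj hyR (h.CV_le_CR (h.V_le_CV hw))
  -- a nontrivial `d` with `y v 0 0 d y⁻¹` trivial on `E/R`
  obtain ⟨d, hd0, hd⟩ : ∃ d : k, d ≠ 0 ∧
      ∀ b, ∃ a, (y * v 0 0 d * y⁻¹) * v 0 b 0 * (y * v 0 0 d * y⁻¹)⁻¹ = v a b 0 := by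
    obtain ⟨s, hs0, hs1⟩ := exists_s T
    rcases h.S_2 _ (hyS _ (h.v_mem 0 0 1)) (hyC _ (h.v_mem 0 0 1)) _ (hyS _ (h.v_mem 0 0 s))
      (hyC _ (h.v_mem 0 0 s)) with h1 | h1 | h1
    · exact ⟨1, one_ne_zero, h1⟩
    · exact ⟨s, hs0, h1⟩
    · refine ⟨1 + s, ?_, ?_⟩
      · intro h3
        apply hs1
        have h4 := T.add_selfk (h2 := h.h2) (1 : k)
        calc s = (1 + 1) + s := by rw [h4, zero_add]
          _ = 1 + (1 + s) := by ring
          _ = 1 := by rw [h3, add_zero]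
      · have e : y * v 0 0 1 * y⁻¹ * (y * v 0 0 s * y⁻¹) = y * v 0 0 (1 + s) * y⁻¹ := by
          have h3 : v 0 0 (1 + s) = v 0 0 1 * v 0 0 s := by rw [← h.v_add, add_zero, add_zero]
          rw [h3]; group
        rw [e] at h1
        exact h1
  -- `y⁻¹ E y ≤ C_Q(V) = E`
  have key : ∀ a b, ∃ a' b', y⁻¹ * v a b 0 * y = v a' b' 0 := by
    intro a b
    have hq : y⁻¹ * v a b 0 * y ∈ Q := h.nor_inv hyR (h.E_le a b)
    obtain ⟨a1, ha1⟩ := hd b
    have h1 : v a b 0 = v a 0 0 * v 0 b 0 := by rw [← h.v_add, add_zero, zero_add, add_zero]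
    -- `[v 0 0 d, y⁻¹ e y] ∈ R`
    have h3 : (y * v 0 0 d * y⁻¹) * v a b 0 * (y * v 0 0 d * y⁻¹)⁻¹ * (v a b 0)⁻¹ ∈ R := by
      have h4 := h.CR_v (hyC _ (h.v_mem 0 0 d)) a
      have e : (y * v 0 0 d * y⁻¹) * (v a 0 0 * v 0 b 0) * (y * v 0 0 d * y⁻¹)⁻¹ =
          ((y * v 0 0 d * y⁻¹) * v a 0 0 * (y * v 0 0 d * y⁻¹)⁻¹) *
          ((y * v 0 0 d * y⁻¹) * v 0 b 0 * (y * v 0 0 d * y⁻¹)⁻¹) := by group
      rw [h1, e, h4, ha1, ← h.v_add, ← h.v_add, h.v_inv, ← h.v_add]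
      refine h.mem_R.2 ⟨a + a1 + a, ?_⟩
      simp only [add_zero, zero_add, T.add_self (h2 := h.h2)]
    have h5 : v 0 0 d * (y⁻¹ * v a b 0 * y) * (v 0 0 d)⁻¹ * (y⁻¹ * v a b 0 * y)⁻¹ ∈ R := by
      have h6 := (mem_normalizer_iff.1 (inv_mem hyR) _).1 h3
      have e : y⁻¹ * ((y * v 0 0 d * y⁻¹) * v a b 0 * (y * v 0 0 d * y⁻¹)⁻¹ * (v a b 0)⁻¹) * y⁻¹⁻¹ =
          v 0 0 d * (y⁻¹ * v a b 0 * y) * (v 0 0 d)⁻¹ * (y⁻¹ * v a b 0 * y)⁻¹ := by group
      rwa [e] at h6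
    obtain ⟨a2, ha2⟩ := h.comm_V 0 0 d hq
    rw [ha2] at h5
    obtain ⟨a3, ha3⟩ := h.mem_R.1 h5
    have h7 := (h.v_eq ha3).2.1
    have h8 : p (y⁻¹ * v a b 0 * y) = 0 := by
      rcases mul_eq_zero.1 h7 with h9 | h9
      · exact h9
      · exact absurd ((map_eq_zero _).1 h9) hd0
    exact (f.φ_ker _ hq ((h.p_eq_zero hq).1 h8)).1 (Subsingleton.elim _ _)
  -- finiteness
  have := T.finF
  have := T.fink
  let f1 : k × F → k × F := fun x => ((key x.1 x.2).choose, (key x.1 x.2).choose_spec.choose)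
  have hf1 : ∀ x : k × F, y⁻¹ * v x.1 x.2 0 * y = v (f1 x).1 (f1 x).2 0 := fun x =>
    (key x.1 x.2).choose_spec.choose_spec
  have hinj : Function.Injective f1 := by
    intro x x' hxx
    have h1 := hf1 x
    rw [hxx, ← hf1 x'] at h1
    have h3 := h.v_eq (mul_left_cancel (mul_right_cancel h1))
    exact Prod.ext h3.1 h3.2.1
  have hsurj := Finite.surjective_of_injective hinj
  intro a b
  obtain ⟨z, hz⟩ := hsurj (a, b)
  refine ⟨z.1, z.2, ?_⟩
  have h1 := hf1 z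
  rw [hz] at h1
  rw [← h1]; group

variable [Module k Φ] [IsScalarTower k F Φ] [Finite G] [Module F (h.M sc)] (D : (h.uni sc f).Herm)

include D in
/-- the field `pt` of `Out` -/
theorem pt_of {c : G} (hc : c ∈ normalizer (R : Set G)) :
    ∃ m : h.M sc, m ≠ 0 ∧ D.g m m = 0 ∧ ∀ b : F, ∃ s : F, h.prM sc (c * v 0 b 0 * c⁻¹) = s • m := by
  rcases subsingleton_or_nontrivial Φ with hΦ | hΦ
  · obtain ⟨x, hx, hE⟩ := h.pt0 f hc
    have hxi : x⁻¹ ∈ centralizer (R : Set G) := inv_mem hx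
    obtain ⟨h', ht, hl, h1, -⟩ := D.conj _ (ind_linC (h := h) (sc := sc) x⁻¹ hxi).mem
    have hsm : ∀ (s : F) m, h' (s • m) = s • h' m := hl
    have hf : ∀ m m', h.fM sc (h' m) (h' m') = h.fM sc m m' :=
      fun m m' => isom ((h.uni sc f).HT_le ht) m m'
    refine ⟨h' (h.epM sc 1), ?_, ?_, fun b => ?_⟩
    · intro e
      have h3 : h.epM sc 1 = 0 := h'.injective (e.trans (map_zero h').symm)
      exact one_ne_zero (h.epM_inj sc (h3.trans (map_zero _).symm))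
    · have h3 : D.g (h' (h.epM sc 1)) (h' (h.epM sc 1)) = D.g (h.epM sc 1) (h.epM sc 1) :=
        D.isom h' hsm hf _ _
      rw [h3, OC.g_ee]
    · obtain ⟨a', b', hab⟩ := hE 0 b
      obtain ⟨c', hc'⟩ := h1 b'
      refine ⟨c', ?_⟩
      have h4 : c * v 0 b 0 * c⁻¹ = x⁻¹ * v a' b' 0 * x⁻¹⁻¹ := by rw [← hab]; group
      have h5 : h.prM sc (c * v 0 b 0 * c⁻¹) = h.linC sc x⁻¹ hxi (h.epM sc b') := by
        rw [h4, ← (ind_linC (sc := sc) x⁻¹ hxi).2 _ (h.E_le a' b'), h.prM_E]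
      rw [h5]
      exact hc'.trans ((congrArg h' (OC.ep_eq D c')).trans (hsm c' _))
  · exact h.zt_pt sc f D hc

/-- **THEOREM UNI at the level of the group.** -/
theorem out_of : Out T V R Q Q' v p φ χ (h.hmΦ sc f) (h.prM sc) D.g (OC.f0 D) (OC.iot D) where
  w_mul := fun _ hx _ hy => h.prM_mul sc hx hy
  w_eq := fun _ hx => h.prM_eq_zero sc hx
  w_surj := h.prM_surj sc
  comm := fun _ hx _ hy => OC.comm D hx hy
  g_add := D.add_left
  g_smul := D.smul_left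
  g_sym := D.sym
  w_e := OC.w_e D
  g_ee := by rw [h.prM_E]; exact OC.g_ee D
  g_ef := by rw [h.prM_E]; exact OC.g_ef D
  g_ff := OC.g_ff D
  g_eι := by rw [h.prM_E]; exact OC.g_eiot D
  g_fι := OC.g_fiot D
  g_ιι := OC.g_iotiot D
  span := by rw [h.prM_E]; exact OC.span D
  hm_nondeg := h.hmΦ_nondeg sc f
  p_eq := fun _ hy => OC.p_eq D hy
  φ_eq := fun _ hy hyV => OC.φ_eq D hy hyV
  χ_act := fun _ hn hnV => OC.chi_act D hn hnV
  ker := fun _ hc hk => h.ker_NR hc hk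
  tran := by
    intro m hm0 hm
    obtain ⟨h', ht, hl, c, hc, he⟩ := D.pt m hm hm0
    obtain ⟨x, hx⟩ := (h.uni sc f).HT_le ht
    have hsm : ∀ (s : F) m, h' (s • m) = s • h' m := hl
    refine ⟨x, hx.1, ?_, ?_, c⁻¹, ?_⟩
    · intro s a ha b hb hab
      rw [← hx.2 b hb, ← hx.2 a ha, hab]
      exact hsm s _
    · intro a ha b hb
      rw [← hx.2 b hb, ← hx.2 a ha]
      exact D.isom h' hsm (fun m m' => isom hx.mem m m') _ _
    · rw [← hx.2 _ (h.E_le 0 1), h.prM_E]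
      have h1 : h' (h.epM sc c) = m := he
      have h2 : h.epM sc 1 = c⁻¹ • h.epM sc c := by
        rw [OC.ep_eq D c, smul_smul, inv_mul_cancel₀ hc, one_smul]
      rw [h2]
      exact (hsm _ _).trans (congrArg (fun z => c⁻¹ • z) h1)
  stab := by
    intro c hc ⟨s, hs⟩
    obtain ⟨m, hm0, -, hm⟩ := h.pt_of sc f D hc
    apply h.normalizes_V' sc hc
    obtain ⟨s1, hs1⟩ := hm 1
    -- `m ∈ F e₀`
    have h1 : s1 ≠ 0 := by
      intro h2
      rw [h2, zero_smul, h.prM_eq_zero sc (h.nor c hc _ (h.E_le 0 1))] at hs1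
      have h3 := (mem_normalizer_iff.1 hc _).2 hs1
      obtain ⟨a, ha⟩ := h.mem_R.1 h3
      exact one_ne_zero (h.v_eq ha).2.1
    have h2 : m = (s1⁻¹ * s) • h.epM sc 1 := by
      rw [hs1, h.prM_E] at hs
      rw [mul_smul, ← hs, smul_smul, inv_mul_cancel₀ h1, one_smul]
    intro a b
    obtain ⟨s2, hs2⟩ := hm b
    have hv : v a b 0 = v a 0 0 * v 0 b 0 := by rw [← h.v_add, add_zero, zero_add, add_zero]
    have h3 : h.prM sc (c * v a b 0 * c⁻¹) = h.epM sc (s2 * (s1⁻¹ * s)) := by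
      have e : c * v a b 0 * c⁻¹ = (c * v a 0 0 * c⁻¹) * (c * v 0 b 0 * c⁻¹) := by rw [hv]; group
      have h4 := h.nor c hc _ (h.E_le a 0)
      rw [e, h.prM_mul sc h4 (h.nor c hc _ (h.E_le 0 b)), hs2, h2, smul_smul, ← OC.ep_eq D,
        (h.prM_eq_zero sc h4).2 ((mem_normalizer_iff.1 hc _).1 (h.mem_R.2 ⟨a, rfl⟩)), zero_add]
    rw [← h.prM_E sc 0, h.prM_eq sc (h.nor c hc _ (h.E_le a b)) (h.E_le _ _)] at h3
    obtain ⟨a3, ha3⟩ := h.mem_R.1 h3
    refine ⟨a3, s2 * (s1⁻¹ * s), ?_⟩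
    have e : c * v a b 0 * c⁻¹ = c * v a b 0 * c⁻¹ * (v 0 (s2 * (s1⁻¹ * s)) 0)⁻¹ * v 0 (s2 * (s1⁻¹ * s)) 0 := by
      group
    rw [e, ha3, ← h.v_add, add_zero, zero_add, add_zero]
  pt := fun _ hc => h.pt_of sc f D hc
  rad := by
    intro c hc h1 h2 h3
    apply h.rad_prM sc f hc h1
    · intro x hx hp
      rw [OC.p_eq D hx] at hp
      exact h2 x hx hp
    · intro x hx
      rw [OC.p_eq D hx, OC.p_eq D (h.nor c (h.CR_le_NR hc) x hx)]
      exact h3 x hx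

end GIn

/-- **THEOREM UNI at the level of the group**, existence form -/
theorem GIn.exists_Out.{u} {G : Type u} [Group G] [Finite G] {k F : Type*} [Field k] [Field F] [Algebra k F]
    {T : Quad k F} {S : Sylow 2 G} {V R Q Q' : Subgroup G} {v : k → F → k → G} {p p' : G → F}
    {Φ : Type*} [AddCommGroup Φ] [Module F Φ] [Module k Φ] [IsScalarTower k F Φ]
    {φ χ : G → Φ} (h : GIn T S V R Q Q' v p p') (f : Fld T V R Q Q' v p φ χ) :
    ∃ (W : Type u) (_ : AddCommGroup W) (_ : Module F W) (w : G → W) (g : W → W → F) (f₀ : W)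
      (ι : Φ →ₗ[F] W) (hm : Φ → Φ → F), Out T V R Q Q' v p φ χ hm w g f₀ ι := by
  have : CharP k 2 := CharTwo.of_one_ne_zero_of_two_eq_zero one_ne_zero h.h2
  have := h.finiteM (h.scal f)
  obtain ⟨_, ⟨D⟩⟩ := (h.uni (h.scal f) f).exists_herm
  exact ⟨_, _, _, _, _, _, _, _, h.out_of (h.scal f) f D⟩

end Cfsg.Agent.Omega.NOne.SU

end
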