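import Cfsg.Agent.Mrg.Omega.NOne.SU.Grp1

section


/-!
# THEOREM UNI, group part 3: `W` as a `k`-space, the group `H`, `N_K(E) = N_K(V)`

`K = C_G(R)`.
-/

set_option autoImplicit false
set_option linter.unusedSectionVars false

open Subgroup

namespace Cfsg.Agent.Omega.NOne.SU

variable {G : Type*} [Group G] {k F : Type*} [Field k] [Field F] [Algebra k F]

namespace GIn

variable {T : Quad k F} {S : Sylow 2 G} {V R Q Q' : Subgroup G} {v : k → F → k → G} {p p' : G → F}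

/-- the space `W = Q/R`, as a type which remembers that the scalars act -/
def M (h : GIn T S V R Q Q' v p p') (_sc : Scal h.sp.form) : Type _ := h.sp.W

noncomputable instance (h : GIn T S V R Q Q' v p p') (sc : Scal h.sp.form) : AddCommGroup (h.M sc) :=
  inferInstanceAs (AddCommGroup h.sp.W)

noncomputable instance (h : GIn T S V R Q Q' v p p') (sc : Scal h.sp.form) : Module k (h.M sc) :=
  sc.module

variable (h : GIn T S V R Q Q' v p p') (sc : Scal h.sp.form)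

/-- the projection `Q → M` -/
noncomputable def prM (x : G) : h.M sc := h.sp.pr x

theorem prM_mul {x y : G} (hx : x ∈ Q) (hy : y ∈ Q) : h.prM sc (x * y) = h.prM sc x + h.prM sc y :=
  h.sp.pr_mul hx hy

theorem prM_surj (w : h.M sc) : ∃ x ∈ Q, h.prM sc x = w := h.sp.pr_surj w

theorem prM_eq_zero {x : G} (hx : x ∈ Q) : h.prM sc x = 0 ↔ x ∈ R := h.sp.pr_eq_zero hx

theorem prM_inv {x : G} (hx : x ∈ Q) : h.prM sc x⁻¹ = h.prM sc x := by
  have h1 : h.sp.pr x⁻¹ = h.sp.pr x := by rw [h.sp.pr_inv hx, h.sp.neg_eq]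
  exact h1

theorem prM_eq {x y : G} (hx : x ∈ Q) (hy : y ∈ Q) : h.prM sc x = h.prM sc y ↔ x * y⁻¹ ∈ R := h.sp.pr_eq hx hy

theorem M_add_self (w : h.M sc) : w + w = 0 := h.sp.add_self w

theorem M_sub_eq (w w' : h.M sc) : w - w' = w + w' := h.sp.sub_eq w w'

theorem prM_one : h.prM sc 1 = 0 := h.sp.pr_one

/-- the form on `M` -/
noncomputable def fM : h.M sc →ₗ[k] h.M sc →ₗ[k] k := sc.bil

theorem fM_pr {x y : G} (hx : x ∈ Q) (hy : y ∈ Q) :
    h.fM sc (h.prM sc x) (h.prM sc y) = h.sp.co (x * y * x⁻¹ * y⁻¹) := h.sp.form_pr hx hy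

theorem fM_alt (w : h.M sc) : h.fM sc w w = 0 := h.sp.form_alt w

theorem fM_symm (w w' : h.M sc) : h.fM sc w w' = h.fM sc w' w := h.sp.form_symm w w'

theorem fM_nondeg (w : h.M sc) (H : ∀ w', h.fM sc w w' = 0) : w = 0 := h.sp.form_nondeg w H

theorem finiteM [Finite G] : Finite (h.M sc) := h.sp.finite

/-- `ε : F → M` -/
noncomputable def epM : F →ₗ[k] h.M sc where
  toFun := h.ep
  map_add' := h.ep_add
  map_smul' := fun a b => sc.ext fun y => by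
    show h.sp.form (h.ep (a • b)) y = h.sp.form (sc.sm a (h.ep b)) y
    rw [sc.f_sm, h.form_ep, h.form_ep, Algebra.smul_def, mul_assoc, mul_comm (algebraMap k F a),
      T.tr_mul_alg, mul_comm]

theorem epM_inj : Function.Injective (h.epM sc) := h.ep_inj

theorem prM_E (a : k) (b : F) : h.prM sc (v a b 0) = h.epM sc b := h.pr_E a b

theorem Bm_sm (a : k) (w : h.sp.W) : h.Bm (sc.sm a w) = a • h.Bm w := by
  have h1 : T.sg (h.Bm (sc.sm a w)) = algebraMap k F a * T.sg (h.Bm w) := by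
    apply T.eq_of_tr h.h2
    intro b
    have h3 := h.form_ep b (sc.sm a w)
    have h4 : h.sp.form (h.ep b) (sc.sm a w) = a * h.sp.form (h.ep b) w := sc.f_smul_right a _ _
    rw [mul_comm, ← h3, h4, h.form_ep]
    have e : algebraMap k F a * T.sg (h.Bm w) * b = b * T.sg (h.Bm w) * algebraMap k F a := by ring
    rw [e, T.tr_mul_alg, mul_comm]
  have h5 := congrArg T.sg h1
  rw [T.sg_sg, map_mul, T.sg_sg, T.sg_alg] at h5
  rw [h5, Algebra.smul_def]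

/-- `B : M → F` -/
noncomputable def BM : h.M sc →ₗ[k] F where
  toFun := h.Bm
  map_add' := h.Bm_add
  map_smul' := fun a w => h.Bm_sm sc a w

theorem BM_pr {x : G} (hx : x ∈ Q) : h.BM sc (h.prM sc x) = p x := h.Bm_pr hx

theorem BM_surj (l : F) : ∃ w, h.BM sc w = l := h.Bm_surj l

theorem fM_ep (b : F) (w : h.M sc) : h.fM sc (h.epM sc b) w = T.tr (b * T.sg (h.BM sc w)) := h.form_ep b w

/-- conjugation as a linear map -/
noncomputable def lin (c : G) (hc : c ∈ normalizer (R : Set G)) (s : k)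
    (hs : ∀ a, c * v a 0 0 * c⁻¹ = v (s * a) 0 0) : h.M sc ≃ₗ[k] h.M sc where
  toFun := h.cj c
  invFun := h.cj c⁻¹
  left_inv := h.cj_inv_cj hc
  right_inv := h.cj_cj_inv hc
  map_add' := h.cj_add hc
  map_smul' := fun a w => sc.map_smul_of (c := s)
    (fun w => ⟨h.cj c⁻¹ w, h.cj_cj_inv hc w⟩) (h.form_cj' hc hs) a w

theorem lin_pr (c : G) (hc : c ∈ normalizer (R : Set G)) (s : k)
    (hs : ∀ a, c * v a 0 0 * c⁻¹ = v (s * a) 0 0) {x : G} (hx : x ∈ Q) :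
    h.lin sc c hc s hs (h.prM sc x) = h.prM sc (c * x * c⁻¹) := h.cj_pr hc hx

theorem lin_f (c : G) (hc : c ∈ normalizer (R : Set G)) (s : k)
    (hs : ∀ a, c * v a 0 0 * c⁻¹ = v (s * a) 0 0) (w w' : h.M sc) :
    h.fM sc (h.lin sc c hc s hs w) (h.lin sc c hc s hs w') = s * h.fM sc w w' := h.form_cj' hc hs w w'

/-- the action of an element of `K = C_G(R)` -/
noncomputable def linC (c : G) (hc : c ∈ centralizer (R : Set G)) : h.M sc ≃ₗ[k] h.M sc :=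
  h.lin sc c (h.CR_le_NR hc) 1 (fun a => by rw [one_mul]; exact h.CR_v hc a)

/-- `g` is induced by `c ∈ K = C_G(R)`. -/
def Ind (g : h.M sc ≃ₗ[k] h.M sc) (c : G) : Prop :=
  c ∈ centralizer (R : Set G) ∧ ∀ x ∈ Q, g (h.prM sc x) = h.prM sc (c * x * c⁻¹)

variable {h sc}

theorem ind_linC (c : G) (hc : c ∈ centralizer (R : Set G)) : h.Ind sc (h.linC sc c hc) c :=
  ⟨hc, fun _ hx => h.lin_pr sc _ _ _ _ hx⟩

theorem ind_one : h.Ind sc 1 1 := ⟨one_mem _, fun x _ => by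
  have e : 1 * x * 1⁻¹ = x := by group
  rw [e]; rfl⟩

theorem Ind.mul {g g' : h.M sc ≃ₗ[k] h.M sc} {c c' : G} (hg : h.Ind sc g c) (hg' : h.Ind sc g' c') :
    h.Ind sc (g * g') (c * c') := by
  refine ⟨mul_mem hg.1 hg'.1, fun x hx => ?_⟩
  show g (g' _) = _
  rw [hg'.2 x hx, hg.2 _ (h.nor c' (h.CR_le_NR hg'.1) x hx)]
  congr 1
  group

theorem Ind.inv {g : h.M sc ≃ₗ[k] h.M sc} {c : G} (hg : h.Ind sc g c) : h.Ind sc g⁻¹ c⁻¹ := by
  refine ⟨inv_mem hg.1, fun x hx => ?_⟩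
  show g.symm _ = _
  rw [LinearEquiv.symm_apply_eq, hg.2 _ (h.nor c⁻¹ (inv_mem (h.CR_le_NR hg.1)) x hx)]
  congr 1
  group

theorem Ind.ext {g g' : h.M sc ≃ₗ[k] h.M sc} {c : G} (hg : h.Ind sc g c) (hg' : h.Ind sc g' c) : g = g' := by
  apply LinearEquiv.ext
  intro w
  obtain ⟨x, hx, rfl⟩ := h.prM_surj sc w
  rw [hg.2 x hx, hg'.2 x hx]

variable (h sc)

/-- the image of `K` -/
noncomputable def H : Subgroup (h.M sc ≃ₗ[k] h.M sc) where
  carrier := {g | ∃ c, h.Ind sc g c}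
  one_mem' := ⟨1, ind_one⟩
  mul_mem' := fun {g g'} hg hg' => by
    obtain ⟨c, hc⟩ := hg
    obtain ⟨c', hc'⟩ := hg'
    exact ⟨c * c', hc.mul hc'⟩
  inv_mem' := fun {g} hg => by
    obtain ⟨c, hc⟩ := hg
    exact ⟨c⁻¹, hc.inv⟩

variable {h sc}

theorem Ind.mem {g : h.M sc ≃ₗ[k] h.M sc} {c : G} (hg : h.Ind sc g c) : g ∈ h.H sc := ⟨c, hg⟩

theorem isom {g : h.M sc ≃ₗ[k] h.M sc} (hg : g ∈ h.H sc) (w w' : h.M sc) :
    h.fM sc (g w) (g w') = h.fM sc w w' := by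
  obtain ⟨c, hc⟩ := hg
  have e := hc.ext (ind_linC c hc.1)
  rw [e]
  have := h.lin_f sc c (h.CR_le_NR hc.1) 1 (fun a => by rw [one_mul]; exact h.CR_v hc.1 a) w w'
  rw [one_mul] at this
  exact this

variable (h)

/-! ### the kernel of `K` on `W` -/

include h

/-- `c ∈ K` acts trivially on `W = Q/R` -/
theorem mem_Q_of_trivial [Finite G] {c : G} (hc : c ∈ centralizer (R : Set G))
    (ht : ∀ y ∈ Q, c * y * c⁻¹ * y⁻¹ ∈ R) : c ∈ Q := by
  let N : Subgroup G :=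
    { carrier := {c | c ∈ centralizer (R : Set G) ∧ ∀ y ∈ Q, c * y * c⁻¹ * y⁻¹ ∈ R}
      one_mem' := ⟨one_mem _, fun y _ => by
        have e : 1 * y * 1⁻¹ * y⁻¹ = 1 := by group
        rw [e]; exact one_mem _⟩
      mul_mem' := fun {a b} ha hb => ⟨mul_mem ha.1 hb.1, fun y hy => by
        have h1 := hb.2 y hy
        have h3 := ha.2 y hy
        have h4 : a * (b * y * b⁻¹ * y⁻¹) * a⁻¹ = b * y * b⁻¹ * y⁻¹ := by
          rw [← (mem_centralizer_iff.1 ha.1) _ h1, mul_inv_cancel_right]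
        have e : a * b * y * (a * b)⁻¹ * y⁻¹ = a * (b * y * b⁻¹ * y⁻¹) * a⁻¹ * (a * y * a⁻¹ * y⁻¹) := by group
        rw [e, h4]
        exact mul_mem h1 h3⟩
      inv_mem' := fun {a} ha => ⟨inv_mem ha.1, fun y hy => by
        have h1 := ha.2 _ (h.nor a⁻¹ (inv_mem (h.CR_le_NR ha.1)) y hy)
        have e : a⁻¹ * y * a⁻¹⁻¹ * y⁻¹ = (a * (a⁻¹ * y * a⁻¹⁻¹) * a⁻¹ * (a⁻¹ * y * a⁻¹⁻¹)⁻¹)⁻¹ := by group
        rw [e]
        exact inv_mem h1⟩ }
  have hNQ : N ≤ Q := by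
    refine h.max N ?_ (fun x hx => hx.1) ?_
    · intro x
      have hx : (x : G) ^ 2 ∈ Q := by
        apply h.char2
        rw [mem_centralizer_iff]
        intro y hy
        have h1 := x.2.2 y hy
        set r := (x : G) * y * (x : G)⁻¹ * y⁻¹ with hr
        have h3 : (x : G) * y * (x : G)⁻¹ = r * y := by rw [hr]; group
        have h4 : (x : G) * r * (x : G)⁻¹ = r := by
          rw [← (mem_centralizer_iff.1 x.2.1) _ h1, mul_inv_cancel_right]
        have h5 : (x : G) ^ 2 * y * ((x : G) ^ 2)⁻¹ = y := by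
          calc (x : G) ^ 2 * y * ((x : G) ^ 2)⁻¹ = x * (x * y * (x : G)⁻¹) * (x : G)⁻¹ := by rw [pow_two]; group
            _ = x * (r * y) * (x : G)⁻¹ := by rw [h3]
            _ = (x * r * (x : G)⁻¹) * (x * y * (x : G)⁻¹) := by group
            _ = (r * r) * y := by rw [h4, h3]; group
            _ = y := by rw [h.sp.r_sq h1, one_mul]
        calc y * (x : G) ^ 2 = ((x : G) ^ 2 * y * ((x : G) ^ 2)⁻¹) * (x : G) ^ 2 := by rw [h5]
          _ = (x : G) ^ 2 * y := by group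
      obtain ⟨m, hm⟩ := h.Q_two ⟨(x : G) ^ 2, hx⟩
      refine ⟨m + 1, Subtype.ext ?_⟩
      have h1 := congrArg Subtype.val hm
      simp only [SubmonoidClass.coe_pow, OneMemClass.coe_one] at h1 ⊢
      rw [← h1, ← pow_mul, pow_succ, mul_comm]
    · intro d hd x hx
      refine ⟨mul_mem (mul_mem hd hx.1) (inv_mem hd), fun y hy => ?_⟩
      have h1 := hx.2 _ (h.nor_inv (h.CR_le_NR hd) hy)
      have h3 : d * (x * (d⁻¹ * y * d) * x⁻¹ * (d⁻¹ * y * d)⁻¹) * d⁻¹ ∈ R :=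
        (mem_normalizer_iff.1 (h.CR_le_NR hd) _).1 h1
      have e : d * (x * (d⁻¹ * y * d) * x⁻¹ * (d⁻¹ * y * d)⁻¹) * d⁻¹ =
          d * x * d⁻¹ * y * (d * x * d⁻¹)⁻¹ * y⁻¹ := by group
      rwa [e] at h3
  exact hNQ ⟨hc, ht⟩

/-- `cj c` trivial on `W` -/
theorem mem_Q_of_cj [Finite G] {c : G} (hc : c ∈ centralizer (R : Set G)) (ht : ∀ w, h.cj c w = w) : c ∈ Q := by
  apply h.mem_Q_of_trivial hc
  intro y hy
  have h1 := ht (h.sp.pr y)
  rwa [h.cj_pr (h.CR_le_NR hc) hy, h.sp.pr_eq (h.nor c (h.CR_le_NR hc) y hy) hy] at h1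

theorem cj_of_mem_Q {c : G} (hc : c ∈ Q) (w : h.sp.W) : h.cj c w = w := by
  obtain ⟨y, hy, rfl⟩ := h.sp.pr_surj w
  rw [h.cj_pr (h.CR_le_NR (h.Q_le_CR hc)) hy,
    h.sp.pr_eq (h.nor c (h.CR_le_NR (h.Q_le_CR hc)) y hy) hy]
  exact h.sp.comm c hc y hy

/-- the action of `v a b d` on `W` -/
theorem cj_V (a : k) (b : F) (d : k) (w : h.sp.W) : h.cj (v a b d) w = w + h.ep (h.Bm w * algebraMap k F d) := by
  obtain ⟨y, hy, rfl⟩ := h.sp.pr_surj w
  have hv : v a b d ∈ centralizer (R : Set G) := h.CV_le_CR (h.V_le_CV (h.v_mem a b d))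
  have h0 := h.nor (v a b d) (h.CR_le_NR hv) y hy
  rw [h.cj_pr (h.CR_le_NR hv) hy, h.Bm_pr hy]
  obtain ⟨a', ha'⟩ := h.comm_V a b d hy
  have h1 : v a b d * y * (v a b d)⁻¹ = v a' (p y * algebraMap k F d) 0 * y := by
    rw [← ha']; group
  rw [h1, h.sp.pr_mul (h.E_le _ _) hy, h.pr_E, add_comm]

/-! ### elements which are trivial on `e^⊥` and map `W` into `e` -/

include sc in
/-- the double centraliser: `C_Q(C_Q(V)) = V ∩ Q` -/
theorem mem_E_of_comm {x : G} (hx : x ∈ Q) (hc : ∀ y ∈ Q, y ∈ centralizer (V : Set G) → x * y = y * x) :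
    ∃ a b, x = v a b 0 := by
  -- the functional `y ↦ f(x, y)` factors through `B`
  have key : ∀ w : h.sp.W, h.Bm w = 0 → h.sp.form (h.sp.pr x) w = 0 := by
    intro w hw
    obtain ⟨y, hy, rfl⟩ := h.sp.pr_surj w
    rw [h.Bm_pr hy] at hw
    rw [h.sp.form_pr hx hy, hc y hy ((h.p_eq_zero hy).1 hw)]
    have e : y * x * x⁻¹ * y⁻¹ = 1 := by group
    rw [e, h.sp.co_one]
  -- `ψ(l) = f(x, w)` for `B w = l`
  let ψ : F → k := fun l => h.sp.form (h.sp.pr x) (h.Bm_surj l).choose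
  have hψ : ∀ w : h.sp.W, ψ (h.Bm w) = h.sp.form (h.sp.pr x) w := by
    intro w
    have h1 := (h.Bm_surj (h.Bm w)).choose_spec
    have h3 := key ((h.Bm_surj (h.Bm w)).choose + w) (by
      rw [h.Bm_add, h1, T.add_self (h2 := h.h2)])
    rw [h.sp.form_add_right] at h3
    have h4 := T.add_selfk (h2 := h.h2) (h.sp.form (h.sp.pr x) w)
    calc ψ (h.Bm w) = ψ (h.Bm w) + (h.sp.form (h.sp.pr x) w + h.sp.form (h.sp.pr x) w) := by rw [h4, add_zero]
      _ = (h.sp.form (h.sp.pr x) (h.Bm_surj (h.Bm w)).choose + h.sp.form (h.sp.pr x) w) +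
          h.sp.form (h.sp.pr x) w := by ring
      _ = _ := by rw [h3, zero_add]
  have hadd : ∀ l m, ψ (l + m) = ψ l + ψ m := by
    intro l m
    obtain ⟨w, rfl⟩ := h.Bm_surj l
    obtain ⟨w', rfl⟩ := h.Bm_surj m
    rw [← h.Bm_add, hψ, hψ, hψ, h.sp.form_add_right]
  have hsm : ∀ (a : k) l, ψ (a • l) = a * ψ l := by
    intro a l
    obtain ⟨w, rfl⟩ := h.Bm_surj l
    have h1 : a • h.Bm w = h.Bm (sc.sm a w) := (h.Bm_sm sc a w).symm
    rw [h1, hψ, hψ]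
    exact sc.f_smul_right a _ _
  -- Riesz for the trace form
  let L : F →ₗ[k] (F →ₗ[k] k) := LinearMap.mk₂ k (fun b l => T.tr (b * T.sg l))
    (fun b b' l => by rw [add_mul, map_add]) (fun a b l => by
      rw [smul_mul_assoc, map_smul]) (fun b l l' => by rw [map_add, mul_add, map_add])
    (fun a b l => by rw [map_smul, mul_smul_comm, map_smul])
  have hLinj : Function.Injective L := by
    rw [injective_iff_map_eq_zero]
    intro b hb
    apply T.eq_zero_of_tr h.h2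
    intro c
    have := LinearMap.congr_fun hb (T.sg c)
    have e : L b (T.sg c) = T.tr (b * T.sg (T.sg c)) := rfl
    rw [e, T.sg_sg] at this
    exact this
  have hfin := T.finF
  have hfd : FiniteDimensional k F := Module.Finite.of_finite
  have hLsurj : Function.Surjective L := by
    have h1 : Module.finrank k F = Module.finrank k (F →ₗ[k] k) := (Subspace.dual_finrank_eq).symm
    exact (LinearMap.injective_iff_surjective_of_finrank_eq_finrank h1).1 hLinj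
  obtain ⟨b, hb⟩ := hLsurj { toFun := ψ, map_add' := hadd, map_smul' := hsm }
  have hx' : h.sp.pr x = h.ep b := by
    apply sc.ext
    intro w
    have h1 := LinearMap.congr_fun hb (h.Bm w)
    have e : L b (h.Bm w) = T.tr (b * T.sg (h.Bm w)) := rfl
    rw [e] at h1
    rw [h.form_ep, h1, ← hψ]
    rfl
  rw [ep, h.sp.pr_eq hx (h.E_le 0 b)] at hx'
  obtain ⟨a, ha⟩ := h.mem_R.1 hx'
  refine ⟨a, b, ?_⟩
  have h1 : x = x * (v 0 b 0)⁻¹ * v 0 b 0 := by group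
  rw [h1, ha, ← h.v_add, add_zero, zero_add, add_zero]

end GIn

end Cfsg.Agent.Omega.NOne.SU

end

section


/-!
# THEOREM UNI, group part 4: `N_K(E) ≤ N(V)`
-/

set_option autoImplicit false
set_option linter.unusedSectionVars false

open Subgroup

namespace Cfsg.Agent.Omega.NOne.SU

variable {G : Type*} [Group G] {k F : Type*} [Field k] [Field F] [Algebra k F]

namespace GIn

variable {T : Quad k F} {S : Sylow 2 G} {V R Q Q' : Subgroup G} {v : k → F → k → G} {p p' : G → F}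
variable (h : GIn T S V R Q Q' v p p') (sc : Scal h.sp.form)
include h

/-- `C_Q(E) = C_Q(V)` -/
theorem mem_CV_of_comm_E {y : G} (hy : y ∈ Q) (hc : ∀ b, v 0 b 0 * y = y * v 0 b 0) :
    y ∈ centralizer (V : Set G) := by
  rw [← h.p_eq_zero hy]
  have h1 : T.sg (p y) = 0 := by
    apply T.eq_zero_of_tr h.h2
    intro b
    have h3 := h.comm_E 0 b hy
    have h4 : v 0 b 0 * y * (v 0 b 0)⁻¹ * y⁻¹ = 1 := by
      rw [hc]; group
    rw [h4, ← h.v_zero] at h3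
    have h5 := (h.v_eq h3).1
    rw [mul_comm]; exact h5.symm
  exact (map_eq_zero T.sg).1 h1

/-- **LEMMA A.** An element `c` of `K` with `[Q, c] ≤ E` and `[C_Q(V), c] ≤ R` acts on `W` as an element of `V`. -/
theorem act_as_V [Finite G] (sc : Scal h.sp.form) {c : G} (hc : c ∈ centralizer (R : Set G))
    (hE : ∀ y ∈ Q, ∃ a b, c * y * c⁻¹ * y⁻¹ = v a b 0)
    (hB : ∀ x ∈ Q, x ∈ centralizer (V : Set G) → c * x * c⁻¹ * x⁻¹ ∈ R) :
    ∃ d, c * v 0 0 d ∈ Q := by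
  -- `[c, y]` only depends on `p y`
  have hcyQ : ∀ y ∈ Q, c * y * c⁻¹ ∈ Q := fun y hy => h.nor c (h.CR_le_NR hc) y hy
  have hpr : ∀ y ∈ Q, ∀ a b, c * y * c⁻¹ * y⁻¹ = v a b 0 → h.prM sc (c * y * c⁻¹) = h.epM sc b + h.prM sc y := by
    intro y hy a b hab
    have e : c * y * c⁻¹ = v a b 0 * y := by rw [← hab]; group
    rw [e, h.prM_mul sc (h.E_le a b) hy, h.prM_E]
  have hdep : ∀ y ∈ Q, ∀ y' ∈ Q, ∀ a b a' b', p y = p y' → c * y * c⁻¹ * y⁻¹ = v a b 0 →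
      c * y' * c⁻¹ * y'⁻¹ = v a' b' 0 → b = b' := by
    intro y hy y' hy' a b a' b' hp hab hab'
    have hx : y * y'⁻¹ ∈ Q := mul_mem hy (inv_mem hy')
    have hxV : y * y'⁻¹ ∈ centralizer (V : Set G) := by
      rw [← h.p_eq_zero hx, h.p_add y hy _ (inv_mem hy'), h.p_inv hy', hp, T.add_self (h2 := h.h2)]
    have h1 := hB _ hx hxV
    have h3 : h.prM sc (c * (y * y'⁻¹) * c⁻¹) = h.prM sc (y * y'⁻¹) := by
      rw [h.prM_eq sc (hcyQ _ hx) hx]; exact h1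
    have e : c * (y * y'⁻¹) * c⁻¹ = (c * y * c⁻¹) * (c * y' * c⁻¹)⁻¹ := by group
    rw [e, h.prM_mul sc (hcyQ y hy) (inv_mem (hcyQ y' hy')), h.prM_inv sc (hcyQ y' hy'), hpr y hy a b hab,
      hpr y' hy' a' b' hab', h.prM_mul sc hy (inv_mem hy'), h.prM_inv sc hy'] at h3
    have h4 : h.epM sc b = h.epM sc b' := by
      have h5 := h.M_add_self sc (h.epM sc b')
      have h6 : h.epM sc b + h.epM sc b' = 0 := by
        have : h.epM sc b + h.prM sc y + (h.epM sc b' + h.prM sc y') =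
            (h.epM sc b + h.epM sc b') + (h.prM sc y + h.prM sc y') := by abel
        rw [this] at h3
        exact add_eq_right.1 h3
      calc h.epM sc b = h.epM sc b + (h.epM sc b' + h.epM sc b') := by rw [h5, add_zero]
        _ = (h.epM sc b + h.epM sc b') + h.epM sc b' := by abel
        _ = h.epM sc b' := by rw [h6, zero_add]
    exact h.epM_inj sc h4
  -- the map `ψ`
  let yy : F → G := fun l => (h.p_surj l).choose
  have hyQ : ∀ l, yy l ∈ Q := fun l => (h.p_surj l).choose_spec.1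
  have hyp : ∀ l, p (yy l) = l := fun l => (h.p_surj l).choose_spec.2
  let ψ : F → F := fun l => (hE (yy l) (hyQ l)).choose_spec.choose
  have hψ : ∀ l, ∃ a, c * yy l * c⁻¹ * (yy l)⁻¹ = v a (ψ l) 0 := fun l =>
    ⟨(hE (yy l) (hyQ l)).choose, (hE (yy l) (hyQ l)).choose_spec.choose_spec⟩
  have hψ' : ∀ y ∈ Q, ∀ a b, c * y * c⁻¹ * y⁻¹ = v a b 0 → b = ψ (p y) := by
    intro y hy a b hab
    obtain ⟨a', ha'⟩ := hψ (p y)
    exact hdep y hy (yy (p y)) (hyQ _) a b a' _ (hyp _).symm hab ha'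
  have hψpr : ∀ y ∈ Q, h.prM sc (c * y * c⁻¹) = h.epM sc (ψ (p y)) + h.prM sc y := by
    intro y hy
    obtain ⟨a, b, hab⟩ := hE y hy
    rw [hpr y hy a b hab, ← hψ' y hy a b hab]
  have hadd : ∀ l m, ψ (l + m) = ψ l + ψ m := by
    intro l m
    apply h.epM_inj sc
    have h1 := hψpr _ (mul_mem (hyQ l) (hyQ m))
    have e : c * (yy l * yy m) * c⁻¹ = (c * yy l * c⁻¹) * (c * yy m * c⁻¹) := by group
    rw [e, h.prM_mul sc (hcyQ _ (hyQ l)) (hcyQ _ (hyQ m)), hψpr _ (hyQ l), hψpr _ (hyQ m),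
      h.prM_mul sc (hyQ l) (hyQ m), h.p_add _ (hyQ l) _ (hyQ m), hyp, hyp] at h1
    rw [map_add]
    have h3 : h.epM sc (ψ l) + h.prM sc (yy l) + (h.epM sc (ψ m) + h.prM sc (yy m)) =
        (h.epM sc (ψ l) + h.epM sc (ψ m)) + (h.prM sc (yy l) + h.prM sc (yy m)) := by abel
    rw [h3] at h1
    exact (add_right_cancel h1).symm
  -- `k`-linearity
  have hlin : ∀ w : h.M sc, h.linC sc c hc w = h.epM sc (ψ (h.BM sc w)) + w := by
    intro w
    obtain ⟨y, hy, rfl⟩ := h.prM_surj sc w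
    rw [(ind_linC (sc := sc) c hc).2 y hy, hψpr y hy, h.BM_pr sc hy]
  have hsm : ∀ (a : k) l, ψ (algebraMap k F a * l) = algebraMap k F a * ψ l := by
    intro a l
    obtain ⟨w, rfl⟩ := h.BM_surj sc l
    apply h.epM_inj sc
    have h1 := hlin (a • w)
    rw [map_smul, map_smul, hlin w, smul_add] at h1
    rw [← Algebra.smul_def, ← Algebra.smul_def, map_smul]
    exact (add_right_cancel h1).symm
  -- the squaring map
  have hsq : ∀ l, T.tr (ψ l * T.sg l) = 0 := by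
    intro l
    obtain ⟨a, ha⟩ := hψ l
    set y := yy l with hy
    have hyq := hyQ l
    have h1 : c * y * c⁻¹ = v a (ψ l) 0 * y := by rw [← ha]; group
    have h3 : (c * y * c⁻¹) * (c * y * c⁻¹) = y * y := by
      have h4 := h.sp.sq y hyq
      have e : (c * y * c⁻¹) * (c * y * c⁻¹) = c * (y * y) * c⁻¹ := by group
      rw [e, ← (mem_centralizer_iff.1 hc) _ h4, mul_inv_cancel_right]
    rw [h1] at h3
    have h5 : v a (ψ l) 0 * y * (v a (ψ l) 0)⁻¹ * y⁻¹ = 1 := by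
      rw [h.v_inv]
      calc v a (ψ l) 0 * y * v a (ψ l) 0 * y⁻¹ = (v a (ψ l) 0 * y * (v a (ψ l) 0 * y)) * (y * y)⁻¹ := by group
        _ = 1 := by rw [h3, mul_inv_cancel]
    rw [h.comm_E a (ψ l) hyq, ← h.v_zero] at h5
    have h6 := (h.v_eq h5).1
    rw [hyp] at h6
    exact h6
  obtain ⟨d, hd⟩ := T.scalar_of h.h2 ψ hadd hsm hsq
  refine ⟨d, ?_⟩
  have hvR : v 0 0 d ∈ centralizer (R : Set G) := h.CV_le_CR (h.V_le_CV (h.v_mem 0 0 d))
  apply h.mem_Q_of_cj (mul_mem hc hvR)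
  intro w
  rw [h.cj_mul (h.CR_le_NR hc) (h.CR_le_NR hvR), h.cj_V]
  have h1 := hlin (w + h.ep (h.Bm w * algebraMap k F d))
  have h3 : h.BM sc (w + h.ep (h.Bm w * algebraMap k F d) : h.sp.W) = h.Bm w := by
    show h.Bm (w + h.ep (h.Bm w * algebraMap k F d)) = _
    rw [h.Bm_add, h.Bm_ep, add_zero]
  rw [h3, hd, mul_comm (algebraMap k F d)] at h1
  have h4 : h.ep (h.Bm w * algebraMap k F d) + (w + h.ep (h.Bm w * algebraMap k F d)) = w := by
    have := h.sp.add_self (h.ep (h.Bm w * algebraMap k F d))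
    rw [add_comm w, ← add_assoc, this, zero_add]
  exact h1.trans h4

/-- `[v 0 0 d, C_Q(V)] = 1`, `[v 0 0 d, y] ∈ E` -/
theorem normalizes_V [Finite G] (sc : Scal h.sp.form) {c : G} (hc : c ∈ centralizer (R : Set G))
    (hcE : ∀ a b, ∃ a' b', c * v a b 0 * c⁻¹ = v a' b' 0) : c ∈ normalizer (V : Set G) := by
  have hN := h.CR_le_NR hc
  -- the same for `c⁻¹`
  have hcE' : ∀ a b, ∃ a' b', c⁻¹ * v a b 0 * c = v a' b' 0 := by
    have := T.finF
    have := T.fink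
    let f1 : k × F → k × F := fun x => ((hcE x.1 x.2).choose, (hcE x.1 x.2).choose_spec.choose)
    have hf1 : ∀ x : k × F, c * v x.1 x.2 0 * c⁻¹ = v (f1 x).1 (f1 x).2 0 := fun x =>
      (hcE x.1 x.2).choose_spec.choose_spec
    have hinj : Function.Injective f1 := by
      intro x y hxy
      have h1 := hf1 x
      rw [hxy, ← hf1 y] at h1
      have h3 := h.v_eq (mul_left_cancel (mul_right_cancel h1))
      exact Prod.ext h3.1 h3.2.1
    have hsurj := Finite.surjective_of_injective hinj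
    intro a b
    obtain ⟨x, hx⟩ := hsurj (a, b)
    refine ⟨x.1, x.2, ?_⟩
    have h1 := hf1 x
    rw [hx] at h1
    rw [← h1]; group
  -- `c` normalises `B = C_Q(E)`
  have hBc : ∀ x ∈ Q, x ∈ centralizer (V : Set G) → c⁻¹ * x * c ∈ centralizer (V : Set G) := by
    intro x hx hxV
    apply h.mem_CV_of_comm_E (h.nor_inv hN hx)
    intro b
    obtain ⟨a', b', hab⟩ := hcE 0 b
    have h1 := (mem_centralizer_iff.1 hxV) _ (h.v_mem a' b' 0)
    have h3 : v 0 b 0 = c⁻¹ * v a' b' 0 * c := by rw [← hab]; group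
    rw [h3]
    calc c⁻¹ * v a' b' 0 * c * (c⁻¹ * x * c) = c⁻¹ * (v a' b' 0 * x) * c := by group
      _ = c⁻¹ * (x * v a' b' 0) * c := by rw [h1]
      _ = _ := by group
  have key : ∀ d, c * v 0 0 d * c⁻¹ ∈ V := by
    intro d
    have hvR : v 0 0 d ∈ centralizer (R : Set G) := h.CV_le_CR (h.V_le_CV (h.v_mem 0 0 d))
    have hxR : c * v 0 0 d * c⁻¹ ∈ centralizer (R : Set G) := mul_mem (mul_mem hc hvR) (inv_mem hc)
    have hcomm : ∀ x ∈ Q, x ∈ centralizer (V : Set G) →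
        c * v 0 0 d * c⁻¹ * x = x * (c * v 0 0 d * c⁻¹) := by
      intro x hx hxV
      have h1 := (mem_centralizer_iff.1 (hBc x hx hxV)) _ (h.v_mem 0 0 d)
      calc c * v 0 0 d * c⁻¹ * x = c * (v 0 0 d * (c⁻¹ * x * c)) * c⁻¹ := by group
        _ = c * ((c⁻¹ * x * c) * v 0 0 d) * c⁻¹ := by rw [h1]
        _ = _ := by group
    obtain ⟨d', hd'⟩ := h.act_as_V sc hxR (fun y hy => by
      obtain ⟨a', ha'⟩ := h.comm_V 0 0 d (h.nor_inv hN hy)
      obtain ⟨a2, b2, hab⟩ := hcE a' (p (c⁻¹ * y * c) * algebraMap k F d)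
      refine ⟨a2, b2, ?_⟩
      rw [← hab, ← ha']; group) (fun x hx hxV => by
      rw [hcomm x hx hxV]
      have e : x * (c * v 0 0 d * c⁻¹) * (c * v 0 0 d * c⁻¹)⁻¹ * x⁻¹ = 1 := by group
      rw [e]; exact one_mem _)
    -- the element `q0 = c v c⁻¹ v'` of `Q`
    have hq0V : c * v 0 0 d * c⁻¹ * v 0 0 d' ∈ centralizer (V : Set G) := by
      apply h.mem_CV_of_comm_E hd'
      intro b
      have h1 := hcomm (v 0 b 0) (h.E_le 0 b) (h.V_le_CV (h.v_mem _ _ _))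
      have h3 := h.v_comm 0 b 0 0 0 d'
      calc v 0 b 0 * (c * v 0 0 d * c⁻¹ * v 0 0 d') = (v 0 b 0 * (c * v 0 0 d * c⁻¹)) * v 0 0 d' := by group
        _ = (c * v 0 0 d * c⁻¹ * v 0 b 0) * v 0 0 d' := by rw [h1]
        _ = c * v 0 0 d * c⁻¹ * (v 0 b 0 * v 0 0 d') := by group
        _ = c * v 0 0 d * c⁻¹ * (v 0 0 d' * v 0 b 0) := by rw [h3]
        _ = _ := by group
    obtain ⟨a, b, hab⟩ := h.mem_E_of_comm (sc := sc) hd' (fun x hx hxV => by
      have h1 := hcomm x hx hxV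
      have h3 := (mem_centralizer_iff.1 hxV) _ (h.v_mem 0 0 d')
      calc c * v 0 0 d * c⁻¹ * v 0 0 d' * x = c * v 0 0 d * c⁻¹ * (v 0 0 d' * x) := by group
        _ = c * v 0 0 d * c⁻¹ * (x * v 0 0 d') := by rw [h3]
        _ = (c * v 0 0 d * c⁻¹ * x) * v 0 0 d' := by group
        _ = (x * (c * v 0 0 d * c⁻¹)) * v 0 0 d' := by rw [h1]
        _ = _ := by group)
    have h5 : c * v 0 0 d * c⁻¹ = v a b 0 * (v 0 0 d')⁻¹ := by rw [← hab]; group
    rw [h5]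
    exact mul_mem (h.v_mem _ _ _) (inv_mem (h.v_mem _ _ _))
  have key2 : ∀ x ∈ V, c * x * c⁻¹ ∈ V := by
    intro x hx
    obtain ⟨a, b, d, rfl⟩ := h.v_surj x hx
    obtain ⟨a', b', hab⟩ := hcE a b
    have e : v a b d = v a b 0 * v 0 0 d := by rw [← h.v_add, add_zero, add_zero, zero_add]
    have e2 : c * (v a b 0 * v 0 0 d) * c⁻¹ = (c * v a b 0 * c⁻¹) * (c * v 0 0 d * c⁻¹) := by group
    rw [e, e2, hab]
    exact mul_mem (h.v_mem _ _ _) (key d)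
  rw [mem_normalizer_iff]
  intro x
  constructor
  · exact key2 x
  · intro hx
    -- finiteness
    let g1 : V → V := fun y => ⟨c * y * c⁻¹, key2 y y.2⟩
    have hg1 : Function.Injective g1 := by
      intro y y' hyy
      have := congrArg Subtype.val hyy
      exact Subtype.ext (mul_left_cancel (mul_right_cancel this))
    obtain ⟨y, hy⟩ := Finite.surjective_of_injective hg1 ⟨_, hx⟩
    have h1 : c * (y : G) * c⁻¹ = c * x * c⁻¹ := congrArg Subtype.val hy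
    have h3 : (y : G) = x := mul_left_cancel (mul_right_cancel h1)
    rw [← h3]; exact y.2

end GIn

end Cfsg.Agent.Omega.NOne.SU

end

section


/-!
# THEOREM UNI, group part 5: the map `y`, the hermitian form on `Φ`, the action of `C_{Q'}(V)` on `e^⊥`
-/

set_option autoImplicit false
set_option linter.unusedSectionVars false

open Subgroup

namespace Cfsg.Agent.Omega.NOne.SU

variable {G : Type*} [Group G] {k F : Type*} [Field k] [Field F] [Algebra k F]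

/-- Riesz for the trace form -/
theorem Quad.riesz (T : Quad k F) (h2 : (2 : k) = 0) (ψ : F → k) (hadd : ∀ x y, ψ (x + y) = ψ x + ψ y)
    (hsm : ∀ (a : k) x, ψ (algebraMap k F a * x) = a * ψ x) : ∃ c, ∀ b, ψ b = T.tr (b * c) := by
  let L : F →ₗ[k] (F →ₗ[k] k) := LinearMap.mk₂ k (fun c b => T.tr (b * c))
    (fun c c' b => by rw [mul_add, map_add]) (fun a c b => by rw [mul_smul_comm, map_smul])
    (fun c b b' => by rw [add_mul, map_add]) (fun a c b => by rw [smul_mul_assoc, map_smul])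
  have hLinj : Function.Injective L := by
    rw [injective_iff_map_eq_zero]
    intro c hc
    apply T.eq_zero_of_tr h2
    intro b
    have := LinearMap.congr_fun hc b
    have e : L c b = T.tr (b * c) := rfl
    rw [e] at this
    rw [mul_comm]
    exact this
  have hfin := T.finF
  have hfd : FiniteDimensional k F := Module.Finite.of_finite
  have hLsurj : Function.Surjective L := by
    have h1 : Module.finrank k F = Module.finrank k (F →ₗ[k] k) := (Subspace.dual_finrank_eq).symm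
    exact (LinearMap.injective_iff_surjective_of_finrank_eq_finrank h1).1 hLinj
  obtain ⟨c, hc⟩ := hLsurj { toFun := ψ, map_add' := hadd, map_smul' := fun a x => by
                                rw [Algebra.smul_def, hsm]; rfl }
  refine ⟨c, fun b => ?_⟩
  have h1 := LinearMap.congr_fun hc b
  exact h1.symm

namespace GIn

variable {T : Quad k F} {S : Sylow 2 G} {V R Q Q' : Subgroup G} {v : k → F → k → G} {p p' : G → F}
variable (h : GIn T S V R Q Q' v p p') (sc : Scal h.sp.form)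

variable {Φ : Type*} [AddCommGroup Φ] [Module F Φ] {φ χ : G → Φ} (f : Fld T V R Q Q' v p φ χ)
include h

theorem E_CV (a : k) (b : F) : v a b 0 ∈ centralizer (V : Set G) := h.V_le_CV (h.v_mem _ _ _)

include f in
theorem φ_E (a : k) (b : F) : φ (v a b 0) = 0 :=
  (f.φ_ker _ (h.E_le a b) (h.E_CV a b)).2 ⟨a, b, rfl⟩

include f in
theorem φ_one : φ 1 = 0 := by
  have := h.φ_E f 0 0
  rwa [h.v_zero] at this

include f in
theorem add_selfΦ (u : Φ) : u + u = 0 := by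
  rw [← two_smul F, T.twoF h.h2, zero_smul]

include f in
theorem φ_inv {x : G} (hx : x ∈ Q) (hxV : x ∈ centralizer (V : Set G)) : φ x⁻¹ = φ x := by
  have h1 := f.φ_add x⁻¹ (inv_mem hx) (inv_mem hxV) x hx hxV
  rw [inv_mul_cancel, h.φ_one f] at h1
  calc φ x⁻¹ = φ x⁻¹ + (φ x + φ x) := by rw [h.add_selfΦ f, add_zero]
    _ = (φ x⁻¹ + φ x) + φ x := by abel
    _ = φ x := by rw [← h1, zero_add]

include f in
/-- `φ x = φ x'` iff `x ≡ x'` mod `E` -/
theorem φ_eq {x x' : G} (hx : x ∈ Q) (hxV : x ∈ centralizer (V : Set G)) (hx' : x' ∈ Q)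
    (hxV' : x' ∈ centralizer (V : Set G)) (e : φ x = φ x') : ∃ a b, x = v a b 0 * x' := by
  have h1 : φ (x * x'⁻¹) = 0 := by
    rw [f.φ_add x hx hxV _ (inv_mem hx') (inv_mem hxV'), h.φ_inv f hx' hxV', e, h.add_selfΦ f]
  obtain ⟨a, b, hab⟩ := (f.φ_ker _ (mul_mem hx (inv_mem hx')) (mul_mem hxV (inv_mem hxV'))).1 h1
  refine ⟨a, b, ?_⟩
  rw [← hab]; group

theorem BM_eq_zero {x : G} (hx : x ∈ Q) : h.BM sc (h.prM sc x) = 0 ↔ x ∈ centralizer (V : Set G) := by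
  rw [h.BM_pr sc hx]
  exact h.p_eq_zero hx

/-- `[n, y]` -/
theorem prM_comm {c y : G} (hc : c ∈ centralizer (R : Set G)) (hy : y ∈ Q) :
    h.linC sc c hc (h.prM sc y) = h.prM sc y + h.prM sc (c * y * c⁻¹ * y⁻¹) := by
  rw [(ind_linC (sc := sc) c hc).2 y hy]
  have h1 := h.nor c (h.CR_le_NR hc) y hy
  rw [h.prM_mul sc h1 (inv_mem hy), h.prM_inv sc hy, add_comm (h.prM sc y), add_assoc, h.M_add_self, add_zero]

include f in
/-- **`φ` is `k`-linear**: the value on `s • x` -/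
theorem φ_smul [Module k Φ] [IsScalarTower k F Φ] (s : k) {x x' : G} (hx : x ∈ Q) (hxV : x ∈ centralizer (V : Set G))
    (hx' : x' ∈ Q) (hxV' : x' ∈ centralizer (V : Set G)) (e : h.prM sc x' = s • h.prM sc x) :
    φ x' = s • φ x := by
  obtain ⟨n, hn, hnV, hnχ⟩ := f.χ_surj (φ x)
  obtain ⟨y1, hy1, hp1⟩ := h.p_surj 1
  have hnR := h.CV_le_CR hnV
  have h1 := h.comm_CV hnV hy1
  have h3 := f.bil y1 hy1 n hn hnV
  rw [hp1, one_smul, hnχ] at h3
  obtain ⟨a, b, hab⟩ := h.φ_eq f h1.1 h1.2 hx hxV h3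
  -- `s • [n, y1]`
  obtain ⟨y2, hy2, hyp2⟩ := h.prM_surj sc (s • h.prM sc y1)
  have hp2 : p y2 = algebraMap k F s := by
    rw [← h.BM_pr sc hy2, hyp2, map_smul, h.BM_pr sc hy1, hp1, Algebra.smul_def, mul_one]
  have h4 := h.comm_CV hnV hy2
  have h5 := f.bil y2 hy2 n hn hnV
  rw [hp2, hnχ] at h5
  have h6 := h.prM_comm sc hnR hy2
  have h7 := h.prM_comm sc hnR hy1
  rw [hyp2, map_smul, h7, smul_add] at h6
  have h8 : h.prM sc (n * y2 * n⁻¹ * y2⁻¹) = s • h.prM sc (n * y1 * n⁻¹ * y1⁻¹) := (add_left_cancel h6).symm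
  rw [hab, h.prM_mul sc (h.E_le a b) hx, h.prM_E, smul_add, ← e, ← map_smul, ← h.prM_E sc 0 (s • b),
    ← h.prM_mul sc (h.E_le _ _) hx', h.prM_eq sc h4.1 (mul_mem (h.E_le _ _) hx')] at h8
  obtain ⟨a', ha'⟩ := h.mem_R.1 h8
  have h9 : n * y2 * n⁻¹ * y2⁻¹ = v a' (s • b) 0 * x' := by
    have : n * y2 * n⁻¹ * y2⁻¹ = n * y2 * n⁻¹ * y2⁻¹ * (v 0 (s • b) 0 * x')⁻¹ * (v 0 (s • b) 0 * x') := by group
    rw [this, ha', ← mul_assoc, ← h.v_add, add_zero, zero_add, add_zero]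
  rw [h9, f.φ_add _ (h.E_le _ _) (h.E_CV _ _) x' hx' hxV', h.φ_E f, zero_add] at h5
  rw [h5, algebraMap_smul]

include f in
/-- **the map `y`** -/
theorem exists_y [Module k Φ] [IsScalarTower k F Φ] : ∃ y : h.M sc →ₗ[k] Φ,
    ∀ x ∈ Q, x ∈ centralizer (V : Set G) → y (h.prM sc x) = φ x := by
  classical
  let P : Submodule k (h.M sc) := LinearMap.ker (h.BM sc)
  have hP : ∀ w : P, ∃ x, x ∈ Q ∧ x ∈ centralizer (V : Set G) ∧ h.prM sc x = w := by
    rintro ⟨w, hw⟩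
    obtain ⟨x, hx, rfl⟩ := h.prM_surj sc w
    exact ⟨x, hx, (h.BM_eq_zero sc hx).1 hw, rfl⟩
  let r : P → G := fun w => (hP w).choose
  have hr1 : ∀ w, r w ∈ Q := fun w => (hP w).choose_spec.1
  have hr2 : ∀ w, r w ∈ centralizer (V : Set G) := fun w => (hP w).choose_spec.2.1
  have hr3 : ∀ w, h.prM sc (r w) = w := fun w => (hP w).choose_spec.2.2
  have hwell : ∀ x ∈ Q, x ∈ centralizer (V : Set G) → ∀ x' ∈ Q, x' ∈ centralizer (V : Set G) →
      h.prM sc x = h.prM sc x' → φ x = φ x' := by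
    intro x hx hxV x' hx' hxV' e
    rw [h.prM_eq sc hx hx'] at e
    obtain ⟨a, ha⟩ := h.mem_R.1 e
    have h1 : x = v a 0 0 * x' := by rw [← ha]; group
    rw [h1, f.φ_add _ (h.E_le _ _) (h.E_CV _ _) x' hx' hxV', h.φ_E f, zero_add]
  let g : P →ₗ[k] Φ :=
    { toFun := fun w => φ (r w)
      map_add' := fun w w' => by
        rw [← f.φ_add _ (hr1 w) (hr2 w) _ (hr1 w') (hr2 w')]
        apply hwell _ (hr1 _) (hr2 _) _ (mul_mem (hr1 w) (hr1 w')) (mul_mem (hr2 w) (hr2 w'))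
        rw [hr3, h.prM_mul sc (hr1 w) (hr1 w'), hr3, hr3]
        rfl
      map_smul' := fun s w => by
        apply h.φ_smul sc f s (hr1 w) (hr2 w) (hr1 _) (hr2 _)
        rw [hr3, hr3]
        rfl }
  obtain ⟨y, hy⟩ := LinearMap.exists_extend g
  refine ⟨y, fun x hx hxV => ?_⟩
  have hm : h.prM sc x ∈ P := (h.BM_eq_zero sc hx).2 hxV
  have h1 := LinearMap.congr_fun hy ⟨_, hm⟩
  have h3 : y (h.prM sc x) = φ (r ⟨_, hm⟩) := h1
  rw [h3]
  exact hwell _ (hr1 _) (hr2 _) _ hx hxV (hr3 _)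

include f in
theorem y_ker_of {y : h.M sc → Φ} (hy : ∀ x ∈ Q, x ∈ centralizer (V : Set G) → y (h.prM sc x) = φ x)
    (m : h.M sc) (hm : h.BM sc m = 0) : y m = 0 ↔ ∃ c, m = h.epM sc c := by
  obtain ⟨x, hx, rfl⟩ := h.prM_surj sc m
  have hxV := (h.BM_eq_zero sc hx).1 hm
  rw [hy x hx hxV, f.φ_ker x hx hxV]
  constructor
  · rintro ⟨a, b, rfl⟩
    exact ⟨b, h.prM_E sc a b⟩
  · rintro ⟨c, hc⟩
    rw [← h.prM_E sc 0 c, h.prM_eq sc hx (h.E_le _ _)] at hc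
    obtain ⟨a, ha⟩ := h.mem_R.1 hc
    refine ⟨a, c, ?_⟩
    have : x = x * (v 0 c 0)⁻¹ * v 0 c 0 := by group
    rw [this, ha, ← h.v_add, add_zero, zero_add, add_zero]

include f in
theorem y_surj_of {y : h.M sc → Φ} (hy : ∀ x ∈ Q, x ∈ centralizer (V : Set G) → y (h.prM sc x) = φ x)
    (u : Φ) : ∃ m, h.BM sc m = 0 ∧ y m = u := by
  obtain ⟨x, hx, hxV, rfl⟩ := f.φ_surj u
  exact ⟨h.prM sc x, (h.BM_eq_zero sc hx).2 hxV, hy x hx hxV⟩

/-! ### the form on `Φ` -/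

/-- the alternating form on `Φ` -/
noncomputable def fΦ (f : Fld T V R Q Q' v p φ χ) (u u' : Φ) : k :=
  h.fM sc (h.prM sc (f.φ_surj u).choose) (h.prM sc (f.φ_surj u').choose)

theorem fΦ_φ {x x' : G} (hx : x ∈ Q) (hxV : x ∈ centralizer (V : Set G)) (hx' : x' ∈ Q)
    (hxV' : x' ∈ centralizer (V : Set G)) : h.fΦ sc f (φ x) (φ x') = h.fM sc (h.prM sc x) (h.prM sc x') := by
  have key : ∀ x₁ ∈ Q, x₁ ∈ centralizer (V : Set G) → ∀ x₂ ∈ Q, x₂ ∈ centralizer (V : Set G) →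
      φ x₁ = φ x₂ → ∀ w, h.BM sc w = 0 → h.fM sc (h.prM sc x₁) w = h.fM sc (h.prM sc x₂) w := by
    intro x₁ h₁ h₁' x₂ h₂ h₂' e w hw
    obtain ⟨a, b, hab⟩ := h.φ_eq f h₁ h₁' h₂ h₂' e
    rw [hab, h.prM_mul sc (h.E_le _ _) h₂, h.prM_E, map_add, LinearMap.add_apply, h.fM_ep, hw, map_zero,
      mul_zero, map_zero, zero_add]
  obtain ⟨h1, h3, h4⟩ := (f.φ_surj (φ x)).choose_spec
  obtain ⟨h1', h3', h4'⟩ := (f.φ_surj (φ x')).choose_spec
  unfold fΦ
  rw [key _ h1 h3 x hx hxV h4 _ ((h.BM_eq_zero sc h1').2 h3'), h.fM_symm,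
    key _ h1' h3' x' hx' hxV' h4' _ ((h.BM_eq_zero sc hx).2 hxV), h.fM_symm]

theorem fΦ_symm (u u' : Φ) : h.fΦ sc f u u' = h.fΦ sc f u' u := h.fM_symm sc _ _

theorem fΦ_add (u₁ u₂ u' : Φ) : h.fΦ sc f (u₁ + u₂) u' = h.fΦ sc f u₁ u' + h.fΦ sc f u₂ u' := by
  obtain ⟨x₁, h₁, h₁', rfl⟩ := f.φ_surj u₁
  obtain ⟨x₂, h₂, h₂', rfl⟩ := f.φ_surj u₂
  obtain ⟨x, hx, hx', rfl⟩ := f.φ_surj u'
  rw [← f.φ_add x₁ h₁ h₁' x₂ h₂ h₂', h.fΦ_φ sc f (mul_mem h₁ h₂) (mul_mem h₁' h₂') hx hx',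
    h.fΦ_φ sc f h₁ h₁' hx hx', h.fΦ_φ sc f h₂ h₂' hx hx', h.prM_mul sc h₁ h₂, map_add, LinearMap.add_apply]

theorem fΦ_smul (s : k) (u u' : Φ) : h.fΦ sc f (algebraMap k F s • u) u' = s * h.fΦ sc f u u' := by
  let _ : Module k Φ := Module.compHom Φ (algebraMap k F)
  have _ : IsScalarTower k F Φ := IsScalarTower.of_algebraMap_smul fun _ _ => rfl
  obtain ⟨x, hx, hxV, rfl⟩ := f.φ_surj u
  obtain ⟨x', hx', hxV', rfl⟩ := f.φ_surj u'
  obtain ⟨x2, hx2, he⟩ := h.prM_surj sc (s • h.prM sc x)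
  have hxV2 : x2 ∈ centralizer (V : Set G) := by
    rw [← h.BM_eq_zero sc hx2, he, map_smul, (h.BM_eq_zero sc hx).2 hxV, smul_zero]
  have h1 := h.φ_smul sc f s hx hxV hx2 hxV2 he
  have h3 : algebraMap k F s • φ x = φ x2 := by rw [h1, algebraMap_smul]
  rw [h3, h.fΦ_φ sc f hx2 hxV2 hx' hxV', he, map_smul, LinearMap.smul_apply, smul_eq_mul,
    h.fΦ_φ sc f hx hxV hx' hxV']

/-- the torus elements normalise `R` -/
theorem tor_NR {z : F} (hz : z ≠ 0) {t : G}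
    (ht1 : ∀ a b d, t * v a b d * t⁻¹ = v (T.nm z * a) (z * (T.sg z)⁻¹ * b) ((T.nm z)⁻¹ * d)) :
    t ∈ normalizer (R : Set G) := by
  rw [mem_normalizer_iff]
  intro x
  constructor
  · intro hx
    obtain ⟨a, rfl⟩ := h.mem_R.1 hx
    rw [ht1, mul_zero, mul_zero]
    exact h.mem_R.2 ⟨_, rfl⟩
  · intro hx
    obtain ⟨a, ha⟩ := h.mem_R.1 hx
    refine h.mem_R.2 ⟨(T.nm z)⁻¹ * a, ?_⟩
    have h1 := ht1 ((T.nm z)⁻¹ * a) 0 0
    rw [mul_zero, mul_zero, mul_inv_cancel_left₀ (T.nm_ne hz)] at h1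
    have h3 : t * x * t⁻¹ = t * v ((T.nm z)⁻¹ * a) 0 0 * t⁻¹ := by rw [ha, h1]
    exact mul_left_cancel (mul_right_cancel h3)

/-- the torus elements normalise `V` -/
theorem tor_NV {z : F} (hz : z ≠ 0) {t : G}
    (ht1 : ∀ a b d, t * v a b d * t⁻¹ = v (T.nm z * a) (z * (T.sg z)⁻¹ * b) ((T.nm z)⁻¹ * d)) :
    t ∈ normalizer (V : Set G) := by
  rw [mem_normalizer_iff]
  intro x
  constructor
  · intro hx
    obtain ⟨a, b, d, rfl⟩ := h.v_surj x hx
    rw [ht1]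
    exact h.v_mem _ _ _
  · intro hx
    obtain ⟨a, b, d, ha⟩ := h.v_surj _ hx
    have hz' := T.sg_ne' hz
    have hn := T.nm_ne hz
    have h1 := ht1 ((T.nm z)⁻¹ * a) (z⁻¹ * T.sg z * b) (T.nm z * d)
    have e1 : T.nm z * ((T.nm z)⁻¹ * a) = a := by field_simp
    have e2 : z * (T.sg z)⁻¹ * (z⁻¹ * T.sg z * b) = b := by field_simp
    have e3 : (T.nm z)⁻¹ * (T.nm z * d) = d := by field_simp
    rw [e1, e2, e3, ha] at h1
    have h3 : v ((T.nm z)⁻¹ * a) (z⁻¹ * T.sg z * b) (T.nm z * d) = x :=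
      mul_left_cancel (mul_right_cancel h1)
    rw [← h3]
    exact h.v_mem _ _ _

theorem fΦ_tor {z : F} (hz : z ≠ 0) (u u' : Φ) :
    h.fΦ sc f (z • u) (z • u') = T.nm z * h.fΦ sc f u u' := by
  obtain ⟨x, hx, hxV, rfl⟩ := f.φ_surj u
  obtain ⟨x', hx', hxV', rfl⟩ := f.φ_surj u'
  obtain ⟨t, -, ht1, -, ht3, -⟩ := f.tor z hz
  have htR := h.tor_NR hz ht1
  have htV := h.tor_NV hz ht1
  have hs : ∀ a, t * v a 0 0 * t⁻¹ = v (T.nm z * a) 0 0 := by
    intro a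
    rw [ht1, mul_zero, mul_zero]
  have h1 := h.lin_f sc t htR (T.nm z) hs (h.prM sc x) (h.prM sc x')
  rw [h.lin_pr sc t htR _ hs hx, h.lin_pr sc t htR _ hs hx'] at h1
  rw [← ht3 x hx hxV, ← ht3 x' hx' hxV', h.fΦ_φ sc f (h.nor t htR x hx) (h.CV_conj htV hxV)
    (h.nor t htR x' hx') (h.CV_conj htV hxV'), h1, h.fΦ_φ sc f hx hxV hx' hxV']

/-- `b` and `sg b` are adjoint -/
theorem fΦ_adj (b : F) (u u' : Φ) : h.fΦ sc f (b • u) u' = h.fΦ sc f u (T.sg b • u') := by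
  by_cases hb : b = 0
  · subst hb
    have h0 : ∀ u', h.fΦ sc f 0 u' = 0 := by
      intro u'
      have := h.fΦ_add sc f 0 0 u'
      rw [add_zero] at this
      exact left_eq_add.1 this
    rw [map_zero, zero_smul, zero_smul, h0, h.fΦ_symm, h0]
  · have h1 := h.fΦ_tor sc f hb u (b⁻¹ • u')
    rw [smul_smul, mul_inv_cancel₀ hb, one_smul] at h1
    rw [h1, h.fΦ_symm, ← h.fΦ_smul, smul_smul, T.nm_eq, h.fΦ_symm]
    congr 2
    rw [mul_comm b, mul_assoc, mul_inv_cancel₀ hb, mul_one]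

/-- the hermitian form exists -/
theorem exists_hm (u u' : Φ) : ∃ c : F, ∀ b, h.fΦ sc f (b • u) u' = T.tr (b * c) := by
  apply T.riesz h.h2 (fun b => h.fΦ sc f (b • u) u')
  · intro x y
    show h.fΦ sc f ((x + y) • u) u' = _
    rw [add_smul, h.fΦ_add]
  · intro a x
    show h.fΦ sc f ((algebraMap k F a * x) • u) u' = _
    rw [mul_smul, h.fΦ_smul]

/-- **the hermitian form on `Φ`** -/
noncomputable def hmΦ (f : Fld T V R Q Q' v p φ χ) (u u' : Φ) : F := (h.exists_hm sc f u u').choose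

theorem tr_hm (b : F) (u u' : Φ) : T.tr (b * h.hmΦ sc f u u') = h.fΦ sc f (b • u) u' :=
  ((h.exists_hm sc f u u').choose_spec b).symm

theorem hm_uniq {c : F} {u u' : Φ} (H : ∀ b, T.tr (b * c) = h.fΦ sc f (b • u) u') : c = h.hmΦ sc f u u' := by
  apply T.eq_of_tr h.h2
  intro b
  rw [mul_comm, H, ← h.tr_hm, mul_comm]

theorem hmΦ_add (x x' u : Φ) : h.hmΦ sc f (x + x') u = h.hmΦ sc f x u + h.hmΦ sc f x' u := by
  symm
  apply h.hm_uniq
  intro b
  rw [mul_add, map_add, h.tr_hm, h.tr_hm, smul_add, h.fΦ_add]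

theorem hmΦ_smul (s : F) (x u : Φ) : h.hmΦ sc f (s • x) u = s * h.hmΦ sc f x u := by
  symm
  apply h.hm_uniq
  intro b
  rw [← mul_assoc, h.tr_hm, mul_smul]

theorem hmΦ_sym (x u : Φ) : h.hmΦ sc f u x = T.sg (h.hmΦ sc f x u) := by
  symm
  apply h.hm_uniq
  intro b
  have h1 := h.tr_hm sc f (T.sg b) x u
  rw [← T.tr_sg', map_mul, T.sg_sg] at h1
  rw [h1, h.fΦ_adj, T.sg_sg, h.fΦ_symm]

theorem hmΦ_add_right (x u u' : Φ) : h.hmΦ sc f x (u + u') = h.hmΦ sc f x u + h.hmΦ sc f x u' := by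
  rw [h.hmΦ_sym, h.hmΦ_add, map_add, ← h.hmΦ_sym, ← h.hmΦ_sym]

theorem hmΦ_smul_right (s : F) (x u : Φ) : h.hmΦ sc f x (s • u) = T.sg s * h.hmΦ sc f x u := by
  rw [h.hmΦ_sym, h.hmΦ_smul, map_mul, ← h.hmΦ_sym]

theorem hmΦ_zero_right (x : Φ) : h.hmΦ sc f x 0 = 0 := by
  have := h.hmΦ_add_right sc f x 0 0
  rw [add_zero] at this
  exact left_eq_add.1 this

theorem hmΦ_nondeg (x : Φ) (H : ∀ u, h.hmΦ sc f x u = 0) : x = 0 := by
  obtain ⟨g, hg, hgV, rfl⟩ := f.φ_surj x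
  rw [f.φ_ker g hg hgV]
  apply h.mem_E_of_comm (sc := sc) hg
  intro y hy hyV
  have h1 := h.tr_hm sc f 1 (φ g) (φ y)
  rw [H, mul_zero, map_zero, one_smul, h.fΦ_φ sc f hg hgV hy hyV, h.fM_pr sc hg hy] at h1
  have h3 := (h.sp.co_eq_zero (h.sp.comm g hg y hy)).1 h1.symm
  calc g * y = (g * y * g⁻¹ * y⁻¹) * (y * g) := by group
    _ = y * g := by rw [h3, one_mul]

/-- `f = tr hm` on `e^⊥` -/
theorem fy_of {y : h.M sc → Φ} (hy : ∀ x ∈ Q, x ∈ centralizer (V : Set G) → y (h.prM sc x) = φ x)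
    (m m' : h.M sc) (hm : h.BM sc m = 0) (hm' : h.BM sc m' = 0) :
    h.fM sc m m' = T.tr (h.hmΦ sc f (y m) (y m')) := by
  obtain ⟨x, hx, rfl⟩ := h.prM_surj sc m
  obtain ⟨x', hx', rfl⟩ := h.prM_surj sc m'
  have hxV := (h.BM_eq_zero sc hx).1 hm
  have hxV' := (h.BM_eq_zero sc hx').1 hm'
  have h1 := h.tr_hm sc f 1 (φ x) (φ x')
  rw [one_mul, one_smul] at h1
  rw [hy x hx hxV, hy x' hx' hxV', h1, h.fΦ_φ sc f hx hxV hx' hxV']

/-- **the action of `n ∈ C_{Q'}(V)` on `e^⊥`** -/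
theorem JP_n {n x : G} (hn : n ∈ Q') (hnV : n ∈ centralizer (V : Set G)) (hx : x ∈ Q)
    (hxV : x ∈ centralizer (V : Set G)) : n * x * n⁻¹ * x⁻¹ = v 0 (h.hmΦ sc f (φ x) (χ n)) 0 := by
  have h1 := h.comm_CV hnV hx
  have h3 : n * x * n⁻¹ * x⁻¹ ∈ Q' := by
    have := h.nor' x hxV n⁻¹ (inv_mem hn)
    have e : n * x * n⁻¹ * x⁻¹ = n * (x * n⁻¹ * x⁻¹) := by group
    rw [e]
    exact mul_mem hn this
  obtain ⟨b, hb⟩ := h.meet _ h1.1 h3
  rw [hb]
  suffices H : b = h.hmΦ sc f (φ x) (χ n) by rw [H]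
  have hnR := h.CV_le_CR hnV
  apply h.hm_uniq
  intro l
  obtain ⟨y, hy, hyl⟩ := h.p_surj (T.sg l)
  have h4 := h.comm_CV hnV hy
  have h5 := h.prM_comm sc hnR hx
  have h6 := h.prM_comm sc hnR hy
  have h7 := isom (ind_linC (sc := sc) n hnR).mem (h.prM sc x) (h.prM sc y)
  rw [h5, h6, hb, h.prM_E, map_add, map_add, LinearMap.add_apply, LinearMap.add_apply, h.fM_ep, h.fM_ep,
    (h.BM_eq_zero sc h4.1).2 h4.2, map_zero, mul_zero, map_zero, add_zero, h.BM_pr sc hy, hyl, T.sg_sg,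
    ← h.fΦ_φ sc f hx hxV h4.1 h4.2, f.bil y hy n hn hnV, hyl, ← h.fΦ_adj] at h7
  have h8 := T.add_selfk (h2 := h.h2) (h.fΦ sc f (l • φ x) (χ n))
  have h9 : T.tr (b * l) + h.fΦ sc f (l • φ x) (χ n) = 0 := by
    rw [add_assoc] at h7
    exact add_eq_left.1 h7
  rw [mul_comm l]
  calc T.tr (b * l) = T.tr (b * l) + (h.fΦ sc f (l • φ x) (χ n) + h.fΦ sc f (l • φ x) (χ n)) := by
        rw [h8, add_zero]
    _ = (T.tr (b * l) + h.fΦ sc f (l • φ x) (χ n)) + h.fΦ sc f (l • φ x) (χ n) := by ring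
    _ = _ := by rw [h9, zero_add]

end GIn

end Cfsg.Agent.Omega.NOne.SU

end

section


/-!
# THEOREM UNI, group part (G): the unipotent radical of the stabiliser of `e` is induced by `C(V)`

`JJ` = the elements of `H` which are trivial on `e`, `e^⊥/e` and `W/e^⊥`; `JJ_CV`: each of them is induced by an element
of `C_G(V)`.
-/

set_option autoImplicit false
set_option linter.unusedSectionVars false

open Subgroup

namespace Cfsg.Agent.Omega.NOne.SU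

variable {G : Type*} [Group G] {k F : Type*} [Field k] [Field F] [Algebra k F]

namespace GIn

variable {T : Quad k F} {S : Sylow 2 G} {V R Q Q' : Subgroup G} {v : k → F → k → G} {p p' : G → F}

section Xu

variable (h : GIn T S V R Q Q' v p p')
include h

/-- the elements of `C(R)` which are trivial on `e`, `e^⊥/e` and `W/e^⊥` -/
def Xu : Subgroup G where
  carrier := {c | c ∈ centralizer (R : Set G) ∧ (∀ b, h.cj c (h.ep b) = h.ep b) ∧
    (∀ w, h.Bm w = 0 → ∃ b, h.cj c w = w + h.ep b) ∧ ∀ w, h.Bm (h.cj c w) = h.Bm w}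
  one_mem' := ⟨one_mem _, fun b => h.cj_one _, fun w _ => ⟨0, by
    have h1 : h.ep 0 = 0 := by
      have := h.ep_add 0 0
      rw [add_zero] at this
      exact left_eq_add.1 this
    rw [h.cj_one, h1, add_zero]⟩, fun w => by rw [h.cj_one]⟩
  mul_mem' := fun {c d} hc hd => by
    obtain ⟨c0, c1, c2, c3⟩ := hc
    obtain ⟨d0, d1, d2, d3⟩ := hd
    have hm := fun w => h.cj_mul (h.CR_le_NR c0) (h.CR_le_NR d0) w
    refine ⟨mul_mem c0 d0, fun b => by rw [hm, d1, c1], fun w hw => ?_, fun w => by rw [hm, c3, d3]⟩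
    obtain ⟨b, hb⟩ := d2 w hw
    obtain ⟨b', hb'⟩ := c2 w hw
    refine ⟨b' + b, ?_⟩
    rw [hm, hb, h.cj_add (h.CR_le_NR c0), hb', c1, h.ep_add, add_assoc]
  inv_mem' := fun {c} hc => by
    obtain ⟨c0, c1, c2, c3⟩ := hc
    have hN := h.CR_le_NR c0
    have i3 : ∀ w, h.Bm (h.cj c⁻¹ w) = h.Bm w := fun w => by
      rw [← c3 (h.cj c⁻¹ w), h.cj_cj_inv hN]
    refine ⟨inv_mem c0, fun b => ?_, fun w hw => ?_, i3⟩
    · have := h.cj_inv_cj hN (h.ep b)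
      rwa [c1] at this
    · obtain ⟨b, hb⟩ := c2 (h.cj c⁻¹ w) (by rw [i3, hw])
      rw [h.cj_cj_inv hN] at hb
      refine ⟨b, ?_⟩
      calc h.cj c⁻¹ w = h.cj c⁻¹ w + h.ep b + h.ep b := by rw [add_assoc, h.sp.add_self, add_zero]
        _ = w + h.ep b := congrArg (· + h.ep b) hb.symm

theorem Xu_two [Finite G] : IsPGroup 2 h.Xu := by
  intro c
  obtain ⟨c0, c1, c2, c3⟩ := c.2
  have hN := h.CR_le_NR c0
  have hs : ∀ w, ∃ b, h.cj ((c : G) ^ 2) w = w + h.ep b := by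
    intro w
    obtain ⟨b, hb⟩ := c2 (h.cj (c : G) w + w) (by rw [h.Bm_add, c3, T.add_self (h2 := h.h2)])
    refine ⟨b, ?_⟩
    have e1 : h.cj (c : G) w = w + (h.cj (c : G) w + w) := by
      rw [add_comm (h.cj (c : G) w) w, ← add_assoc, h.sp.add_self, zero_add]
    rw [pow_two, h.cj_mul hN hN]
    conv_lhs => rw [e1]
    rw [h.cj_add hN, hb, ← add_assoc, ← add_assoc]
    have e2 : h.cj (c : G) w + h.cj (c : G) w = 0 := h.sp.add_self _
    rw [e2, zero_add]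
  have h2N : (c : G) ^ 2 ∈ normalizer (R : Set G) := pow_mem hN 2
  have h4 : (c : G) ^ 4 ∈ Q := by
    apply h.mem_Q_of_cj (pow_mem c0 4)
    intro w
    obtain ⟨b, hb⟩ := hs w
    have e1 : (c : G) ^ 4 = (c : G) ^ 2 * (c : G) ^ 2 := by rw [← pow_add]
    have e2 : h.cj ((c : G) ^ 2) (h.ep b) = h.ep b := by
      rw [pow_two, h.cj_mul hN hN, c1, c1]
    rw [e1, h.cj_mul h2N h2N, hb, h.cj_add h2N, hb, e2, add_assoc, h.sp.add_self, add_zero]
  obtain ⟨m, hm⟩ := h.Q_two ⟨(c : G) ^ 4, h4⟩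
  refine ⟨m + 2, Subtype.ext ?_⟩
  have h1 := congrArg Subtype.val hm
  simp only [SubmonoidClass.coe_pow, OneMemClass.coe_one] at h1 ⊢
  rw [← h1, ← pow_mul, pow_add, mul_comm]
  norm_num

/-- `N(V) ∩ N(R)` normalises `e` -/
theorem cj_ep {s : G} (hV : s ∈ normalizer (V : Set G)) (hR : s ∈ normalizer (R : Set G)) (b : F) :
    ∃ b', h.cj s (h.ep b) = h.ep b' := by
  have h1 : s * v 0 b 0 * s⁻¹ ∈ V := (mem_normalizer_iff.1 hV _).1 (h.v_mem _ _ _)
  have h2 := h.nor s hR _ (h.E_le 0 b)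
  obtain ⟨a, b', d, hd⟩ := h.v_surj _ h1
  rw [← hd] at h2
  have h3 := h.V_Q _ _ _ h2
  subst h3
  refine ⟨b', ?_⟩
  have e : h.cj s (h.ep b) = h.sp.pr (s * v 0 b 0 * s⁻¹) := h.cj_pr hR (h.E_le 0 b)
  rw [e, ← hd, h.pr_E]

/-- `N(V) ∩ N(R)` normalises `e^⊥` -/
theorem Bm_cj {s : G} (hV : s ∈ normalizer (V : Set G)) (hR : s ∈ normalizer (R : Set G)) {w : h.sp.W}
    (hw : h.Bm w = 0) : h.Bm (h.cj s w) = 0 := by
  obtain ⟨x, hx, rfl⟩ := h.sp.pr_surj w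
  rw [h.Bm_pr hx, h.p_eq_zero hx] at hw
  rw [h.cj_pr hR hx, h.Bm_pr (h.nor s hR x hx), h.p_eq_zero (h.nor s hR x hx)]
  exact h.CV_conj hV hw

theorem Xu_conj {s : G} (hV : s ∈ normalizer (V : Set G)) (hR : s ∈ normalizer (R : Set G)) {c : G}
    (hc : c ∈ h.Xu) : s * c * s⁻¹ ∈ h.Xu := by
  obtain ⟨c0, c1, c2, c3⟩ := hc
  have hN := h.CR_le_NR c0
  have hRi := inv_mem hR
  have hVi := inv_mem hV
  have hm : ∀ w, h.cj (s * c * s⁻¹) w = h.cj s (h.cj c (h.cj s⁻¹ w)) := fun w => by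
    rw [h.cj_mul (mul_mem hR hN) hRi, h.cj_mul hR hN]
  have h0 : s * c * s⁻¹ ∈ centralizer (R : Set G) := by
    rw [mem_centralizer_iff] at c0 ⊢
    intro r hr
    have h1 : s⁻¹ * r * s ∈ R := by
      have := (mem_normalizer_iff.1 hRi r).1 hr
      rwa [inv_inv] at this
    have h3 := c0 _ h1
    calc r * (s * c * s⁻¹) = s * ((s⁻¹ * r * s) * c) * s⁻¹ := by group
      _ = s * (c * (s⁻¹ * r * s)) * s⁻¹ := by rw [h3]
      _ = _ := by group
  refine ⟨h0, fun b => ?_, fun w hw => ?_, fun w => ?_⟩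
  · obtain ⟨b', hb'⟩ := h.cj_ep hVi hRi b
    rw [hm, hb', c1, ← hb', h.cj_cj_inv hR]
  · obtain ⟨b, hb⟩ := c2 (h.cj s⁻¹ w) (h.Bm_cj hVi hRi hw)
    obtain ⟨b', hb'⟩ := h.cj_ep hV hR b
    refine ⟨b', ?_⟩
    rw [hm, hb, h.cj_add hR, h.cj_cj_inv hR, hb']
  · have e1 : h.cj c (h.cj s⁻¹ w) = h.cj s⁻¹ w + (h.cj c (h.cj s⁻¹ w) + h.cj s⁻¹ w) := by
      rw [add_comm (h.cj c (h.cj s⁻¹ w)), ← add_assoc, h.sp.add_self, zero_add]
    have e2 : h.Bm (h.cj c (h.cj s⁻¹ w) + h.cj s⁻¹ w) = 0 := by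
      rw [h.Bm_add, c3, T.add_self (h2 := h.h2)]
    rw [hm, e1, h.cj_add hR, h.cj_cj_inv hR, h.Bm_add, h.Bm_cj hV hR e2, add_zero]

theorem Xu_le_S [Finite G] : h.Xu ≤ (S : Subgroup G) := by
  have hn : (S : Subgroup G) ≤ normalizer (h.Xu : Set G) := by
    intro s hs
    rw [mem_normalizer_iff]
    intro c
    constructor
    · exact fun hc => h.Xu_conj (h.S_V hs) (h.S_R hs) hc
    · intro hc
      have h1 := h.Xu_conj (inv_mem (h.S_V hs)) (inv_mem (h.S_R hs)) hc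
      have e : s⁻¹ * (s * c * s⁻¹) * s⁻¹⁻¹ = c := by group
      rwa [e] at h1
  have h1 : IsPGroup 2 ((S : Subgroup G) ⊔ h.Xu : Subgroup G) :=
    S.isPGroup'.to_sup_of_normal_right' h.Xu_two hn
  have h2 := S.is_maximal' h1 le_sup_left
  calc h.Xu ≤ (S : Subgroup G) ⊔ h.Xu := le_sup_right
    _ = S := h2

/-- an element of `Xu` is an element of `C(V)` times an element of `Q` -/
theorem Xu_CV [Finite G] {c : G} (hc : c ∈ h.Xu) : ∃ y ∈ Q, c * y⁻¹ ∈ centralizer (V : Set G) := by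
  have hcS := h.Xu_le_S hc
  obtain ⟨c0, c1, c2, c3⟩ := hc
  refine h.S_U c hcS c0 fun b => ?_
  have h1 : h.sp.pr (c * v 0 b 0 * c⁻¹) = h.sp.pr (v 0 b 0) := by
    have := c1 b
    rwa [show h.ep b = h.sp.pr (v 0 b 0) from rfl, h.cj_pr (h.CR_le_NR c0) (h.E_le 0 b)] at this
  rw [h.sp.pr_eq (h.nor c (h.CR_le_NR c0) _ (h.E_le 0 b)) (h.E_le 0 b), h.mem_R] at h1
  obtain ⟨a, ha⟩ := h1
  refine ⟨a, ?_⟩
  have e : c * v 0 b 0 * c⁻¹ = (c * v 0 b 0 * c⁻¹ * (v 0 b 0)⁻¹) * v 0 b 0 := by group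
  rw [e, ha, ← h.v_add, add_zero, zero_add, add_zero]

end Xu

variable (h : GIn T S V R Q Q' v p p') (sc : Scal h.sp.form)

/-- the unipotent radical of the stabiliser of `e` -/
def JJ : Subgroup (h.M sc ≃ₗ[k] h.M sc) where
  carrier := {g | g ∈ h.H sc ∧ (∀ c, g (h.epM sc c) = h.epM sc c) ∧
    (∀ m, h.BM sc m = 0 → ∃ c, g m - m = h.epM sc c) ∧ ∀ m, h.BM sc (g m - m) = 0}
  one_mem' := ⟨one_mem _, fun _ => rfl, fun m _ => ⟨0, by
    change m - m = _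
    rw [sub_self, map_zero]⟩, fun m => by
    change h.BM sc (m - m) = 0
    rw [sub_self, map_zero]⟩
  mul_mem' := fun {g g'} hg hg' => by
    obtain ⟨g0, g1, g2, g3⟩ := hg
    obtain ⟨k0, k1, k2, k3⟩ := hg'
    refine ⟨mul_mem g0 k0, fun c => ?_, fun m hm => ?_, fun m => ?_⟩
    · change g (g' _) = _
      rw [k1, g1]
    · obtain ⟨c, hc⟩ := k2 m hm
      obtain ⟨c', hc'⟩ := g2 m hm
      refine ⟨c' + c, ?_⟩
      change g (g' m) - m = _
      have e1 : g' m = m + h.epM sc c := by rw [← hc]; abel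
      rw [e1, map_add, g1, map_add, ← hc']
      abel
    · change h.BM sc (g (g' m) - m) = 0
      have e1 : g (g' m) - m = (g (g' m) - g' m) + (g' m - m) := by abel
      rw [e1, map_add, g3, k3, add_zero]
  inv_mem' := fun {g} hg => by
    obtain ⟨g0, g1, g2, g3⟩ := hg
    have hgi : ∀ m, g (g⁻¹ m) = m := fun m => g.apply_symm_apply m
    have hig : ∀ m, g⁻¹ (g m) = m := fun m => g.symm_apply_apply m
    have i1 : ∀ c, g⁻¹ (h.epM sc c) = h.epM sc c := fun c => by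
      have := hig (h.epM sc c)
      rwa [g1] at this
    have i3 : ∀ m, h.BM sc (g⁻¹ m - m) = 0 := fun m => by
      have h1 := g3 (g⁻¹ m)
      rw [hgi] at h1
      have e : g⁻¹ m - m = -(m - g⁻¹ m) := by abel
      rw [e, map_neg, h1, neg_zero]
    refine ⟨inv_mem g0, i1, fun m hm => ?_, i3⟩
    have h1 : h.BM sc (g⁻¹ m) = 0 := by
      have e : g⁻¹ m = (g⁻¹ m - m) + m := by abel
      rw [e, map_add, i3, hm, add_zero]
    obtain ⟨c, hc⟩ := g2 _ h1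
    rw [hgi] at hc
    refine ⟨-c, ?_⟩
    rw [map_neg, ← hc]; abel

variable {h sc}

theorem Ind.cj_eq {g : h.M sc ≃ₗ[k] h.M sc} {c : G} (hc : h.Ind sc g c) (w : h.sp.W) : h.cj c w = g w := by
  obtain ⟨x, hx, rfl⟩ := h.sp.pr_surj w
  rw [h.cj_pr (h.CR_le_NR hc.1) hx]
  exact (hc.2 x hx).symm

theorem Ind.mem_Xu {g : h.M sc ≃ₗ[k] h.M sc} (hg : g ∈ h.JJ sc) {c : G} (hc : h.Ind sc g c) : c ∈ h.Xu := by
  obtain ⟨g0, g1, g2, g3⟩ := hg
  refine ⟨hc.1, fun b => ?_, fun w hw => ?_, fun w => ?_⟩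
  · rw [hc.cj_eq]; exact g1 b
  · obtain ⟨b, hb⟩ := g2 w hw
    refine ⟨b, ?_⟩
    rw [hc.cj_eq]
    exact ((sub_eq_iff_eq_add'.1 hb : g w = _))
  · rw [hc.cj_eq]
    have h1 : ∀ m : h.M sc, h.BM sc (g m) = h.BM sc m := fun m => by
      have := g3 m
      rwa [map_sub, sub_eq_zero] at this
    exact h1 w

/-- `g` induced by `c` is induced by `c y`, `y ∈ Q` -/
theorem Ind.mul_Q {g : h.M sc ≃ₗ[k] h.M sc} {c y : G} (hc : h.Ind sc g c) (hy : y ∈ Q) : h.Ind sc g (c * y) := by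
  refine ⟨mul_mem hc.1 (h.Q_le_CR hy), fun x hx => ?_⟩
  have h1 : h.prM sc x = h.prM sc (y * x * y⁻¹) := by
    rw [h.prM_eq sc hx (mul_mem (mul_mem hy hx) (inv_mem hy))]
    have h2 := inv_mem (h.sp.comm y hy x hx)
    have e : (y * x * y⁻¹ * x⁻¹)⁻¹ = x * (y * x * y⁻¹)⁻¹ := by group
    rwa [e] at h2
  rw [h1, hc.2 _ (mul_mem (mul_mem hy hx) (inv_mem hy))]
  congr 1
  group

/-- **(G)**: the elements of `JJ` are induced by `C_G(V)` -/
theorem JJ_CV [Finite G] {g : h.M sc ≃ₗ[k] h.M sc} (hg : g ∈ h.JJ sc) :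
    ∃ c ∈ centralizer (V : Set G), h.Ind sc g c := by
  obtain ⟨c, hc⟩ := hg.1
  obtain ⟨y, hy, hcy⟩ := h.Xu_CV (hc.mem_Xu hg)
  exact ⟨c * y⁻¹, hcy, hc.mul_Q (inv_mem hy)⟩

end GIn

end Cfsg.Agent.Omega.NOne.SU

end
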