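import Cfsg.Agent.Mrg.Omega.NOne.SU.Grp3
import Cfsg.Agent.Mrg.Omega.NOne.SU.Defs
import Cfsg.Agent.Mrg.Omega.NOne.SU.Grp1
import Cfsg.Agent.Mrg.Omega.NOne.SU.Basic

section


/-!
# THEOREM UNI, group part 6: the C-step

An element `c ∈ C(V)` with `[c, C_Q(V)] ≤ V` acts on `W = Q/R` as an element of `C_{Q'}(V) V`.
-/

set_option autoImplicit false
set_option linter.unusedSectionVars false

open Subgroup

namespace Cfsg.Agent.Omega.NOne.SU

variable {G : Type*} [Group G] {k F : Type*} [Field k] [Field F] [Algebra k F]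

namespace GIn

variable {T : Quad k F} {S : Sylow 2 G} {V R Q Q' : Subgroup G} {v : k → F → k → G} {p p' : G → F}
variable (h : GIn T S V R Q Q' v p p') (sc : Scal h.sp.form)

variable {Φ : Type*} [AddCommGroup Φ] [Module F Φ] {φ χ : G → Φ} (f : Fld T V R Q Q' v p φ χ)

theorem comm_mul_V {c c' x : G} (hc : c ∈ centralizer (V : Set G)) (hV : c' * x * c'⁻¹ * x⁻¹ ∈ V) :
    c * c' * x * (c * c')⁻¹ * x⁻¹ = (c' * x * c'⁻¹ * x⁻¹) * (c * x * c⁻¹ * x⁻¹) := by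
  have h1 := (mem_centralizer_iff.1 hc) _ hV
  calc c * c' * x * (c * c')⁻¹ * x⁻¹ = (c * (c' * x * c'⁻¹ * x⁻¹)) * (x * c⁻¹ * x⁻¹) := by group
    _ = ((c' * x * c'⁻¹ * x⁻¹) * c) * (x * c⁻¹ * x⁻¹) := by rw [h1]
    _ = _ := by group

/-- the elements of `C(V)` which act on `C_Q(V)` through the hermitian form -/
def L1 : Subgroup G where
  carrier := {c | c ∈ centralizer (V : Set G) ∧ ∃ χ0 : Φ, ∀ x ∈ Q, x ∈ centralizer (V : Set G) →
    ∃ a, c * x * c⁻¹ * x⁻¹ = v a (h.hmΦ sc f (φ x) χ0) 0}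
  one_mem' := ⟨one_mem _, 0, fun x _ _ => ⟨0, by
    rw [h.hmΦ_zero_right, h.v_zero]; group⟩⟩
  mul_mem' := by
    rintro c c' ⟨hc, χ0, h0⟩ ⟨hc', χ1, h1⟩
    refine ⟨mul_mem hc hc', χ1 + χ0, fun x hx hxV => ?_⟩
    obtain ⟨a, ha⟩ := h0 x hx hxV
    obtain ⟨a', ha'⟩ := h1 x hx hxV
    refine ⟨a' + a, ?_⟩
    rw [comm_mul_V hc (by rw [ha']; exact h.v_mem _ _ _), ha, ha', ← h.v_add, h.hmΦ_add_right, add_zero]
  inv_mem' := by
    rintro c ⟨hc, χ0, h0⟩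
    refine ⟨inv_mem hc, χ0, fun x hx hxV => ?_⟩
    obtain ⟨a, ha⟩ := h0 x hx hxV
    refine ⟨a, ?_⟩
    have h1 := (mem_centralizer_iff.1 hc) _ (inv_mem (h.v_mem a (h.hmΦ sc f (φ x) χ0) 0))
    calc c⁻¹ * x * c⁻¹⁻¹ * x⁻¹ = c⁻¹ * (c * x * c⁻¹ * x⁻¹)⁻¹ * c := by group
      _ = c⁻¹ * ((v a (h.hmΦ sc f (φ x) χ0) 0)⁻¹ * c) := by rw [ha]; group
      _ = c⁻¹ * (c * (v a (h.hmΦ sc f (φ x) χ0) 0)⁻¹) := by rw [h1]
      _ = (v a (h.hmΦ sc f (φ x) χ0) 0)⁻¹ := by group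
      _ = _ := h.v_inv _ _ _

theorem L1_Q {x : G} (hx : x ∈ Q) (hxV : x ∈ centralizer (V : Set G)) : x ∈ h.L1 sc f := by
  refine ⟨hxV, 0, fun y hy hyV => ?_⟩
  obtain ⟨a, ha⟩ := h.mem_R.1 (h.sp.comm x hx y hy)
  exact ⟨a, by rw [ha, h.hmΦ_zero_right]⟩

theorem L1_Q' {n : G} (hn : n ∈ Q') (hnV : n ∈ centralizer (V : Set G)) : n ∈ h.L1 sc f :=
  ⟨hnV, χ n, fun _ hy hyV => ⟨0, h.JP_n sc f hn hnV hy hyV⟩⟩

/-- the elements `t ∈ N(V)` with `[t, C(V)] ≤ L1` -/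
def L2 : Subgroup G where
  carrier := {t | t ∈ normalizer (V : Set G) ∧ ∀ c ∈ centralizer (V : Set G), t * c * t⁻¹ * c⁻¹ ∈ h.L1 sc f}
  one_mem' := ⟨one_mem _, fun c _ => by
    have e : 1 * c * 1⁻¹ * c⁻¹ = 1 := by group
    rw [e]; exact one_mem _⟩
  mul_mem' := by
    rintro t t' ⟨ht, h1⟩ ⟨ht', h2⟩
    refine ⟨mul_mem ht ht', fun c hc => ?_⟩
    have h3 := h2 c hc
    have h4 := h1 _ h3.1
    have h5 := mul_mem (mul_mem h4 h3) (h1 c hc)
    have e : t * (t' * c * t'⁻¹ * c⁻¹) * t⁻¹ * (t' * c * t'⁻¹ * c⁻¹)⁻¹ * (t' * c * t'⁻¹ * c⁻¹) *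
        (t * c * t⁻¹ * c⁻¹) = t * t' * c * (t * t')⁻¹ * c⁻¹ := by group
    rwa [e] at h5
  inv_mem' := by
    rintro t ⟨ht, h1⟩
    refine ⟨inv_mem ht, fun c hc => ?_⟩
    have h3 : t⁻¹ * c * t⁻¹⁻¹ ∈ centralizer (V : Set G) := h.CV_conj (inv_mem ht) hc
    have h4 := inv_mem (h1 _ h3)
    have e : (t * (t⁻¹ * c * t⁻¹⁻¹) * t⁻¹ * (t⁻¹ * c * t⁻¹⁻¹)⁻¹)⁻¹ = t⁻¹ * c * t⁻¹⁻¹ * c⁻¹ := by group
    rwa [e] at h4

theorem QQ'_le : Q ⊔ Q' ≤ h.L2 sc f := by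
  apply sup_le
  · intro t ht
    refine ⟨h.Q_le_N ht, fun c hc => ?_⟩
    have h1 := h.comm_CV hc ht
    have h2 := inv_mem (h.L1_Q sc f h1.1 h1.2)
    have e : (c * t * c⁻¹ * t⁻¹)⁻¹ = t * c * t⁻¹ * c⁻¹ := by group
    rwa [e] at h2
  · intro t ht
    refine ⟨h.Q'_le_N t ht, fun c hc => ?_⟩
    have h1 : t * c * t⁻¹ * c⁻¹ ∈ Q' := by
      have := h.nor' c hc t⁻¹ (inv_mem ht)
      have e : t * c * t⁻¹ * c⁻¹ = t * (c * t⁻¹ * c⁻¹) := by group
      rw [e]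
      exact mul_mem ht this
    exact h.L1_Q' sc f h1 (mul_mem (h.CV_conj (h.Q'_le_N t ht) hc) (inv_mem hc))

/-- there is a scalar `s ≠ 0, 1` -/
theorem exists_s (T : Quad k F) : ∃ s : k, s ≠ 0 ∧ s ≠ 1 := by
  have := T.fink
  by_contra hcon
  push Not at hcon
  have h1 : Nat.card k ≤ Nat.card Bool := by
    classical
    apply Nat.card_le_card_of_injective (fun s : k => decide (s = 0))
    intro a b hab
    simp only [decide_eq_decide] at hab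
    by_cases ha : a = 0
    · rw [ha, hab.1 ha]
    · rw [hcon a ha, hcon b (fun hb => ha (hab.2 hb))]
  have h2 := T.four
  have h3 : Nat.card Bool = 2 := by simp
  omega

/-- **the C-step, first half**: `c ∈ C(V)`, `[c, C_Q(V)] ≤ V` ⇒ `c` acts through the hermitian form -/
theorem L1_of [Finite G] {c : G} (hc : c ∈ centralizer (V : Set G))
    (hB : ∀ x ∈ Q, x ∈ centralizer (V : Set G) → ∃ a b, c * x * c⁻¹ * x⁻¹ = v a b 0) : c ∈ h.L1 sc f := by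
  classical
  have hcR := h.CV_le_CR hc
  -- `θ`
  have hwell : ∀ x ∈ Q, x ∈ centralizer (V : Set G) → ∀ x' ∈ Q, x' ∈ centralizer (V : Set G) → φ x = φ x' →
      ∀ a b a' b', c * x * c⁻¹ * x⁻¹ = v a b 0 → c * x' * c⁻¹ * x'⁻¹ = v a' b' 0 → b = b' := by
    intro x hx hxV x' hx' hxV' e a b a' b' h1 h2
    obtain ⟨a₀, b₀, h0⟩ := h.φ_eq f hx hxV hx' hxV' e
    have h3 : c * v a₀ b₀ 0 = v a₀ b₀ 0 * c := ((mem_centralizer_iff.1 hc) _ (h.v_mem _ _ _)).symm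
    have h4 : c * x * c⁻¹ * x⁻¹ = v a₀ b₀ 0 * (c * x' * c⁻¹ * x'⁻¹) * (v a₀ b₀ 0)⁻¹ := by
      rw [h0]
      calc c * (v a₀ b₀ 0 * x') * c⁻¹ * (v a₀ b₀ 0 * x')⁻¹ = (c * v a₀ b₀ 0) * x' * c⁻¹ * x'⁻¹ * (v a₀ b₀ 0)⁻¹ := by
            group
        _ = _ := by rw [h3]; group
    rw [h1, h2, h.v_comm, mul_inv_cancel_right] at h4
    exact (h.v_eq h4).2.1
  let xx : Φ → G := fun u => (f.φ_surj u).choose
  have hxQ : ∀ u, xx u ∈ Q := fun u => (f.φ_surj u).choose_spec.1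
  have hxV : ∀ u, xx u ∈ centralizer (V : Set G) := fun u => (f.φ_surj u).choose_spec.2.1
  have hxφ : ∀ u, φ (xx u) = u := fun u => (f.φ_surj u).choose_spec.2.2
  let θ : Φ → F := fun u => (hB (xx u) (hxQ u) (hxV u)).choose_spec.choose
  have hθ0 : ∀ u, ∃ a, c * xx u * c⁻¹ * (xx u)⁻¹ = v a (θ u) 0 := fun u =>
    ⟨(hB (xx u) (hxQ u) (hxV u)).choose, (hB (xx u) (hxQ u) (hxV u)).choose_spec.choose_spec⟩
  have hθ : ∀ x ∈ Q, x ∈ centralizer (V : Set G) → ∃ a, c * x * c⁻¹ * x⁻¹ = v a (θ (φ x)) 0 := by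
    intro x hx hxV'
    obtain ⟨a, b, hab⟩ := hB x hx hxV'
    obtain ⟨a', ha'⟩ := hθ0 (φ x)
    have := hwell x hx hxV' _ (hxQ _) (hxV _) (hxφ _).symm a b a' _ hab ha'
    exact ⟨a, by rw [hab, this]⟩
  -- `θ` is `k`-linear
  let _ : Module k Φ := Module.compHom Φ (algebraMap k F)
  have _ : IsScalarTower k F Φ := IsScalarTower.of_algebraMap_smul fun _ _ => rfl
  have hlin : ∀ (s : k) (u : Φ), θ (algebraMap k F s • u) = algebraMap k F s * θ u := by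
    intro s u
    obtain ⟨x, hx, hxV', rfl⟩ := f.φ_surj u
    obtain ⟨x2, hx2, he⟩ := h.prM_surj sc (s • h.prM sc x)
    have hxV2 : x2 ∈ centralizer (V : Set G) := by
      rw [← h.BM_eq_zero sc hx2, he, map_smul, (h.BM_eq_zero sc hx).2 hxV', smul_zero]
    have h1 := h.φ_smul sc f s hx hxV' hx2 hxV2 he
    have h3 : algebraMap k F s • φ x = φ x2 := by rw [h1, algebraMap_smul]
    obtain ⟨a, ha⟩ := hθ x hx hxV'
    obtain ⟨a2, ha2⟩ := hθ x2 hx2 hxV2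
    have h4 := h.prM_comm sc hcR hx
    have h5 := h.prM_comm sc hcR hx2
    rw [ha, h.prM_E] at h4
    rw [ha2, h.prM_E, he, map_smul, h4, smul_add] at h5
    have h6 := add_left_cancel h5
    rw [← map_smul] at h6
    rw [h3, ← h.epM_inj sc h6, Algebra.smul_def]
  obtain ⟨s, hs0, hs1⟩ := exists_s T
  have hz : algebraMap k F s ≠ 0 := by
    rw [Ne, map_eq_zero]; exact hs0
  obtain ⟨t, htQ, ht1, -, ht3, -⟩ := f.tor _ hz
  have htR := h.tor_NR hz ht1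
  have htV := h.tor_NV hz ht1
  have h1 := ((h.QQ'_le sc f) htQ).2 c hc
  obtain ⟨-, χ0, hχ0⟩ := h1
  -- `[t c t⁻¹, x]`
  have h2 : ∀ x ∈ Q, x ∈ centralizer (V : Set G) →
      ∃ a, (t * c * t⁻¹) * x * (t * c * t⁻¹)⁻¹ * x⁻¹ = v a (algebraMap k F s⁻¹ * θ (φ x)) 0 := by
    intro x hx hxV'
    have hx1 : t⁻¹ * x * t ∈ Q := h.nor_inv htR hx
    have hx2 : t⁻¹ * x * t ∈ centralizer (V : Set G) := by
      have := h.CV_conj (inv_mem htV) hxV'
      rwa [inv_inv] at this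
    have h3 : φ (t⁻¹ * x * t) = algebraMap k F s⁻¹ • φ x := by
      have h4 := ht3 _ hx1 hx2
      have e : t * (t⁻¹ * x * t) * t⁻¹ = x := by group
      rw [e] at h4
      rw [h4, smul_smul, ← map_mul, inv_mul_cancel₀ hs0, map_one, one_smul]
    obtain ⟨a, ha⟩ := hθ _ hx1 hx2
    rw [h3, hlin] at ha
    have h5 := ht1 a (algebraMap k F s⁻¹ * θ (φ x)) 0
    rw [T.sg_alg, mul_inv_cancel₀ hz, one_mul, mul_zero] at h5
    refine ⟨_, Eq.trans ?_ h5⟩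
    rw [← ha]
    group
  -- so `θ = (s⁻¹ + 1)⁻¹ hm (·, χ0)`
  have hs : s⁻¹ + 1 ≠ 0 := by
    intro h3
    apply hs1
    have h4 : s * (s⁻¹ + 1) = 0 := by rw [h3, mul_zero]
    rw [mul_add, mul_inv_cancel₀ hs0, mul_one] at h4
    calc s = (1 + s) + 1 + (-(1 + 1)) := by ring
      _ = 1 := by
        rw [h4]
        have := h.h2
        have e : (1 : k) + 1 = 2 := by norm_num
        rw [e, this]; ring
  have h3 : ∀ u, h.hmΦ sc f u χ0 = algebraMap k F (s⁻¹ + 1) * θ u := by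
    intro u
    obtain ⟨x, hx, hxV', rfl⟩ := f.φ_surj u
    obtain ⟨a, ha⟩ := hχ0 x hx hxV'
    obtain ⟨a1, ha1⟩ := h2 x hx hxV'
    obtain ⟨a2, ha2⟩ := hθ x hx hxV'
    have h4 : c⁻¹ * x * c⁻¹⁻¹ * x⁻¹ = v a2 (θ (φ x)) 0 := by
      have h5 := (mem_centralizer_iff.1 hc) _ (inv_mem (h.v_mem a2 (θ (φ x)) 0))
      calc c⁻¹ * x * c⁻¹⁻¹ * x⁻¹ = c⁻¹ * (c * x * c⁻¹ * x⁻¹)⁻¹ * c := by group
        _ = c⁻¹ * ((v a2 (θ (φ x)) 0)⁻¹ * c) := by rw [ha2]; group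
        _ = c⁻¹ * (c * (v a2 (θ (φ x)) 0)⁻¹) := by rw [h5]
        _ = (v a2 (θ (φ x)) 0)⁻¹ := by group
        _ = _ := h.v_inv _ _ _
    have h6 := comm_mul_V (V := V) (c := t * c * t⁻¹) (c' := c⁻¹) (x := x) (h.CV_conj htV hc)
      (by rw [h4]; exact h.v_mem _ _ _)
    rw [h4, ha1, ← h.v_add, ha, add_zero] at h6
    rw [(h.v_eq h6).2.1, map_add, map_one]
    ring
  refine ⟨hc, (algebraMap k F (s⁻¹ + 1))⁻¹ • χ0, fun x hx hxV' => ?_⟩
  obtain ⟨a, ha⟩ := hθ x hx hxV'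
  refine ⟨a, ?_⟩
  have h5 : algebraMap k F (s⁻¹ + 1) ≠ 0 := by
    rw [Ne, map_eq_zero]; exact hs
  rw [ha, h.hmΦ_smul_right, h3, map_inv₀, T.sg_alg, inv_mul_cancel_left₀ h5]

include h sc f in
/-- **the C-step** -/
theorem cstep [Finite G] {c : G} (hc : c ∈ centralizer (V : Set G))
    (hB : ∀ x ∈ Q, x ∈ centralizer (V : Set G) → ∃ a b, c * x * c⁻¹ * x⁻¹ = v a b 0) :
    ∃ n ∈ Q', n ∈ centralizer (V : Set G) ∧ ∃ d, c * n⁻¹ * v 0 0 d ∈ Q := by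
  obtain ⟨-, χ1, hχ1⟩ := h.L1_of sc f hc hB
  obtain ⟨n, hn, hnV, rfl⟩ := f.χ_surj χ1
  refine ⟨n, hn, hnV, ?_⟩
  have hc1 : c * n⁻¹ ∈ centralizer (V : Set G) := mul_mem hc (inv_mem hnV)
  have hc1R := h.CV_le_CR hc1
  have h1 : ∀ x ∈ Q, x ∈ centralizer (V : Set G) → c * n⁻¹ * x * (c * n⁻¹)⁻¹ * x⁻¹ ∈ R := by
    intro x hx hxV
    obtain ⟨a, ha⟩ := hχ1 x hx hxV
    have h2 := h.JP_n sc f hn hnV hx hxV
    have h4 : n⁻¹ * x * n⁻¹⁻¹ * x⁻¹ = v 0 (h.hmΦ sc f (φ x) (χ n)) 0 := by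
      have h5 := (mem_centralizer_iff.1 hnV) _ (inv_mem (h.v_mem 0 (h.hmΦ sc f (φ x) (χ n)) 0))
      calc n⁻¹ * x * n⁻¹⁻¹ * x⁻¹ = n⁻¹ * (n * x * n⁻¹ * x⁻¹)⁻¹ * n := by group
        _ = n⁻¹ * ((v 0 (h.hmΦ sc f (φ x) (χ n)) 0)⁻¹ * n) := by rw [h2]; group
        _ = n⁻¹ * (n * (v 0 (h.hmΦ sc f (φ x) (χ n)) 0)⁻¹) := by rw [h5]
        _ = (v 0 (h.hmΦ sc f (φ x) (χ n)) 0)⁻¹ := by group
        _ = _ := h.v_inv _ _ _
    rw [comm_mul_V hc (by rw [h4]; exact h.v_mem _ _ _), h4, ha, ← h.v_add, T.add_self (h2 := h.h2), add_zero]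
    exact h.mem_R.2 ⟨_, rfl⟩
  apply h.act_as_V sc hc1R _ h1
  intro y hy
  have h2 := h.comm_CV hc1 hy
  apply h.mem_E_of_comm (sc := sc) h2.1
  intro x hx hxV
  have h3 := isom (ind_linC (sc := sc) _ hc1R).mem (h.prM sc x) (h.prM sc y)
  rw [h.prM_comm sc hc1R hx, h.prM_comm sc hc1R hy, (h.prM_eq_zero sc (h.comm_CV hc1 hx).1).2 (h1 x hx hxV),
    add_zero, map_add, h.fM_pr sc hx h2.1] at h3
  have h4 := (h.sp.co_eq_zero (h.sp.comm x hx _ h2.1)).1 (add_eq_left.1 h3)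
  set u := c * n⁻¹ * y * (c * n⁻¹)⁻¹ * y⁻¹ with hu
  calc u * x = (x * u * x⁻¹ * u⁻¹)⁻¹ * (x * u) := by group
    _ = x * u := by rw [h4, inv_one, one_mul]

end GIn

end Cfsg.Agent.Omega.NOne.SU

end

section


/-!
# THEOREM UNI, group part: the torus of `Uni`

`exists_tM` : the homomorphism `t : Fˣ → GL(W)` with the fields `tH, te, tB, ty, tf` of `Uni` (`TorusHom.Wt`).
-/

set_option autoImplicit false

open Subgroup

namespace Cfsg.Agent.Omega.NOne.SU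

variable {G : Type*} [Group G] {k F : Type*} [Field k] [Field F] [Algebra k F]

namespace GIn

variable {T : Quad k F} {S : Sylow 2 G} {V R Q Q' : Subgroup G} {v : k → F → k → G} {p p' : G → F}
  {Φ : Type*} [AddCommGroup Φ] [Module F Φ] {φ χ : G → Φ}

/-- an element of the torus normalises `R` -/
theorem tor_mem_NR [Finite G] (h : GIn T S V R Q Q' v p p') {t : G} {z : F}
    (ht : ∀ a b d, t * v a b d * t⁻¹ = v (T.nm z * a) (z * (T.sg z)⁻¹ * b) ((T.nm z)⁻¹ * d)) :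
    t ∈ normalizer (R : Set G) := by
  have hR : ∀ x ∈ R, t * x * t⁻¹ ∈ R := by
    intro x hx
    obtain ⟨a, rfl⟩ := h.mem_R.1 hx
    rw [ht, mul_zero, mul_zero]
    exact h.mem_R.2 ⟨_, rfl⟩
  have hinj : Function.Injective (fun y : R => (⟨t * y * t⁻¹, hR y y.2⟩ : R)) := by
    intro y z hyz
    have h1 := congrArg Subtype.val hyz
    exact Subtype.ext (mul_left_cancel (mul_right_cancel h1))
  have hsurj := Finite.surjective_of_injective hinj
  rw [mem_normalizer_iff]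
  intro y
  refine ⟨hR y, fun hy => ?_⟩
  obtain ⟨z, hz⟩ := hsurj ⟨_, hy⟩
  have h1 : t * (z : G) * t⁻¹ = t * y * t⁻¹ := congrArg Subtype.val hz
  have h3 : (z : G) = y := mul_left_cancel (mul_right_cancel h1)
  rw [← h3]; exact z.2

/-- **the torus element of weight `z`** -/
theorem wt_lin [Finite G] (h : GIn T S V R Q Q' v p p') (sc : Scal h.sp.form) [Module k Φ]
    (y : h.M sc →ₗ[k] Φ) (hy : ∀ x ∈ Q, x ∈ centralizer (V : Set G) → y (h.prM sc x) = φ x) {t : G} {z : F}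
    (h1 : ∀ a b d, t * v a b d * t⁻¹ = v (T.nm z * a) (z * (T.sg z)⁻¹ * b) ((T.nm z)⁻¹ * d))
    (h2 : ∀ y ∈ Q, t * y * t⁻¹ ∈ Q ∧ p (t * y * t⁻¹) = z ^ 2 * p y)
    (h3 : ∀ x ∈ Q, x ∈ centralizer (V : Set G) → φ (t * x * t⁻¹) = z • φ x)
    (hs : ∀ a, t * v a 0 0 * t⁻¹ = v (T.nm z * a) 0 0) :
    TorusHom.Wt T (h.fM sc) (h.H sc) (h.epM sc) (h.BM sc) y (h.lin sc t (h.tor_mem_NR h1) (T.nm z) hs) z := by
  have htR := h.tor_mem_NR h1
  set τ := h.lin sc t htR (T.nm z) hs with hτ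
  have hpr : ∀ x ∈ Q, τ (h.prM sc x) = h.prM sc (t * x * t⁻¹) := fun x hx => h.lin_pr sc t htR _ hs hx
  have hpi : ∀ x ∈ Q, τ⁻¹ (h.prM sc x) = h.prM sc (t⁻¹ * x * t) := by
    intro x hx
    have hx' : t⁻¹ * x * t ∈ Q := h.nor_inv htR hx
    have e : τ (h.prM sc (t⁻¹ * x * t)) = h.prM sc x := by
      rw [hpr _ hx']; congr 1; group
    rw [← e]
    exact τ.symm_apply_apply _
  refine ⟨?_, ?_, ?_, ?_, ?_⟩
  · rintro g ⟨c, hc⟩
    have hcR : t * c * t⁻¹ ∈ centralizer (R : Set G) := by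
      rw [mem_centralizer_iff]
      intro r hr
      have h4 : t⁻¹ * r * t ∈ R := by
        have := (mem_normalizer_iff.1 (inv_mem htR) r).1 hr
        rwa [inv_inv] at this
      have h5 := (mem_centralizer_iff.1 hc.1) _ h4
      calc r * (t * c * t⁻¹) = t * ((t⁻¹ * r * t) * c) * t⁻¹ := by group
        _ = t * (c * (t⁻¹ * r * t)) * t⁻¹ := by rw [h5]
        _ = _ := by group
    refine ⟨t * c * t⁻¹, hcR, fun x hx => ?_⟩
    have hx' : t⁻¹ * x * t ∈ Q := h.nor_inv htR hx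
    have e : (τ * g * τ⁻¹) (h.prM sc x) = τ (g (τ⁻¹ (h.prM sc x))) := rfl
    rw [e, hpi x hx, hc.2 _ hx', hpr _ (h.nor c (h.CR_le_NR hc.1) _ hx')]
    congr 1
    group
  · intro c
    rw [← h.prM_E sc 0 c, hpr _ (h.E_le 0 c), h1, mul_zero, mul_zero, h.prM_E]
  · intro m
    obtain ⟨x, hx, rfl⟩ := h.prM_surj sc m
    rw [hpr x hx, h.BM_pr sc (h2 x hx).1, h.BM_pr sc hx, (h2 x hx).2]
  · intro m hm
    obtain ⟨x, hx, rfl⟩ := h.prM_surj sc m
    rw [h.BM_pr sc hx] at hm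
    have hxV := (h.p_eq_zero hx).1 hm
    have hx' := h2 x hx
    have hx'V : t * x * t⁻¹ ∈ centralizer (V : Set G) := by
      rw [← h.p_eq_zero hx'.1, hx'.2, hm, mul_zero]
    rw [hpr x hx, hy _ hx'.1 hx'V, hy x hx hxV, h3 x hx hxV]
  · intro m m'
    exact h.lin_f sc t htR _ hs m m'

/-- **the torus** -/
theorem exists_tM [Finite G] (h : GIn T S V R Q Q' v p p') (sc : Scal h.sp.form) (f : Fld T V R Q Q' v p φ χ)
    [Module k Φ] (y : h.M sc →ₗ[k] Φ)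
    (hy : ∀ x ∈ Q, x ∈ centralizer (V : Set G) → y (h.prM sc x) = φ x)
    (y_ker : ∀ m, h.BM sc m = 0 → y m = 0 → ∃ c, m = h.epM sc c) :
    ∃ t : Fˣ →* (h.M sc ≃ₗ[k] h.M sc),
      ∀ z : Fˣ, TorusHom.Wt T (h.fM sc) (h.H sc) (h.epM sc) (h.BM sc) y (t z) (z : F) := by
  have hfin : Finite F := by
    apply Nat.finite_of_card_ne_zero
    rw [T.card]
    have := T.four
    positivity
  have : Finite (h.M sc) := h.finiteM sc
  have : CharP k 2 := CharTwo.of_one_ne_zero_of_two_eq_zero one_ne_zero h.h2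
  obtain ⟨z0, hz0⟩ := IsCyclic.exists_generator (α := Fˣ)
  obtain ⟨t, -, h1, h2, h3, -⟩ := f.tor (z0 : F) z0.ne_zero
  have hs : ∀ a, t * v a 0 0 * t⁻¹ = v (T.nm (z0 : F) * a) 0 0 := fun a => by
    rw [h1, mul_zero, mul_zero]
  obtain ⟨tt, htt, -⟩ := TorusHom.exists_t y_ker hz0 (h.wt_lin sc y hy h1 h2 h3 hs)
  exact ⟨tt, htt⟩

/-- **the field `Om` of `Uni`** -/
theorem OmH [Finite G] (h : GIn T S V R Q Q' v p p') (sc : Scal h.sp.form) (f : Fld T V R Q Q' v p φ χ) :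
    ∀ N : Submodule k (h.M sc), (∀ g ∈ h.H sc, ∀ c, g (h.epM sc c) ∈ N) → N = ⊤ := by
  intro N hN
  have h1 : (N.toAddSubgroup : AddSubgroup h.sp.W) = ⊤ := by
    refine h.span f _ ?_
    intro c hc b
    exact hN _ (ind_linC c hc).mem b
  rw [eq_top_iff]
  intro x _
  have h2 : (x : h.sp.W) ∈ (N.toAddSubgroup : AddSubgroup h.sp.W) := by rw [h1]; trivial
  exact h2

end GIn

end Cfsg.Agent.Omega.NOne.SU

end

section


/-!
# THEOREM UNI, group part: an elementary abelian 2-subgroup of the stabiliser of `e`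
acts on `e` as a group of order `≤ 2`

`Se_grp`: the group form (from `S_2` by Sylow's theorem in `N(R) ∩ N(E)`), `Se_cj`: on `W = Q/R`.
-/

set_option autoImplicit false

open Subgroup

namespace Cfsg.Agent.Omega.NOne.SU

variable {G : Type*} [Group G] {k F : Type*} [Field k] [Field F] [Algebra k F]

namespace GIn

variable {T : Quad k F} {S : Sylow 2 G} {V R Q Q' : Subgroup G} {v : k → F → k → G} {p p' : G → F}
  (h : GIn T S V R Q Q' v p p')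
include h

theorem mem_E {x : G} : x ∈ V ⊓ Q ↔ ∃ a b, x = v a b 0 := by
  constructor
  · rintro ⟨hx, hq⟩
    obtain ⟨a, b, d, rfl⟩ := h.v_surj x hx
    have := h.V_Q a b d hq
    subst this
    exact ⟨a, b, rfl⟩
  · rintro ⟨a, b, rfl⟩
    exact ⟨h.v_mem _ _ _, h.E_le _ _⟩

/-- `N(R)` normalises `Q` -/
theorem NR_le_NQ : normalizer (R : Set G) ≤ normalizer (Q : Set G) := by
  intro c hc
  rw [mem_normalizer_iff]
  intro y
  constructor
  · exact fun hy => h.nor c hc y hy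
  · intro hy
    have := h.nor_inv hc hy
    have e : c⁻¹ * (c * y * c⁻¹) * c = y := by group
    rwa [e] at this

/-- an element of `C(R)` which is trivial on `Q/R` is in `Q`. -/
theorem mem_Q_of_triv {c : G} (hc : c ∈ centralizer (R : Set G))
    (ht : ∀ y ∈ Q, c * y * c⁻¹ * y⁻¹ ∈ R) : c ∈ Q := by
  have hR : ∀ c ∈ centralizer (R : Set G), ∀ r ∈ R, c * r * c⁻¹ = r := by
    intro c hc r hr
    rw [mem_centralizer_iff] at hc
    rw [← hc r hr]; group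
  let N : Subgroup G :=
    { carrier := {x | x ∈ centralizer (R : Set G) ∧ ∀ y ∈ Q, x * y * x⁻¹ * y⁻¹ ∈ R}
      one_mem' := ⟨one_mem _, fun y _ => by
        have e : 1 * y * 1⁻¹ * y⁻¹ = 1 := by group
        rw [e]; exact one_mem _⟩
      mul_mem' := fun {a b} ha hb => ⟨mul_mem ha.1 hb.1, fun y hy => by
        have h1 := hR a ha.1 _ (hb.2 y hy)
        have h3 := mul_mem (hb.2 y hy) (ha.2 y hy)
        have e : a * b * y * (a * b)⁻¹ * y⁻¹ =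
          (a * (b * y * b⁻¹ * y⁻¹) * a⁻¹) * (a * y * a⁻¹ * y⁻¹) := by group
        rw [e, h1]; exact h3⟩
      inv_mem' := fun {a} ha => ⟨inv_mem ha.1, fun y hy => by
        have h1 := hR a⁻¹ (inv_mem ha.1) _ (inv_mem (ha.2 y hy))
        have e : a⁻¹ * y * a⁻¹⁻¹ * y⁻¹ = a⁻¹ * (a * y * a⁻¹ * y⁻¹)⁻¹ * a⁻¹⁻¹ := by group
        rw [e, h1]; exact inv_mem (ha.2 y hy)⟩ }
  have hN2 : ∀ x ∈ N, x * x ∈ Q := by
    intro x hx
    apply h.char2
    rw [mem_centralizer_iff]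
    intro y hy
    set r := x * y * x⁻¹ * y⁻¹ with hr
    have hrR : r ∈ R := hx.2 y hy
    have h1 : x * y * x⁻¹ = r * y := by rw [hr]; group
    have h3 := hR x hx.1 r hrR
    have h5 : x * x * y * (x * x)⁻¹ = y := by
      calc x * x * y * (x * x)⁻¹ = x * (x * y * x⁻¹) * x⁻¹ := by group
        _ = x * (r * y) * x⁻¹ := by rw [h1]
        _ = (x * r * x⁻¹) * (x * y * x⁻¹) := by group
        _ = r * r * y := by rw [h3, h1]; group
        _ = y := by rw [h.sp.r_sq hrR, one_mul]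
    calc y * (x * x) = (x * x * y * (x * x)⁻¹) * (x * x) := by rw [h5]
      _ = x * x * y := by group
  refine h.max N ?_ (fun x hx => hx.1) ?_ ⟨hc, ht⟩
  · intro x
    obtain ⟨m, hm⟩ := h.Q_two ⟨(x : G) * x, hN2 x x.2⟩
    refine ⟨m + 1, Subtype.ext ?_⟩
    have h1 := congrArg Subtype.val hm
    simp only [SubmonoidClass.coe_pow, OneMemClass.coe_one] at h1 ⊢
    rw [← h1, ← pow_two, ← pow_mul, pow_succ, mul_comm]
  · intro d hd x hx
    refine ⟨mul_mem (mul_mem hd hx.1) (inv_mem hd), fun y hy => ?_⟩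
    have h1 := hx.2 _ (h.nor_inv (h.CR_le_NR hd) hy)
    have e : d * x * d⁻¹ * y * (d * x * d⁻¹)⁻¹ * y⁻¹ =
      d * (x * (d⁻¹ * y * d) * x⁻¹ * (d⁻¹ * y * d)⁻¹) * d⁻¹ := by group
    rw [e, hR d hd _ h1]
    exact h1

/-- trivial on `E/R` -/
theorem triv_iff {s : G} (hs : s ∈ centralizer (R : Set G)) :
    (∀ b, ∃ a, s * v 0 b 0 * s⁻¹ = v a b 0) ↔ ∀ e ∈ V ⊓ Q, s * e * s⁻¹ * e⁻¹ ∈ R := by
  constructor
  · intro ht e he
    obtain ⟨a, b, rfl⟩ := h.mem_E.1 he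
    obtain ⟨a', ha'⟩ := ht b
    have e1 : v a b 0 = v a 0 0 * v 0 b 0 := by rw [← h.v_add, add_zero, zero_add, add_zero]
    have e2 : s * v a b 0 * s⁻¹ * (v a b 0)⁻¹ =
        (s * v a 0 0 * s⁻¹) * (s * v 0 b 0 * s⁻¹) * (v a b 0)⁻¹ := by rw [e1]; group
    rw [e2, h.CR_v hs, ha', h.v_inv, ← h.v_add, ← h.v_add]
    refine h.mem_R.2 ⟨a + a' + a, ?_⟩
    rw [zero_add, T.add_self (h2 := h.h2), add_zero, add_zero]
  · intro ht b
    have h1 := ht _ (h.mem_E.2 ⟨0, b, rfl⟩)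
    obtain ⟨a, ha⟩ := h.mem_R.1 h1
    refine ⟨a, ?_⟩
    have h3 : s * v 0 b 0 * s⁻¹ = v a 0 0 * v 0 b 0 := by rw [← ha]; group
    rw [h3, ← h.v_add, add_zero, zero_add, add_zero]

/-- **`Se`, the group form** -/
theorem Se_grp [Finite G] {c c' : G} (hc : c ∈ centralizer (R : Set G))
    (hc' : c' ∈ centralizer (R : Set G)) (hE : ∀ e ∈ V ⊓ Q, c * e * c⁻¹ ∈ V ⊓ Q)
    (hE' : ∀ e ∈ V ⊓ Q, c' * e * c'⁻¹ ∈ V ⊓ Q) (h2c : c * c ∈ Q) (h2c' : c' * c' ∈ Q)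
    (hcc : c * c' * c⁻¹ * c'⁻¹ ∈ Q) :
    (∀ e ∈ V ⊓ Q, c * e * c⁻¹ * e⁻¹ ∈ R) ∨ (∀ e ∈ V ⊓ Q, c' * e * c'⁻¹ * e⁻¹ ∈ R) ∨
      (∀ e ∈ V ⊓ Q, (c * c') * e * (c * c')⁻¹ * e⁻¹ ∈ R) := by
  classical
  -- normalisers, in a finite group
  have hnorm : ∀ (A : Subgroup G) (x : G), (∀ y ∈ A, x * y * x⁻¹ ∈ A) → x ∈ normalizer (A : Set G) := by
    intro A x hx
    have hinj : Function.Injective (fun y : A => (⟨x * y * x⁻¹, hx y y.2⟩ : A)) := by
      intro y z hyz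
      have h1 := congrArg Subtype.val hyz
      exact Subtype.ext (mul_left_cancel (mul_right_cancel h1))
    have hsurj := Finite.surjective_of_injective hinj
    rw [mem_normalizer_iff]
    intro y
    refine ⟨hx y, fun hy => ?_⟩
    obtain ⟨z, hz⟩ := hsurj ⟨_, hy⟩
    have h1 : x * (z : G) * x⁻¹ = x * y * x⁻¹ := congrArg Subtype.val hz
    have h3 : (z : G) = y := mul_left_cancel (mul_right_cancel h1)
    rw [← h3]; exact z.2
  have hcN := h.CR_le_NR hc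
  have hcN' := h.CR_le_NR hc'
  set E : Subgroup G := V ⊓ Q with hEdef
  let X : Subgroup G := normalizer (R : Set G) ⊓ normalizer (E : Set G)
  have hcX : c ∈ X := ⟨hcN, hnorm E c hE⟩
  have hcX' : c' ∈ X := ⟨hcN', hnorm E c' hE'⟩
  have hQX : Q ≤ X := by
    intro y hy
    refine ⟨h.CR_le_NR (h.Q_le_CR hy), hnorm E y ?_⟩
    intro e he
    obtain ⟨a, b, rfl⟩ := h.mem_E.1 he
    rw [h.act y hy, map_zero, mul_zero, mul_zero, add_zero, add_zero]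
    exact h.mem_E.2 ⟨_, _, rfl⟩
  have hSX : (S : Subgroup G) ≤ X := by
    intro s hs
    refine ⟨h.S_R hs, hnorm E s ?_⟩
    intro e he
    exact ⟨(mem_normalizer_iff.1 (h.S_V hs) e).1 he.1, h.nor s (h.S_R hs) e he.2⟩
  -- the 2-group
  have hz : ∀ x : G, x * x ∈ Q → IsPGroup 2 (zpowers x) := by
    intro x hx
    obtain ⟨m, hm⟩ := h.Q_two ⟨x * x, hx⟩
    have h1 : x ^ (2 ^ (m + 1)) = 1 := by
      have h1 := congrArg Subtype.val hm
      simp only [SubmonoidClass.coe_pow, OneMemClass.coe_one] at h1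
      rw [← h1, ← pow_two, ← pow_mul, pow_succ, mul_comm]
    rintro ⟨y, hy⟩
    obtain ⟨i, rfl⟩ := hy
    refine ⟨m + 1, Subtype.ext ?_⟩
    simp only [SubmonoidClass.coe_pow, OneMemClass.coe_one]
    rw [← zpow_natCast, zpow_comm, zpow_natCast, h1, one_zpow]
  let D1 : Subgroup G := zpowers c ⊔ Q
  have hD1 : IsPGroup 2 D1 := (hz c h2c).to_sup_of_normal_right' h.Q_two
    (by rw [zpowers_le]; exact h.NR_le_NQ hcN)
  have hcD1 : c ∈ D1 := le_sup_left (a := zpowers c) (mem_zpowers c)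
  have hc'D1 : c' ∈ normalizer (D1 : Set G) := by
    apply hnorm
    intro y hy
    have h1 : D1 ≤ D1.comap (MulAut.conj c').toMonoidHom := by
      refine sup_le ?_ ?_
      · rw [zpowers_le, mem_comap]
        have h3 : (MulAut.conj c').toMonoidHom c = (c * c' * c⁻¹ * c'⁻¹)⁻¹ * c := by
          simp only [MulEquiv.coe_toMonoidHom, MulAut.conj_apply]; group
        rw [h3]
        exact mul_mem (inv_mem (le_sup_right (a := zpowers c) hcc)) hcD1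
      · intro q hq
        rw [mem_comap]
        simp only [MulEquiv.coe_toMonoidHom, MulAut.conj_apply]
        exact le_sup_right (a := zpowers c) (h.nor c' hcN' q hq)
    have h3 := h1 hy
    rw [mem_comap] at h3
    simpa using h3
  let D : Subgroup G := zpowers c' ⊔ D1
  have hD : IsPGroup 2 D := (hz c' h2c').to_sup_of_normal_right' hD1
    (by rw [zpowers_le]; exact hc'D1)
  have hcD : c ∈ D := le_sup_right (a := zpowers c') hcD1
  have hc'D : c' ∈ D := le_sup_left (a := zpowers c') (mem_zpowers c')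
  have hDX : D ≤ X := by
    refine sup_le ?_ (sup_le ?_ hQX)
    · rw [zpowers_le]; exact hcX'
    · rw [zpowers_le]; exact hcX
  -- Sylow in `X`
  obtain ⟨P, hP⟩ := (hD.comap_subtype (K := X)).exists_le_sylow
  obtain ⟨x, hx⟩ := MulAction.exists_smul_eq X P (S.subtype hSX)
  have hconj : ∀ d ∈ D, (x : G) * d * (x : G)⁻¹ ∈ S := by
    intro d hd
    have h1 : (⟨d, hDX hd⟩ : X) ∈ P := hP (mem_subgroupOf.2 hd)
    have h3 : x * ⟨d, hDX hd⟩ * x⁻¹ ∈ (S.subtype hSX : Subgroup X) := by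
      rw [← hx, Sylow.coe_subgroup_smul]
      refine mem_map.2 ⟨_, h1, ?_⟩
      rfl
    exact h3
  have hxR : (x : G) ∈ normalizer (R : Set G) := x.2.1
  have hxE : (x : G) ∈ normalizer (E : Set G) := x.2.2
  have hconjC : ∀ d ∈ centralizer (R : Set G), (x : G) * d * (x : G)⁻¹ ∈ centralizer (R : Set G) := by
    intro d hd
    rw [mem_centralizer_iff] at hd ⊢
    intro r hr
    have h1 : (x : G)⁻¹ * r * x ∈ R := by
      have := (mem_normalizer_iff.1 (inv_mem hxR) r).1 hr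
      rwa [inv_inv] at this
    have h3 := hd _ h1
    calc r * (x * d * (x : G)⁻¹) = x * (((x : G)⁻¹ * r * x) * d) * (x : G)⁻¹ := by group
      _ = x * (d * ((x : G)⁻¹ * r * x)) * (x : G)⁻¹ := by rw [h3]
      _ = _ := by group
  have hback : ∀ d : G, (∀ e ∈ E, (x * d * (x : G)⁻¹) * e * (x * d * (x : G)⁻¹)⁻¹ * e⁻¹ ∈ R) →
      ∀ e ∈ E, d * e * d⁻¹ * e⁻¹ ∈ R := by
    intro d hd e he
    have h1 := hd _ ((mem_normalizer_iff.1 hxE e).1 he)
    have h3 : (x * d * (x : G)⁻¹) * (x * e * (x : G)⁻¹) * (x * d * (x : G)⁻¹)⁻¹ *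
        (x * e * (x : G)⁻¹)⁻¹ = x * (d * e * d⁻¹ * e⁻¹) * (x : G)⁻¹ := by group
    rw [h3] at h1
    exact (mem_normalizer_iff.1 hxR _).2 h1
  have hs := hconj c hcD
  have hs' := hconj c' hc'D
  have hsC := hconjC c hc
  have hsC' := hconjC c' hc'
  rcases h.S_2 _ hs hsC _ hs' hsC' with h1 | h1 | h1
  · exact Or.inl (hback c ((h.triv_iff hsC).1 h1))
  · exact Or.inr (Or.inl (hback c' ((h.triv_iff hsC').1 h1)))
  · refine Or.inr (Or.inr (hback (c * c') ?_))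
    have h3 := (h.triv_iff (mul_mem hsC hsC')).1 h1
    have e : (x : G) * (c * c') * (x : G)⁻¹ = x * c * (x : G)⁻¹ * (x * c' * (x : G)⁻¹) := by group
    rw [e]; exact h3

/-- an element of `C(R)` which is trivial on `W = Q/R` is in `Q` -/
theorem mem_Q_of_cj' {c : G} (hc : c ∈ centralizer (R : Set G)) (ht : ∀ w, h.cj c w = w) : c ∈ Q := by
  refine h.mem_Q_of_triv hc (fun y hy => ?_)
  have h1 := ht (h.sp.pr y)
  rw [h.cj_pr (h.CR_le_NR hc) hy, h.sp.pr_eq (h.nor c (h.CR_le_NR hc) y hy) hy] at h1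
  exact h1

/-- **`Se`, on `W = Q/R`** -/
theorem Se_cj [Finite G] {c c' : G} (hc : c ∈ centralizer (R : Set G))
    (hc' : c' ∈ centralizer (R : Set G)) (hcom : ∀ w, h.cj c (h.cj c' w) = h.cj c' (h.cj c w))
    (h2c : ∀ w, h.cj c (h.cj c w) = w) (h2c' : ∀ w, h.cj c' (h.cj c' w) = w)
    (hE : ∀ b, ∃ b', h.cj c (h.ep b) = h.ep b') (hE' : ∀ b, ∃ b', h.cj c' (h.ep b) = h.ep b') :
    (∀ b, h.cj c (h.ep b) = h.ep b) ∨ (∀ b, h.cj c' (h.ep b) = h.ep b) ∨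
      (∀ b, h.cj c (h.cj c' (h.ep b)) = h.ep b) := by
  have hcN := h.CR_le_NR hc
  have hcN' := h.CR_le_NR hc'
  -- the stabiliser of `e`
  have key : ∀ d ∈ centralizer (R : Set G), (∀ b, ∃ b', h.cj d (h.ep b) = h.ep b') →
      ∀ e ∈ V ⊓ Q, d * e * d⁻¹ ∈ V ⊓ Q := by
    intro d hd hdE e he
    obtain ⟨a, b, rfl⟩ := h.mem_E.1 he
    obtain ⟨b', hb'⟩ := hdE b
    rw [← h.pr_E a b, ← h.pr_E 0 b', h.cj_pr (h.CR_le_NR hd) (h.E_le a b),
      h.sp.pr_eq (h.nor d (h.CR_le_NR hd) _ (h.E_le a b)) (h.E_le 0 b')] at hb'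
    obtain ⟨a', ha'⟩ := h.mem_R.1 hb'
    refine h.mem_E.2 ⟨a', b', ?_⟩
    have h3 : d * v a b 0 * d⁻¹ = v a' 0 0 * v 0 b' 0 := by rw [← ha']; group
    rw [h3, ← h.v_add, add_zero, zero_add, add_zero]
  have key2 : ∀ d ∈ centralizer (R : Set G), (∀ e ∈ V ⊓ Q, d * e * d⁻¹ * e⁻¹ ∈ R) →
      ∀ b, h.cj d (h.ep b) = h.ep b := by
    intro d hd ht b
    obtain ⟨a, ha⟩ := (h.triv_iff hd).2 ht b
    unfold ep
    rw [h.cj_pr (h.CR_le_NR hd) (h.E_le 0 b), ha, h.pr_E]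
    rfl
  have h1 := h.Se_grp hc hc' (key c hc hE) (key c' hc' hE')
    (h.mem_Q_of_cj' (mul_mem hc hc) (fun w => by rw [h.cj_mul hcN hcN, h2c]))
    (h.mem_Q_of_cj' (mul_mem hc' hc') (fun w => by rw [h.cj_mul hcN' hcN', h2c']))
    (h.mem_Q_of_cj' (mul_mem (mul_mem (mul_mem hc hc') (inv_mem hc)) (inv_mem hc')) (fun w => by
      rw [h.cj_mul (mul_mem (mul_mem hcN hcN') (inv_mem hcN)) (inv_mem hcN'),
        h.cj_mul (mul_mem hcN hcN') (inv_mem hcN), h.cj_mul hcN hcN', hcom,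
        h.cj_cj_inv hcN, h.cj_cj_inv hcN']))
  rcases h1 with h1 | h1 | h1
  · exact Or.inl (key2 c hc h1)
  · exact Or.inr (Or.inl (key2 c' hc' h1))
  · refine Or.inr (Or.inr (fun b => ?_))
    have := key2 (c * c') (mul_mem hc hc') h1 b
    rwa [h.cj_mul hcN hcN'] at this

end GIn

end Cfsg.Agent.Omega.NOne.SU

end

section


/-!
# THEOREM UNI, group part: the field `Uni.Se`
-/

set_option autoImplicit false

open Subgroup

namespace Cfsg.Agent.Omega.NOne.SU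

variable {G : Type*} [Group G] {k F : Type*} [Field k] [Field F] [Algebra k F]

namespace GIn

variable {T : Quad k F} {S : Sylow 2 G} {V R Q Q' : Subgroup G} {v : k → F → k → G} {p p' : G → F}

/-- **the field `Se` of `Uni`** -/
theorem SeH [Finite G] (h : GIn T S V R Q Q' v p p') (sc : Scal h.sp.form) :
    ∀ g ∈ h.H sc, ∀ g' ∈ h.H sc, g * g' = g' * g → g * g = 1 → g' * g' = 1 →
      (∀ c, ∃ c', g (h.epM sc c) = h.epM sc c') → (∀ c, ∃ c', g' (h.epM sc c) = h.epM sc c') →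
      (∀ c, g (h.epM sc c) = h.epM sc c) ∨ (∀ c, g' (h.epM sc c) = h.epM sc c) ∨
        (∀ c, g (g' (h.epM sc c)) = h.epM sc c) := by
  rintro g ⟨c, hc⟩ g' ⟨c', hc'⟩ hgg h1 h2 he he'
  have e := hc.ext (ind_linC c hc.1)
  have e' := hc'.ext (ind_linC c' hc'.1)
  have f : ∀ w, g w = h.cj c w := fun w => by rw [e]; rfl
  have f' : ∀ w, g' w = h.cj c' w := fun w => by rw [e']; rfl
  have key := h.Se_cj hc.1 hc'.1
    (fun w => by
      have := congrArg (fun l : h.M sc ≃ₗ[k] h.M sc => l w) hgg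
      have e3 : g (g' w) = g' (g w) := this
      rw [f (g' w), f' w, f' (g w), f w] at e3
      exact e3)
    (fun w => by
      have := congrArg (fun l : h.M sc ≃ₗ[k] h.M sc => l w) h1
      have e3 : g (g w) = w := this
      rw [f (g w), f w] at e3
      exact e3)
    (fun w => by
      have := congrArg (fun l : h.M sc ≃ₗ[k] h.M sc => l w) h2
      have e3 : g' (g' w) = w := this
      rw [f' (g' w), f' w] at e3
      exact e3)
    (fun b => by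
      obtain ⟨b', hb⟩ := he b
      rw [f] at hb
      exact ⟨b', hb⟩)
    (fun b => by
      obtain ⟨b', hb⟩ := he' b
      rw [f'] at hb
      exact ⟨b', hb⟩)
  rcases key with key | key | key
  · refine Or.inl (fun b => ?_)
    rw [f]; exact key b
  · refine Or.inr (Or.inl (fun b => ?_))
    rw [f']; exact key b
  · refine Or.inr (Or.inr (fun b => ?_))
    rw [f, f']; exact key b

end GIn

end Cfsg.Agent.Omega.NOne.SU

end

section


/-!
# THEOREM UNI, group part: `GIn → Fld → Uni`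

`GIn.uni` : the structure `Uni k F (h.M sc) Φ` of the group data.  All its fields are the explicit maps of
the group part (`fM`, `H`, `hmΦ`, `epM`, `BM`, `yM`, `JJ`, `χM`, `tM`).
-/

set_option autoImplicit false
set_option linter.unusedSectionVars false

open Subgroup

namespace Cfsg.Agent.Omega.NOne.SU

variable {G : Type*} [Group G] {k F : Type*} [Field k] [Field F] [Algebra k F]

namespace GIn

variable {T : Quad k F} {S : Sylow 2 G} {V R Q Q' : Subgroup G} {v : k → F → k → G} {p p' : G → F}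
variable (h : GIn T S V R Q Q' v p p') (sc : Scal h.sp.form)

variable {Φ : Type*} [AddCommGroup Φ] [Module F Φ] {φ χ : G → Φ} (f : Fld T V R Q Q' v p φ χ)
  [Module k Φ] [IsScalarTower k F Φ]

/-- the map `y` -/
noncomputable def yM : h.M sc →ₗ[k] Φ := (h.exists_y sc f).choose

theorem yM_φ : ∀ x ∈ Q, x ∈ centralizer (V : Set G) → h.yM sc f (h.prM sc x) = φ x :=
  (h.exists_y sc f).choose_spec

theorem yM_ep (c : F) : h.yM sc f (h.epM sc c) = 0 := by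
  rw [← h.prM_E sc 0 c, h.yM_φ sc f _ (h.E_le _ _) (h.E_CV _ _), h.φ_E f]

theorem yM_ker (m : h.M sc) (hm : h.BM sc m = 0) : h.yM sc f m = 0 ↔ ∃ c, m = h.epM sc c :=
  h.y_ker_of sc f (h.yM_φ sc f) m hm

/-- the torus -/
noncomputable def tM [Finite G] : Fˣ →* (h.M sc ≃ₗ[k] h.M sc) :=
  (h.exists_tM sc f (h.yM sc f) (h.yM_φ sc f) fun m hm => (h.yM_ker sc f m hm).1).choose

theorem tM_wt [Finite G] : ∀ z : Fˣ, TorusHom.Wt T (h.fM sc) (h.H sc) (h.epM sc) (h.BM sc) (h.yM sc f)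
    (h.tM sc f z) (z : F) :=
  (h.exists_tM sc f (h.yM sc f) (h.yM_φ sc f) fun m hm => (h.yM_ker sc f m hm).1).choose_spec

/-- a vector with `B m₀ = 1` -/
noncomputable def m0 : h.M sc := (h.BM_surj sc 1).choose

theorem BM_m0 : h.BM sc (h.m0 sc) = 1 := (h.BM_surj sc 1).choose_spec

/-- the map `χ` -/
noncomputable def χM (g : h.M sc ≃ₗ[k] h.M sc) : Φ := h.yM sc f (g (h.m0 sc) - h.m0 sc)

/-! ### the action of `n ∈ C_{Q'}(V)` and of `V` -/

theorem lin_of (c : G) (hc : c ∈ centralizer (R : Set G)) {x : G} (hx : x ∈ Q) :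
    h.linC sc c hc (h.prM sc x) - h.prM sc x = h.prM sc (c * x * c⁻¹ * x⁻¹) := by
  rw [h.prM_comm sc hc hx, add_sub_cancel_left]

theorem linV (a : k) (b : F) (d : k) (m : h.M sc) :
    h.linC sc (v a b d) (h.CV_le_CR (h.V_le_CV (h.v_mem a b d))) m = m + h.epM sc (d • h.BM sc m) := by
  rw [Algebra.smul_def, mul_comm]
  exact h.cj_V a b d m

theorem linN_ep {n : G} (hnV : n ∈ centralizer (V : Set G)) (c : F) :
    h.linC sc n (h.CV_le_CR hnV) (h.epM sc c) = h.epM sc c := by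
  rw [← h.prM_E sc 0 c, (ind_linC (sc := sc) n _).2 _ (h.E_le _ _)]
  congr 1
  rw [← (mem_centralizer_iff.1 hnV) _ (h.v_mem _ _ _), mul_inv_cancel_right]

theorem linN_B {n : G} (hnV : n ∈ centralizer (V : Set G)) (m : h.M sc) :
    h.BM sc (h.linC sc n (h.CV_le_CR hnV) m - m) = 0 := by
  obtain ⟨x, hx, rfl⟩ := h.prM_surj sc m
  have h1 := h.comm_CV hnV hx
  rw [h.lin_of sc n _ hx, h.BM_eq_zero sc h1.1]
  exact h1.2

theorem linN_P {n : G} (hn : n ∈ Q') (hnV : n ∈ centralizer (V : Set G)) (m : h.M sc) (hm : h.BM sc m = 0) :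
    h.linC sc n (h.CV_le_CR hnV) m = m + h.epM sc (h.hmΦ sc f (h.yM sc f m) (χ n)) := by
  obtain ⟨x, hx, rfl⟩ := h.prM_surj sc m
  have hxV := (h.BM_eq_zero sc hx).1 hm
  rw [h.prM_comm sc _ hx, h.JP_n sc f hn hnV hx hxV, h.prM_E, h.yM_φ sc f x hx hxV]

theorem linN_y {n : G} (hn : n ∈ Q') (hnV : n ∈ centralizer (V : Set G)) (m : h.M sc) :
    h.yM sc f (h.linC sc n (h.CV_le_CR hnV) m - m) = h.BM sc m • χ n := by
  obtain ⟨x, hx, rfl⟩ := h.prM_surj sc m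
  have h1 := h.comm_CV hnV hx
  rw [h.lin_of sc n _ hx, h.yM_φ sc f _ h1.1 h1.2, f.bil x hx n hn hnV, h.BM_pr sc hx]

include f in
/-- **the elements of `J`** are the products `v n` -/
theorem JJ_form [Finite G] {g : h.M sc ≃ₗ[k] h.M sc} (hg : g ∈ h.JJ sc) :
    ∃ n, n ∈ Q' ∧ ∃ hnV : n ∈ centralizer (V : Set G), ∃ d : k,
      ∀ m, g m = h.linC sc n (h.CV_le_CR hnV) m + h.epM sc (d • h.BM sc m) := by
  obtain ⟨c, hc, hind⟩ := JJ_CV hg
  have hcR := h.CV_le_CR hc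
  have hge : g = h.linC sc c hcR := hind.ext (ind_linC c hcR)
  have hB : ∀ x ∈ Q, x ∈ centralizer (V : Set G) → ∃ a b, c * x * c⁻¹ * x⁻¹ = v a b 0 := by
    intro x hx hxV
    have h1 := h.comm_CV hc hx
    have h2 := hg.2.2.1 (h.prM sc x) ((h.BM_eq_zero sc hx).2 hxV)
    rw [hge, h.lin_of sc c _ hx, ← h.y_ker_of sc f (h.yM_φ sc f) _ ((h.BM_eq_zero sc h1.1).2 h1.2),
      h.yM_φ sc f _ h1.1 h1.2, f.φ_ker _ h1.1 h1.2] at h2
    exact h2
  obtain ⟨n, hn, hnV, d, hq⟩ := h.cstep sc f hc hB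
  refine ⟨n, hn, hnV, d, fun m => ?_⟩
  have hnR := h.CV_le_CR hnV
  have hvR : v 0 0 d ∈ centralizer (R : Set G) := h.CV_le_CR (h.V_le_CV (h.v_mem 0 0 d))
  -- `c = q v n`
  have e : c = (c * n⁻¹ * v 0 0 d) * (v 0 0 d * n) := by
    have h1 := h.v_sq 0 0 d
    calc c = c * n⁻¹ * (v 0 0 d * v 0 0 d) * n := by rw [h1]; group
      _ = _ := by group
  have h1 : g m = h.cj c m := by rw [hge]; rfl
  have h2 : ∀ w : h.sp.W, h.cj c w = h.cj (v 0 0 d) (h.cj n w) := by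
    intro w
    conv_lhs => rw [e]
    rw [h.cj_mul (h.CR_le_NR (h.Q_le_CR hq)) (h.CR_le_NR (mul_mem hvR hnR)), h.cj_of_mem_Q hq,
      h.cj_mul (h.CR_le_NR hvR) (h.CR_le_NR hnR)]
  have h3 := h.linV sc 0 0 d (h.linC sc n hnR m)
  have h4 : h.BM sc (h.linC sc n hnR m) = h.BM sc m := by
    have h5 := h.linN_B sc hnV m
    rw [map_sub, sub_eq_zero] at h5
    exact h5
  rw [h4] at h3
  rw [h1]
  exact (h2 m).trans h3

theorem χM_of [Finite G] {g : h.M sc ≃ₗ[k] h.M sc} {n : G} (hn : n ∈ Q') (hnV : n ∈ centralizer (V : Set G))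
    {d : k} (hg : ∀ m, g m = h.linC sc n (h.CV_le_CR hnV) m + h.epM sc (d • h.BM sc m)) :
    h.χM sc f g = χ n := by
  unfold χM
  rw [hg, add_sub_right_comm, map_add, h.linN_y sc f hn hnV, h.yM_ep, add_zero, h.BM_m0, one_smul]

include f in
/-- `n ∈ C_{Q'}(V)` acts as an element of `J` -/
theorem linN_J [Finite G] {n : G} (hn : n ∈ Q') (hnV : n ∈ centralizer (V : Set G)) :
    h.linC sc n (h.CV_le_CR hnV) ∈ h.JJ sc :=
  ⟨(ind_linC _ _).mem, h.linN_ep sc hnV, fun m hm => ⟨h.hmΦ sc f (h.yM sc f m) (χ n), by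
    rw [h.linN_P sc f hn hnV m hm, add_sub_cancel_left]⟩, h.linN_B sc hnV⟩

/-- `V` acts as a subgroup of `J` -/
theorem linV_J [Finite G] (a : k) (b : F) (d : k) :
    h.linC sc (v a b d) (h.CV_le_CR (h.V_le_CV (h.v_mem a b d))) ∈ h.JJ sc := by
  refine ⟨(ind_linC _ _).mem, fun c => ?_, fun m hm => ⟨0, ?_⟩, fun m => ?_⟩
  · rw [h.linV, ← h.prM_E sc 0 c, h.BM_pr sc (h.E_le _ _), h.p_E, smul_zero, map_zero, add_zero]
  · rw [h.linV, hm, smul_zero, map_zero, add_zero, sub_self]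
  · rw [h.linV, add_sub_cancel_left, ← h.prM_E sc 0, h.BM_pr sc (h.E_le _ _), h.p_E]

/-- **THEOREM UNI, group part**: the structure `Uni` of the group data -/
noncomputable def uni [Finite G] : Uni k F (h.M sc) Φ where
  toQuad := T
  f := h.fM sc
  alt := h.fM_alt sc
  nondeg := h.fM_nondeg sc
  H := h.H sc
  isom := fun _ hg => isom hg
  hm := h.hmΦ sc f
  hm_add := h.hmΦ_add sc f
  hm_smul := h.hmΦ_smul sc f
  hm_sym := h.hmΦ_sym sc f
  hm_nondeg := h.hmΦ_nondeg sc f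
  ε := h.epM sc
  ε_inj := h.epM_inj sc
  B := h.BM sc
  fe := h.fM_ep sc
  y := h.yM sc f
  y_surj := h.y_surj_of sc f (h.yM_φ sc f)
  y_ker := h.yM_ker sc f
  fy := h.fy_of sc f (h.yM_φ sc f)
  J := h.JJ sc
  J_le := fun _ hg => hg.1
  χ := h.χM sc f
  Je := fun _ hg => hg.2.1
  JP := by
    intro j hj m hm
    obtain ⟨n, hn, hnV, d, hg⟩ := h.JJ_form sc f hj
    rw [h.χM_of sc f hn hnV hg, hg, hm, smul_zero, map_zero, add_zero, h.linN_P sc f hn hnV m hm]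
  JM := by
    intro j hj m
    obtain ⟨n, hn, hnV, d, hg⟩ := h.JJ_form sc f hj
    refine ⟨hj.2.2.2 m, ?_⟩
    rw [h.χM_of sc f hn hnV hg, hg, add_sub_right_comm, map_add, h.linN_y sc f hn hnV, h.yM_ep, add_zero]
  JA := by
    intro j hj hχ
    obtain ⟨n, hn, hnV, d, hg⟩ := h.JJ_form sc f hj
    rw [h.χM_of sc f hn hnV hg] at hχ
    obtain ⟨b, d', rfl⟩ := f.χ_ker n hn hnV hχ
    refine ⟨d' + d, fun m => ?_⟩
    have h1 := h.linV sc 0 b d' m
    rw [hg, h1, add_assoc, ← map_add, ← add_smul]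
  Jall := by
    intro x
    obtain ⟨n, hn, hnV, rfl⟩ := f.χ_surj x
    refine ⟨_, h.linN_J sc f hn hnV, ?_⟩
    apply h.χM_of sc f hn hnV (d := 0)
    intro m
    rw [zero_smul, map_zero, add_zero]
  Jn := fun a => ⟨_, h.linV_J sc 0 0 a, h.linV sc 0 0 a⟩
  Jmax := fun g hg h1 h2 h3 => ⟨hg, h1, h2, h3⟩
  Se := h.SeH sc
  t := h.tM sc f
  tH := fun z => (h.tM_wt sc f z).wH
  te := fun z => (h.tM_wt sc f z).we
  tB := fun z => (h.tM_wt sc f z).wB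
  ty := fun z => (h.tM_wt sc f z).wy
  tf := fun z => (h.tM_wt sc f z).wf
  Om := h.OmH sc f

end GIn

end Cfsg.Agent.Omega.NOne.SU

end

section


/-!
# THEOREM UNI, group part 7: facts for the group-level output `Out`

* `normalizes_V'` : `N_G(R) ∩ N_G(E) ≤ N_G(V)`;
* `ker_NR` : the kernel of `N_G(R)` on `W = Q/R` is `Q`;
* `rad_prM` : the elements of `C_G(R)` which are trivial on `e`, `e^⊥/e`, `W/e^⊥` are the products `n v y`.
-/

set_option autoImplicit false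
set_option linter.unusedSectionVars false

open Subgroup

namespace Cfsg.Agent.Omega.NOne.SU

variable {G : Type*} [Group G] {k F : Type*} [Field k] [Field F] [Algebra k F]

namespace GIn

variable {T : Quad k F} {S : Sylow 2 G} {V R Q Q' : Subgroup G} {v : k → F → k → G} {p p' : G → F}
variable (h : GIn T S V R Q Q' v p p') (sc : Scal h.sp.form)

theorem CR_conj {c x : G} (hc : c ∈ normalizer (R : Set G)) (hx : x ∈ centralizer (R : Set G)) :
    c * x * c⁻¹ ∈ centralizer (R : Set G) := by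
  rw [mem_centralizer_iff] at hx ⊢
  intro r hr
  have h1 : c⁻¹ * r * c ∈ R := by
    have := (mem_normalizer_iff.1 (inv_mem hc) r).1 hr
    rwa [inv_inv] at this
  have h3 := hx _ h1
  calc r * (c * x * c⁻¹) = c * ((c⁻¹ * r * c) * x) * c⁻¹ := by group
    _ = c * (x * (c⁻¹ * r * c)) * c⁻¹ := by rw [h3]
    _ = _ := by group

include h

/-- `N_G(R) ∩ N_G(E) ≤ N_G(V)` -/
theorem normalizes_V' [Finite G] (sc : Scal h.sp.form) {c : G} (hN : c ∈ normalizer (R : Set G))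
    (hcE : ∀ a b, ∃ a' b', c * v a b 0 * c⁻¹ = v a' b' 0) : c ∈ normalizer (V : Set G) := by
  -- the same for `c⁻¹`
  have hcE' : ∀ a b, ∃ a' b', c⁻¹ * v a b 0 * c = v a' b' 0 := by
    have := T.finF
    have := T.fink
    let f1 : k × F → k × F := fun x => ((hcE x.1 x.2).choose, (hcE x.1 x.2).choose_spec.choose)
    have hf1 : ∀ x : k × F, c * v x.1 x.2 0 * c⁻¹ = v (f1 x).1 (f1 x).2 0 := fun x =>
      (hcE x.1 x.2).choose_spec.choose_spec
    have hinj : Function.Injective f1 := by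
      intro x y hxy
      have h1 := hf1 x
      rw [hxy, ← hf1 y] at h1
      have h3 := h.v_eq (mul_left_cancel (mul_right_cancel h1))
      exact Prod.ext h3.1 h3.2.1
    have hsurj := Finite.surjective_of_injective hinj
    intro a b
    obtain ⟨x, hx⟩ := hsurj (a, b)
    refine ⟨x.1, x.2, ?_⟩
    have h1 := hf1 x
    rw [hx] at h1
    rw [← h1]; group
  -- `c` normalises `B = C_Q(E)`
  have hBc : ∀ x ∈ Q, x ∈ centralizer (V : Set G) → c⁻¹ * x * c ∈ centralizer (V : Set G) := by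
    intro x hx hxV
    apply h.mem_CV_of_comm_E (h.nor_inv hN hx)
    intro b
    obtain ⟨a', b', hab⟩ := hcE 0 b
    have h1 := (mem_centralizer_iff.1 hxV) _ (h.v_mem a' b' 0)
    have h3 : v 0 b 0 = c⁻¹ * v a' b' 0 * c := by rw [← hab]; group
    rw [h3]
    calc c⁻¹ * v a' b' 0 * c * (c⁻¹ * x * c) = c⁻¹ * (v a' b' 0 * x) * c := by group
      _ = c⁻¹ * (x * v a' b' 0) * c := by rw [h1]
      _ = _ := by group
  have key : ∀ d, c * v 0 0 d * c⁻¹ ∈ V := by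
    intro d
    have hvR : v 0 0 d ∈ centralizer (R : Set G) := h.CV_le_CR (h.V_le_CV (h.v_mem 0 0 d))
    have hxR : c * v 0 0 d * c⁻¹ ∈ centralizer (R : Set G) := CR_conj hN hvR
    have hcomm : ∀ x ∈ Q, x ∈ centralizer (V : Set G) →
        c * v 0 0 d * c⁻¹ * x = x * (c * v 0 0 d * c⁻¹) := by
      intro x hx hxV
      have h1 := (mem_centralizer_iff.1 (hBc x hx hxV)) _ (h.v_mem 0 0 d)
      calc c * v 0 0 d * c⁻¹ * x = c * (v 0 0 d * (c⁻¹ * x * c)) * c⁻¹ := by group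
        _ = c * ((c⁻¹ * x * c) * v 0 0 d) * c⁻¹ := by rw [h1]
        _ = _ := by group
    obtain ⟨d', hd'⟩ := h.act_as_V sc hxR (fun y hy => by
      obtain ⟨a', ha'⟩ := h.comm_V 0 0 d (h.nor_inv hN hy)
      obtain ⟨a2, b2, hab⟩ := hcE a' (p (c⁻¹ * y * c) * algebraMap k F d)
      refine ⟨a2, b2, ?_⟩
      rw [← hab, ← ha']; group) (fun x hx hxV => by
      rw [hcomm x hx hxV]
      have e : x * (c * v 0 0 d * c⁻¹) * (c * v 0 0 d * c⁻¹)⁻¹ * x⁻¹ = 1 := by group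
      rw [e]; exact one_mem _)
    have hq0V : c * v 0 0 d * c⁻¹ * v 0 0 d' ∈ centralizer (V : Set G) := by
      apply h.mem_CV_of_comm_E hd'
      intro b
      have h1 := hcomm (v 0 b 0) (h.E_le 0 b) (h.V_le_CV (h.v_mem _ _ _))
      have h3 := h.v_comm 0 b 0 0 0 d'
      calc v 0 b 0 * (c * v 0 0 d * c⁻¹ * v 0 0 d') = (v 0 b 0 * (c * v 0 0 d * c⁻¹)) * v 0 0 d' := by group
        _ = (c * v 0 0 d * c⁻¹ * v 0 b 0) * v 0 0 d' := by rw [h1]
        _ = c * v 0 0 d * c⁻¹ * (v 0 b 0 * v 0 0 d') := by group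
        _ = c * v 0 0 d * c⁻¹ * (v 0 0 d' * v 0 b 0) := by rw [h3]
        _ = _ := by group
    obtain ⟨a, b, hab⟩ := h.mem_E_of_comm (sc := sc) hd' (fun x hx hxV => by
      have h1 := hcomm x hx hxV
      have h3 := (mem_centralizer_iff.1 hxV) _ (h.v_mem 0 0 d')
      calc c * v 0 0 d * c⁻¹ * v 0 0 d' * x = c * v 0 0 d * c⁻¹ * (v 0 0 d' * x) := by group
        _ = c * v 0 0 d * c⁻¹ * (x * v 0 0 d') := by rw [h3]
        _ = (c * v 0 0 d * c⁻¹ * x) * v 0 0 d' := by group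
        _ = (x * (c * v 0 0 d * c⁻¹)) * v 0 0 d' := by rw [h1]
        _ = _ := by group)
    have h5 : c * v 0 0 d * c⁻¹ = v a b 0 * (v 0 0 d')⁻¹ := by rw [← hab]; group
    rw [h5]
    exact mul_mem (h.v_mem _ _ _) (inv_mem (h.v_mem _ _ _))
  have key2 : ∀ x ∈ V, c * x * c⁻¹ ∈ V := by
    intro x hx
    obtain ⟨a, b, d, rfl⟩ := h.v_surj x hx
    obtain ⟨a', b', hab⟩ := hcE a b
    have e : v a b d = v a b 0 * v 0 0 d := by rw [← h.v_add, add_zero, add_zero, zero_add]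
    have e2 : c * (v a b 0 * v 0 0 d) * c⁻¹ = (c * v a b 0 * c⁻¹) * (c * v 0 0 d * c⁻¹) := by group
    rw [e, e2, hab]
    exact mul_mem (h.v_mem _ _ _) (key d)
  rw [mem_normalizer_iff]
  intro x
  constructor
  · exact key2 x
  · intro hx
    let g1 : V → V := fun y => ⟨c * y * c⁻¹, key2 y y.2⟩
    have hg1 : Function.Injective g1 := by
      intro y y' hyy
      have := congrArg Subtype.val hyy
      exact Subtype.ext (mul_left_cancel (mul_right_cancel this))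
    obtain ⟨y, hy⟩ := Finite.surjective_of_injective hg1 ⟨_, hx⟩
    have h1 : c * (y : G) * c⁻¹ = c * x * c⁻¹ := congrArg Subtype.val hy
    have h3 : (y : G) = x := mul_left_cancel (mul_right_cancel h1)
    rw [← h3]; exact y.2

theorem tr_surj (a : k) : ∃ x : F, T.tr x = a := by
  obtain ⟨x, hx⟩ := T.exists_tr_ne h.h2
  refine ⟨x * algebraMap k F ((T.tr x)⁻¹ * a), ?_⟩
  rw [T.tr_mul_alg, mul_inv_cancel_left₀ hx]

/-- every element of `R` is a commutator -/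
theorem R_comm (a : k) : ∃ x ∈ Q, ∃ y ∈ Q, x * y * x⁻¹ * y⁻¹ = v a 0 0 := by
  obtain ⟨b, hb⟩ := h.tr_surj a
  obtain ⟨y, hy, hp⟩ := h.p_surj 1
  refine ⟨_, h.E_le 0 b, y, hy, ?_⟩
  rw [h.comm_E 0 b hy, hp, map_one, mul_one, hb]

/-- the kernel of `N_G(R)` on `W` is `Q` -/
theorem ker_NR [Finite G] {c : G} (hc : c ∈ normalizer (R : Set G))
    (hk : ∀ x ∈ Q, h.sp.pr (c * x * c⁻¹) = h.sp.pr x) : c ∈ Q := by
  have hcR : c ∈ centralizer (R : Set G) := by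
    rw [mem_centralizer_iff]
    intro r hr
    obtain ⟨a, rfl⟩ := h.mem_R.1 hr
    obtain ⟨x, hx, y, hy, hxy⟩ := h.R_comm a
    have h1 := h.sp.comm_eq_of_pr (h.nor c hc x hx) hx (h.nor c hc y hy) hy (hk x hx) (hk y hy)
    have e : c * x * c⁻¹ * (c * y * c⁻¹) * (c * x * c⁻¹)⁻¹ * (c * y * c⁻¹)⁻¹ =
        c * (x * y * x⁻¹ * y⁻¹) * c⁻¹ := by group
    rw [e, hxy] at h1
    calc v a 0 0 * c = (c * v a 0 0 * c⁻¹) * c := by rw [h1]
      _ = c * v a 0 0 := by group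
  apply h.mem_Q_of_cj hcR
  intro w
  obtain ⟨x, hx, rfl⟩ := h.sp.pr_surj w
  rw [h.cj_pr hc hx, hk x hx]

variable {Φ : Type*} [AddCommGroup Φ] [Module F Φ] {φ χ : G → Φ} (f : Fld T V R Q Q' v p φ χ)

/-- an element of `Q` may be moved to the right -/
theorem move_Q {y c : G} (hy : y ∈ Q) (hc : c ∈ normalizer (R : Set G)) : ∃ y' ∈ Q, y * c = c * y' :=
  ⟨c⁻¹ * y * c, h.nor_inv hc hy, by group⟩

include f in
/-- **the elements of `C_G(R)` in the unipotent radical of `e`** -/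
theorem rad_prM [Finite G] {c : G} (hc : c ∈ centralizer (R : Set G))
    (h1 : ∀ b, h.prM sc (c * v 0 b 0 * c⁻¹) = h.prM sc (v 0 b 0))
    (h2 : ∀ x ∈ Q, p x = 0 → ∃ b, h.prM sc (c * x * c⁻¹) = h.prM sc x + h.prM sc (v 0 b 0))
    (h3 : ∀ x ∈ Q, p (c * x * c⁻¹) = p x) :
    ∃ n ∈ Q', n ∈ centralizer (V : Set G) ∧ ∃ d, ∃ y ∈ Q, c = n * v 0 0 d * y := by
  have hJ : h.linC sc c hc ∈ h.JJ sc := by
    refine ⟨(ind_linC _ _).mem, fun b => ?_, fun m hm => ?_, fun m => ?_⟩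
    · rw [← h.prM_E sc 0 b, (ind_linC (sc := sc) c hc).2 _ (h.E_le _ _), h1]
    · obtain ⟨x, hx, rfl⟩ := h.prM_surj sc m
      rw [h.BM_pr sc hx] at hm
      obtain ⟨b, hb⟩ := h2 x hx hm
      refine ⟨b, ?_⟩
      rw [(ind_linC (sc := sc) c hc).2 x hx, hb, add_sub_cancel_left, h.prM_E]
    · obtain ⟨x, hx, rfl⟩ := h.prM_surj sc m
      rw [(ind_linC (sc := sc) c hc).2 x hx, map_sub, h.BM_pr sc (h.nor c (h.CR_le_NR hc) x hx),
        h.BM_pr sc hx, h3 x hx, sub_self]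
  obtain ⟨c', hc', hind⟩ := JJ_CV hJ
  have hB : ∀ x ∈ Q, x ∈ centralizer (V : Set G) → ∃ a b, c' * x * c'⁻¹ * x⁻¹ = v a b 0 := by
    intro x hx hxV
    have h4 := h.comm_CV hc' hx
    obtain ⟨b, hb⟩ := h2 x hx ((h.p_eq_zero hx).2 hxV)
    have h5 := hind.2 x hx
    rw [(ind_linC (sc := sc) c hc).2 x hx, hb, h.prM_E] at h5
    have h6 : h.prM sc (c' * x * c'⁻¹ * x⁻¹) = h.epM sc b := by
      rw [h.prM_mul sc (h.nor c' (h.CR_le_NR hind.1) x hx) (inv_mem hx), h.prM_inv sc hx, ← h5,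
        add_comm (h.prM sc x), add_assoc, h.M_add_self, add_zero]
    rw [← h.prM_E sc 0 b, h.prM_eq sc h4.1 (h.E_le _ _)] at h6
    obtain ⟨a, ha⟩ := h.mem_R.1 h6
    refine ⟨a, b, ?_⟩
    have e : c' * x * c'⁻¹ * x⁻¹ = c' * x * c'⁻¹ * x⁻¹ * (v 0 b 0)⁻¹ * v 0 b 0 := by group
    rw [e, ha, ← h.v_add, add_zero, zero_add, add_zero]
  obtain ⟨n, hn, hnV, d, hq⟩ := h.cstep sc f hc' hB
  have hnR := h.CV_le_CR hnV
  have hvR : v 0 0 d ∈ centralizer (R : Set G) := h.CV_le_CR (h.V_le_CV (h.v_mem 0 0 d))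
  -- `c c'⁻¹ ∈ Q`
  have hq2 : c * c'⁻¹ ∈ Q := by
    apply h.mem_Q_of_cj (mul_mem hc (inv_mem hind.1))
    intro w
    rw [h.cj_mul (h.CR_le_NR hc) (inv_mem (h.CR_le_NR hind.1))]
    have h4 : ∀ w : h.sp.W, h.cj c w = h.cj c' w := by
      intro w
      obtain ⟨x, hx, rfl⟩ := h.sp.pr_surj w
      rw [h.cj_pr (h.CR_le_NR hc) hx, h.cj_pr (h.CR_le_NR hind.1) hx]
      have h5 := hind.2 x hx
      rw [(ind_linC (sc := sc) c hc).2 x hx] at h5
      exact h5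
    rw [h4, h.cj_cj_inv (h.CR_le_NR hind.1)]
  have e : c = (c * c'⁻¹) * (c' * n⁻¹ * v 0 0 d) * (v 0 0 d * n) := by
    have h4 := h.v_sq 0 0 d
    calc c = (c * c'⁻¹) * (c' * n⁻¹ * (v 0 0 d * v 0 0 d) * n) := by rw [h4]; group
      _ = _ := by group
  obtain ⟨y', hy', he⟩ := h.move_Q (mul_mem hq2 hq) (h.CR_le_NR (mul_mem hvR hnR))
  refine ⟨n, hn, hnV, d, y', hy', ?_⟩
  rw [e, he, (mem_centralizer_iff.1 hnV) _ (h.v_mem 0 0 d)]

end GIn

end Cfsg.Agent.Omega.NOne.SU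

end

section


/-!
# THEOREM UNI, section 1: positions

`Uni.pos`: for `g ∈ H` the plane `g e` is contained in `e^⊥` or meets it trivially.
-/

set_option autoImplicit false

namespace Cfsg.Agent.Omega.NOne.SU

namespace Uni

variable {k F M Φ : Type*} [Field k] [Field F] [Algebra k F] [AddCommGroup M] [Module k M]
    [AddCommGroup Φ] [Module k Φ] [Module F Φ] (U : Uni k F M Φ)
include U

theorem y_ε (c : F) : U.y (U.ε c) = 0 := (U.y_ker _ (U.B_ε c)).2 ⟨c, rfl⟩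

section
variable [CharP k 2]

/-- the commutator of `u 1` and `cu g 1`. -/
theorem comm_apply (g : M ≃ₗ[k] M)
    (h1 : ∀ m, U.n (U.cn g (U.n m)) = 0) (h2 : ∀ m, U.cn g (U.n (U.cn g m)) = 0) (m : M) :
    (U.u 1 * U.cu g 1 * U.u 1 * U.cu g 1) m = m + (U.n (U.cn g m) + U.cn g (U.n m)) := by
  have e1 : (U.u 1 * U.cu g 1 * U.u 1 * U.cu g 1) m =
    U.u 1 (U.cu g 1 (U.u 1 (U.cu g 1 m))) := rfl
  rw [e1]
  simp only [u_apply, cu_apply, one_smul, map_add, h1, h2, n_n, cn_cn, add_zero]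
  have t1 := U.two_M (U.n m)
  have t2 := U.two_M (U.cn g m)
  have t3 := U.two_M (U.n (U.cn g m))
  calc _ = m + (U.n (U.cn g m) + U.cn g (U.n m)) + ((U.n m + U.n m) +
        (U.cn g m + U.cn g m) + (U.n (U.cn g m) + U.n (U.cn g m))) := by abel
    _ = _ := by rw [t1, t2, t3]; simp

omit [CharP k 2] in
theorem cu_mul (g : M ≃ₗ[k] M) (a b : k) : U.cu g a * U.cu g b = U.cu g (a + b) := by
  ext m
  have e1 : (U.cu g a * U.cu g b) m = U.cu g a (U.cu g b m) := rfl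
  rw [e1, cu_apply, cu_apply, cu_apply, map_add, map_smul, cn_cn]
  module

omit [CharP k 2] in
theorem cu_zero (g : M ≃ₗ[k] M) : U.cu g 0 = 1 := by
  ext m
  rw [cu_apply, zero_smul, add_zero]; rfl

theorem cu_sq (g : M ≃ₗ[k] M) (a : k) : U.cu g a * U.cu g a = 1 := by
  rw [cu_mul, CharTwo.add_self_eq_zero, cu_zero]

variable [IsScalarTower k F Φ]

/-- **Section 1.** -/
theorem pos {g : M ≃ₗ[k] M} (hg : g ∈ U.H) :
    (∀ c, U.L g c = 0) ∨ (∀ c, U.L g c = 0 → c = 0) := by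
  by_contra hcon
  push Not at hcon
  obtain ⟨⟨c0, hc0⟩, c1, hc1, hc1n⟩ := hcon
  obtain ⟨θ, hθ⟩ := U.toQuad.exists_theta
  set L' := U.L g.symm with hL'
  -- `L' c ∈ k c1`
  have hLc1 : ∀ c, ∃ a : k, L' c = a • c1 := by
    intro c
    refine U.toQuad.mem_of_tr hc1n ?_
    rw [U.toQuad.tr_comm, ← U.L_adj hg, hc1, map_zero, mul_zero, map_zero]
  -- `r ≠ 0` with `L' r = 0`
  obtain ⟨r, hr0, hr⟩ : ∃ r, r ≠ 0 ∧ L' r = 0 := by
    obtain ⟨a, ha⟩ := hLc1 1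
    obtain ⟨b, hb⟩ := hLc1 θ
    by_cases h0 : a = 0
    · exact ⟨1, one_ne_zero, by rw [ha, h0, zero_smul]⟩
    · refine ⟨(b / a) • (1 : F) - θ, ?_, ?_⟩
      · intro h
        refine hθ (b / a) ?_
        rw [sub_eq_zero, Algebra.smul_def, mul_one] at h
        exact h
      · rw [map_sub, map_smul, ha, hb, smul_smul, div_mul_cancel₀ _ h0, sub_self]
  -- `L c ∈ k r`
  have hLr : ∀ c, ∃ a : k, U.L g c = a • r := by
    intro c
    refine U.toQuad.mem_of_tr hr0 ?_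
    rw [U.toQuad.tr_comm, U.L_adj hg, hr, map_zero, mul_zero, map_zero]
  have hLL' : ∀ c, U.L g (L' c) = 0 := by
    intro c
    obtain ⟨a, ha⟩ := hLc1 c
    rw [ha, map_smul, hc1, smul_zero]
  have hL'L : ∀ c, L' (U.L g c) = 0 := by
    intro c
    obtain ⟨a, ha⟩ := hLr c
    rw [ha, map_smul, hr, smul_zero]
  -- `L' ≠ 0`
  obtain ⟨b0, hb0⟩ : ∃ b, L' b ≠ 0 := by
    by_contra h
    push Not at h
    have h1 : U.sg (U.L g c0) = 0 := U.toQuad.tr_nondeg fun c => by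
      rw [U.L_adj hg]
      change U.tr (c0 * U.sg (L' c)) = 0
      rw [h c, map_zero, mul_zero, map_zero]
    exact U.toQuad.sg_ne _ hc0 h1
  -- the commutator
  have h1 : ∀ m, U.n (U.cn g (U.n m)) = 0 := by
    intro m
    rw [n_apply U m, cn_ε, n_gε]
    change U.ε (U.L g (L' (U.B m))) = 0
    rw [hLL', map_zero]
  have h2 : ∀ m, U.cn g (U.n (U.cn g m)) = 0 := by
    intro m
    rw [cn_apply U g m, n_gε, cn_ε]
    change g (U.ε (L' (U.L g (U.B (g.symm m))))) = 0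
    rw [hL'L, map_zero, map_zero]
  set c := U.u 1 * U.cu g 1 * U.u 1 * U.cu g 1 with hc
  have hcm : ∀ m, c m = m + (U.n (U.cn g m) + U.cn g (U.n m)) := U.comm_apply g h1 h2
  have hu : U.u 1 ∈ U.H := U.J_le (U.u_mem 1)
  have hcH : c ∈ U.H := mul_mem (mul_mem (mul_mem hu (U.cu_mem hg 1)) hu) (U.cu_mem hg 1)
  have hcJ : c ∈ U.J := by
    refine U.Jmax c hcH ?_ ?_ ?_
    · intro b
      rw [hcm, n_apply U (U.ε b), B_ε, map_zero, map_zero, add_zero, cn_ε, n_gε]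
      change U.ε b + U.ε (U.L g (L' b)) = U.ε b
      rw [hLL', map_zero, add_zero]
    · intro m hm
      refine ⟨U.B (U.cn g m), ?_⟩
      rw [hcm, n_apply U m, hm, map_zero, map_zero, add_zero, n_apply]
      abel
    · intro m
      rw [hcm, add_sub_cancel_left, map_add, n_apply, B_ε, zero_add, n_apply, cn_ε]
      change U.L g (L' (U.B m)) = 0
      exact hLL' _
  have hχ : U.χ c = 0 := by
    by_contra hne
    have key : ∀ b : F, ∃ a : k, b • U.χ c = a • U.y (g (U.ε c1)) := by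
      intro b
      obtain ⟨m, hm⟩ := U.B_surj b
      obtain ⟨a, ha⟩ := hLc1 b
      refine ⟨a, ?_⟩
      have h3 := (U.JM c hcJ m).2
      rw [hm, hcm, add_sub_cancel_left, map_add, n_apply, y_ε, zero_add, n_apply, hm, cn_ε] at h3
      change U.y (g (U.ε (L' b))) = _ at h3
      rw [ha, map_smul, map_smul, map_smul] at h3
      exact h3.symm
    obtain ⟨a1, ha1⟩ := key 1
    obtain ⟨a2, ha2⟩ := key θ
    rw [one_smul] at ha1
    have ha10 : a1 ≠ 0 := by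
      rintro rfl
      rw [zero_smul] at ha1
      exact hne ha1
    have h3 : U.y (g (U.ε c1)) = a1⁻¹ • U.χ c := by
      rw [ha1, smul_smul, inv_mul_cancel₀ ha10, one_smul]
    rw [h3, smul_smul, ← algebraMap_smul F (a2 * a1⁻¹) (U.χ c)] at ha2
    have h4 : (θ - algebraMap k F (a2 * a1⁻¹)) • U.χ c = 0 := by
      rw [sub_smul, ha2, sub_self]
    rcases smul_eq_zero.1 h4 with h5 | h5
    · exact hθ _ (sub_eq_zero.1 h5).symm
    · exact hne h5
  obtain ⟨s, hs⟩ := U.JA c hcJ hχ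
  have heq : ∀ m, U.ε (U.L g (U.B (g.symm m))) + g (U.ε (L' (U.B m))) = U.ε (s • U.B m) := by
    intro m
    have h3 := hs m
    rw [hcm] at h3
    exact add_left_cancel h3
  have hs0 : s = 0 := by
    by_contra hs0
    obtain ⟨m, hm⟩ := U.B_surj b0
    have h3 := heq m
    rw [hm] at h3
    have h4 : g (U.ε (L' b0)) = U.ε (s • b0 + U.L g (U.B (g.symm m))) := by
      rw [map_add, ← h3, add_comm, ← add_assoc, U.two_M, zero_add]
    have h5 := congrArg (U.cn g) h4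
    rw [cn_gε, cn_ε] at h5
    change 0 = g (U.ε (L' _)) at h5
    rw [map_add, hL'L, add_zero] at h5
    have h6 : L' (s • b0) = 0 := by
      apply U.ε_inj
      apply g.injective
      rw [← h5, map_zero, map_zero]
    rw [map_smul] at h6
    rcases smul_eq_zero.1 h6 with h7 | h7
    · exact hs0 h7
    · exact hb0 h7
  have heq' : ∀ m, U.ε (U.L g (U.B (g.symm m))) = g (U.ε (L' (U.B m))) := by
    intro m
    have h3 := heq m
    rw [hs0, zero_smul, map_zero] at h3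
    have h4 := U.two_M (g (U.ε (L' (U.B m))))
    exact add_right_cancel (h3.trans h4.symm)
  -- `g (ε c1) ∈ e`
  obtain ⟨w, hw⟩ : ∃ w, g (U.ε c1) = U.ε w := by
    obtain ⟨m', hm'⟩ := U.B_surj c0
    have h3 := heq' (g m')
    rw [LinearEquiv.symm_apply_apply, hm'] at h3
    obtain ⟨a, ha⟩ := hLc1 (U.B (g m'))
    rw [ha, map_smul, map_smul] at h3
    have ha0 : a ≠ 0 := by
      rintro rfl
      rw [zero_smul] at h3
      exact hc0 (U.ε_inj (by rw [h3, map_zero]))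
    refine ⟨a⁻¹ • U.L g c0, ?_⟩
    rw [map_smul, h3, smul_smul, inv_mul_cancel₀ ha0, one_smul]
  have hst : ∀ b : k, ∀ c, ∃ c', U.cu g b (U.ε c) = U.ε c' := by
    intro b c
    obtain ⟨a, ha⟩ := hLc1 c
    refine ⟨c + (b * a) • w, ?_⟩
    rw [cu_apply, cn_ε]
    change U.ε c + b • g (U.ε (L' c)) = _
    rw [ha, map_smul, map_smul, hw, smul_smul, map_add, map_smul]
  have hnt : ∀ b : k, (∀ c, U.cu g b (U.ε c) = U.ε c) → b = 0 := by
    intro b hb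
    have h3 := hb b0
    rw [cu_apply, cn_ε] at h3
    change U.ε b0 + b • g (U.ε (L' b0)) = _ at h3
    have h4 : b • g (U.ε (L' b0)) = 0 := by
      have : U.ε b0 + b • g (U.ε (L' b0)) = U.ε b0 + 0 := by rw [h3, add_zero]
      exact add_left_cancel this
    rcases smul_eq_zero.1 h4 with h5 | h5
    · exact h5
    · exact absurd (U.ε_inj (by
        rw [map_zero]; exact g.injective (by rw [h5, map_zero]))) hb0
  obtain ⟨b, hb1, hb2⟩ := U.toQuad.exists_b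
  have hcomm : U.cu g 1 * U.cu g b = U.cu g b * U.cu g 1 := by
    rw [cu_mul, cu_mul, add_comm]
  rcases U.Se (U.cu g 1) (U.cu_mem hg 1) (U.cu g b) (U.cu_mem hg b) hcomm (U.cu_sq g 1)
    (U.cu_sq g b) (hst 1) (hst b) with h | h | h
  · exact one_ne_zero (hnt 1 h)
  · exact hb1 (hnt b h)
  · refine hb2 ?_
    have h3 : (1 : k) + b = 0 := by
      apply hnt
      intro c
      rw [← cu_mul]
      exact h c
    have h4 : (1 : k) + 1 = 0 := CharTwo.add_self_eq_zero 1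
    exact add_left_cancel (h3.trans h4.symm)

end

end Uni

end Cfsg.Agent.Omega.NOne.SU

end

section


/-!
# THEOREM UNI, section 2: opposite pairs

`Opp U g δ`: `g e` is opposite to `e`; then `n' n = δ` on `g e`, `n n' = δ` on `e`.
`hel g δ z ∈ H`: `z` on `e`, `z⁻¹` on `g e`, `1` on `e^⊥ ∩ (g e)^⊥`.
-/

set_option autoImplicit false

namespace Cfsg.Agent.Omega.NOne.SU

/-- a `k`-linear map of `F` for which every vector is an eigenvector is a scalar. -/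
theorem Quad.scalar {k F : Type*} [Field k] [Field F] [Algebra k F] (P : F →ₗ[k] F)
    (h : ∀ c, ∃ a : k, P c = a • c) : ∃ δ : k, ∀ c, P c = δ • c := by
  obtain ⟨δ, hδ⟩ := h 1
  refine ⟨δ, fun c => ?_⟩
  by_cases hc : ∃ a : k, algebraMap k F a = c
  · obtain ⟨a, rfl⟩ := hc
    have h1 : algebraMap k F a = a • (1 : F) := by rw [Algebra.smul_def, mul_one]
    rw [h1, map_smul, hδ, smul_comm]
  · push Not at hc
    obtain ⟨a2, h2⟩ := h c
    obtain ⟨a3, h3⟩ := h (1 + c)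
    rw [map_add, hδ, h2] at h3
    by_cases h23 : a2 = a3
    · subst h23
      have h4 : δ • (1 : F) = a2 • (1 : F) := by
        rw [smul_add] at h3
        exact add_right_cancel h3
      rw [Algebra.smul_def, Algebra.smul_def, mul_one, mul_one] at h4
      rw [h2, (algebraMap k F).injective h4]
    · exfalso
      have h4 : (a2 - a3) • c = (a3 - δ) • (1 : F) := by
        rw [sub_smul, sub_smul]
        rw [smul_add] at h3
        linear_combination (exp := 1) h3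
      have h5 : a2 - a3 ≠ 0 := sub_ne_zero.2 h23
      refine hc ((a2 - a3)⁻¹ * (a3 - δ)) ?_
      rw [← mul_one (algebraMap k F _), ← Algebra.smul_def, mul_smul, ← h4, smul_smul,
        inv_mul_cancel₀ h5, one_smul]

namespace Uni

variable {k F M Φ : Type*} [Field k] [Field F] [Algebra k F] [AddCommGroup M] [Module k M]
    [AddCommGroup Φ] [Module k Φ] [Module F Φ] (U : Uni k F M Φ)

/-- `g e` is opposite to `e`. -/
structure Opp (g : M ≃ₗ[k] M) (δ : k) : Prop where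
  mem : g ∈ U.H
  ne : δ ≠ 0
  LL' : ∀ c, U.L g (U.L g.symm c) = δ • c
  L'L : ∀ c, U.L g.symm (U.L g c) = δ • c

include U

theorem L_surj {g : M ≃ₗ[k] M} (ho : ∀ c, U.L g c = 0 → c = 0) (b : F) : ∃ c, U.L g c = b := by
  have := U.toQuad.finite_F
  have hi : Function.Injective (U.L g) := (injective_iff_map_eq_zero _).2 ho
  exact Finite.surjective_of_injective hi b

theorem L_injective {g : M ≃ₗ[k] M} (ho : ∀ c, U.L g c = 0 → c = 0) : Function.Injective (U.L g) :=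
  (injective_iff_map_eq_zero _).2 ho

variable [CharP k 2]

theorem opp_symm {g : M ≃ₗ[k] M} (hg : g ∈ U.H) (ho : ∀ c, U.L g c = 0 → c = 0) :
    ∀ c, U.L g.symm c = 0 → c = 0 := by
  intro c hc
  refine U.toQuad.tr_nondeg fun x => ?_
  obtain ⟨c', hc'⟩ := U.L_surj ho (U.sg x)
  rw [mul_comm, ← U.sg_sg x, ← hc', U.L_adj hg, hc, map_zero, mul_zero, map_zero]

theorem exists_δ {g : M ≃ₗ[k] M} (hg : g ∈ U.H) (ho : ∀ c, U.L g c = 0 → c = 0) :
    ∃ δ, U.Opp g δ := by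
  obtain ⟨δ, hδ⟩ := Quad.scalar (U.L g.symm ∘ₗ U.L g) (by
    intro c
    by_cases hc : c = 0
    · exact ⟨0, by rw [hc, map_zero, smul_zero]⟩
    have hLc : U.L g c ≠ 0 := fun h => hc (ho c h)
    have h1 : U.tr (U.L g (U.L g.symm (U.L g c)) * U.sg (U.L g c)) = 0 := by
      rw [U.toQuad.tr_comm, U.L_adj hg, U.toQuad.tr_self]
    obtain ⟨a, ha⟩ := U.toQuad.mem_of_tr hLc h1
    refine ⟨a, ?_⟩
    apply U.L_injective ho
    rw [map_smul, ← ha]
    rfl)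
  have hδ' : ∀ c, U.L g.symm (U.L g c) = δ • c := hδ
  refine ⟨δ, hg, ?_, ?_, hδ'⟩
  · rintro rfl
    have h1 := hδ' 1
    rw [zero_smul] at h1
    exact one_ne_zero (ho 1 (U.opp_symm hg ho _ h1))
  · intro c
    obtain ⟨c', rfl⟩ := U.L_surj ho c
    rw [hδ', map_smul]

/-- `z` on `e`, `z⁻¹` on `g e`, `1` on the rest. -/
noncomputable def hel (g : M ≃ₗ[k] M) (δ z : k) : M ≃ₗ[k] M :=
  U.u z * U.cu g (z⁻¹ * δ⁻¹) * U.u z * (U.u 1 * U.cu g δ⁻¹ * U.u 1)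

/-- the coordinate map `F ≃ g e`, inverse of `B`. -/
noncomputable def v (g : M ≃ₗ[k] M) (δ : k) : F →ₗ[k] M :=
  δ⁻¹ • (g.toLinearMap ∘ₗ U.ε ∘ₗ U.L g.symm)

omit [CharP k 2] in
theorem v_apply (g : M ≃ₗ[k] M) (δ : k) (s : F) :
    U.v g δ s = δ⁻¹ • g (U.ε (U.L g.symm s)) := rfl

end Uni

namespace Uni.Opp

variable {k F M Φ : Type*} [Field k] [Field F] [Algebra k F] [AddCommGroup M] [Module k M]
    [AddCommGroup Φ] [Module k Φ] [Module F Φ] {U : Uni k F M Φ} {g : M ≃ₗ[k] M} {δ : k}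
    (h : U.Opp g δ)
include h

theorem inj : ∀ c, U.L g c = 0 → c = 0 := by
  intro c hc
  have h1 := h.L'L c
  rw [hc, map_zero] at h1
  rcases smul_eq_zero.1 h1.symm with h2 | h2
  · exact absurd h2 h.ne
  · exact h2

theorem inj' : ∀ c, U.L g.symm c = 0 → c = 0 := by
  intro c hc
  have h1 := h.LL' c
  rw [hc, map_zero] at h1
  rcases smul_eq_zero.1 h1.symm with h2 | h2
  · exact absurd h2 h.ne
  · exact h2

theorem ncn (m : M) : U.n (U.cn g (U.n m)) = δ • U.n m := by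
  rw [U.n_apply m, U.cn_ε, U.n_gε, h.LL', map_smul]

theorem cnc (m : M) : U.cn g (U.n (U.cn g m)) = δ • U.cn g m := by
  rw [U.cn_apply g m, U.n_gε, U.cn_ε, h.L'L, map_smul, map_smul]

theorem hel_mem (z : k) : U.hel g δ z ∈ U.H := by
  have h1 : ∀ a, U.u a ∈ U.H := fun a => U.J_le (U.u_mem a)
  exact mul_mem (mul_mem (mul_mem (h1 _) (U.cu_mem h.mem _)) (h1 _))
    (mul_mem (mul_mem (h1 _) (U.cu_mem h.mem _)) (h1 _))

theorem hel_apply [CharP k 2] {z : k} (hz : z ≠ 0) (m : M) :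
    U.hel g δ z m = m + ((z - 1) * δ⁻¹) • U.n (U.cn g m) +
      ((z⁻¹ - 1) * δ⁻¹) • U.cn g (U.n m) := by
  have e1 : U.hel g δ z m = U.u z (U.cu g (z⁻¹ * δ⁻¹) (U.u z (U.u 1 (U.cu g δ⁻¹
    (U.u 1 m))))) := rfl
  rw [e1]
  simp only [u_apply, cu_apply, map_add, map_smul, n_n, cn_cn, h.ncn, h.cnc, one_smul, smul_zero,
    add_zero]
  have hzw : z * z⁻¹ = 1 := mul_inv_cancel₀ hz
  have hd : δ * δ⁻¹ = 1 := mul_inv_cancel₀ h.ne
  have t2 : (2 : k) = 0 := CharTwo.two_eq_zero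
  generalize z⁻¹ = w at *
  generalize δ⁻¹ = d at *
  match_scalars <;> grind

/-- `n n' = δ` on `e` -/
theorem n_cn_ε (c : F) : U.n (U.cn g (U.ε c)) = δ • U.ε c := by
  rw [U.cn_ε, U.n_gε, h.LL', map_smul]

theorem cn_n_g (c : F) : U.cn g (U.n (g (U.ε c))) = δ • g (U.ε c) := by
  rw [U.n_gε, U.cn_ε, h.L'L, map_smul, map_smul]

theorem hel_ε [CharP k 2] {z : k} (hz : z ≠ 0) (c : F) :
    U.hel g δ z (U.ε c) = z • U.ε c := by
  rw [h.hel_apply hz, h.n_cn_ε, U.n_apply, U.B_ε, map_zero, map_zero, smul_zero, add_zero,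
    smul_smul, mul_assoc, inv_mul_cancel₀ h.ne, mul_one]
  module

theorem hel_g [CharP k 2] {z : k} (hz : z ≠ 0) (c : F) :
    U.hel g δ z (g (U.ε c)) = z⁻¹ • g (U.ε c) := by
  rw [h.hel_apply hz, U.cn_gε, map_zero, smul_zero, add_zero, h.cn_n_g,
    smul_smul, mul_assoc, inv_mul_cancel₀ h.ne, mul_one]
  module

theorem B_cn_n (m : M) : U.B (U.cn g (U.n m)) = δ • U.B m := by
  rw [U.n_apply, U.cn_ε]
  exact h.LL' _

theorem B_n (m : M) : U.B (U.n m) = 0 := by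
  have _ := h
  exact U.B_ε _

theorem B_hel [CharP k 2] {z : k} (hz : z ≠ 0) (m : M) :
    U.B (U.hel g δ z m) = z⁻¹ • U.B m := by
  rw [h.hel_apply hz, map_add, map_add, map_smul, map_smul, h.B_n, smul_zero, add_zero, h.B_cn_n,
    smul_smul, mul_assoc, inv_mul_cancel₀ h.ne, mul_one]
  module

theorem hel_P [CharP k 2] {z : k} (hz : z ≠ 0) {m : M} (hm : U.B m = 0) :
    ∃ c, U.hel g δ z m - m = U.ε c := by
  rw [h.hel_apply hz, U.n_apply m, hm, map_zero, map_zero, smul_zero, add_zero,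
    add_sub_cancel_left]
  exact ⟨((z - 1) * δ⁻¹) • U.B (U.cn g m), by rw [map_smul]; rfl⟩

/-- `U = e^⊥ ∩ (g e)^⊥` is fixed. -/
theorem hel_fix [CharP k 2] {z : k} (hz : z ≠ 0) {m : M} (hm : U.n m = 0) (hm' : U.cn g m = 0) :
    U.hel g δ z m = m := by
  rw [h.hel_apply hz, hm, hm', map_zero, map_zero, smul_zero, smul_zero, add_zero, add_zero]

/-! ### coordinates on `g e` -/

theorem B_v (s : F) : U.B (U.v g δ s) = s := by
  rw [U.v_apply, map_smul]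
  change δ⁻¹ • U.L g (U.L g.symm s) = s
  rw [h.LL', smul_smul, inv_mul_cancel₀ h.ne, one_smul]

theorem g_eq_v (c : F) : g (U.ε c) = U.v g δ (U.L g c) := by
  rw [U.v_apply, h.L'L, map_smul, map_smul, smul_smul, inv_mul_cancel₀ h.ne, one_smul]

theorem v_eq_g (s : F) : ∃ c, U.v g δ s = g (U.ε c) := by
  have _ := h
  exact ⟨δ⁻¹ • U.L g.symm s, by rw [map_smul, map_smul]; rfl⟩

theorem f_v_v (s s' : F) : U.f (U.v g δ s) (U.v g δ s') = 0 := by
  rw [U.v_apply, U.v_apply, map_smul, map_smul, LinearMap.smul_apply, U.isom g h.mem, U.f_ε_ε,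
    smul_zero, smul_zero]

theorem cn_v (s : F) : U.cn g (U.v g δ s) = 0 := by
  have _ := h
  rw [U.v_apply, map_smul, U.cn_gε, smul_zero]

theorem cn_ε_v (a : F) : U.cn g (U.ε a) = δ • U.v g δ a := by
  rw [U.cn_ε, U.v_apply, smul_smul, mul_inv_cancel₀ h.ne, one_smul]

/-- `cn g u = 0` iff `u ⊥ g e` -/
theorem cn_eq_zero [CharP k 2] {u : M} (hu : ∀ s, U.f (U.v g δ s) u = 0) : U.cn g u = 0 := by
  have h1 : U.B (g.symm u) = 0 := by
    have h2 : ∀ c, U.tr (c * U.sg (U.B (g.symm u))) = 0 := by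
      intro c
      rw [← U.fe, ← U.f_left h.mem, h.g_eq_v]
      exact hu _
    have h3 := U.toQuad.tr_nondeg h2
    simpa using h3
  rw [U.cn_apply, h1, map_zero, map_zero]

/-- the unipotent group of `g e` in coordinates. -/
theorem exists_w [CharP k 2] (b : k) : ∃ w ∈ U.H, (∀ a, w (U.ε a) = U.ε a + b • U.v g δ a) ∧
    (∀ s, w (U.v g δ s) = U.v g δ s) ∧
    ∀ u, (∀ s, U.f (U.v g δ s) u = 0) → w u = u := by
  refine ⟨U.cu g (b * δ⁻¹), U.cu_mem h.mem _, ?_, ?_, ?_⟩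
  · intro a
    rw [U.cu_apply, h.cn_ε_v, smul_smul, mul_assoc, inv_mul_cancel₀ h.ne, mul_one]
  · intro s
    rw [U.cu_apply, h.cn_v, smul_zero, add_zero]
  · intro u hu
    rw [U.cu_apply, h.cn_eq_zero hu, smul_zero, add_zero]

end Uni.Opp

end Cfsg.Agent.Omega.NOne.SU

end

section


/-!
# THEOREM UNI, section 3: `J` is transitive on the planes opposite to `e`

* `Uni.exists_opp`: there is an opposite plane.
* `Uni.trans`: two opposite planes are conjugate under `J`.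
* `Uni.exists_fix`: some opposite plane is normalised by the torus `t`.
* `Uni.exists_v`: the output consumed by sections 4, 5.
-/

set_option autoImplicit false

namespace Cfsg.Agent.Omega.NOne.SU

/-- `j ↦ j (τ j τ⁻¹)⁻¹` is onto if it is injective. -/
theorem conj_surj {Γ : Type*} [Group Γ] (A : Subgroup Γ) [Finite A] (τ : Γ)
    (hn : ∀ a ∈ A, τ * a * τ⁻¹ ∈ A) (hf : ∀ a ∈ A, τ * a * τ⁻¹ = a → a = 1) {x : Γ}
    (hx : x ∈ A) : ∃ j ∈ A, x = j * (τ * j * τ⁻¹)⁻¹ := by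
  let φ : A → A := fun j => ⟨j * (τ * j * τ⁻¹)⁻¹, mul_mem j.2 (inv_mem (hn j j.2))⟩
  have hinj : Function.Injective φ := by
    intro a b hab
    have h1 : (a : Γ) * (τ * a * τ⁻¹)⁻¹ = b * (τ * b * τ⁻¹)⁻¹ := congrArg Subtype.val hab
    have h2 : τ * ((b : Γ)⁻¹ * a) * τ⁻¹ = (b : Γ)⁻¹ * a := by
      have h3 : (b : Γ)⁻¹ * a = (τ * b * τ⁻¹)⁻¹ * (τ * a * τ⁻¹) := by
        have h4 := congrArg (fun t => (b : Γ)⁻¹ * t * (τ * a * τ⁻¹)) h1
        calc (b : Γ)⁻¹ * a = (b : Γ)⁻¹ * (a * (τ * a * τ⁻¹)⁻¹) * (τ * a * τ⁻¹) := by group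
          _ = (b : Γ)⁻¹ * (b * (τ * b * τ⁻¹)⁻¹) * (τ * a * τ⁻¹) := h4
          _ = _ := by group
      calc τ * ((b : Γ)⁻¹ * a) * τ⁻¹ = (τ * b * τ⁻¹)⁻¹ * (τ * a * τ⁻¹) := by group
        _ = _ := h3.symm
    have h5 := hf _ (mul_mem (inv_mem b.2) a.2) h2
    apply Subtype.ext
    exact (inv_mul_eq_one.1 h5).symm
  obtain ⟨j, hj⟩ := Finite.surjective_of_injective hinj ⟨x, hx⟩
  exact ⟨j, j.2, (congrArg Subtype.val hj).symm⟩

namespace Uni

variable {k F M Φ : Type*} [Field k] [Field F] [Algebra k F] [AddCommGroup M] [Module k M]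
    [AddCommGroup Φ] [Module k Φ] [Module F Φ] (U : Uni k F M Φ)

/-- the elements which act on `e`, `P/e`, `M/P` as scalars. -/
structure Tor (τ : M ≃ₗ[k] M) (α β γ : F) : Prop where
  H : ∀ g ∈ U.H, τ * g * τ⁻¹ ∈ U.H
  e : ∀ c, τ (U.ε c) = U.ε (α * c)
  B : ∀ m, U.B (τ m) = β * U.B m
  y : ∀ m, U.B m = 0 → U.y (τ m) = γ • U.y m
  α0 : α ≠ 0
  β0 : β ≠ 0

variable {U}

namespace Tor

variable {τ : M ≃ₗ[k] M} {α β γ : F} (h : U.Tor τ α β γ)
include h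

theorem e' (c : F) : τ.symm (U.ε c) = U.ε (α⁻¹ * c) := by
  rw [LinearEquiv.symm_apply_eq, h.e, ← mul_assoc, mul_inv_cancel₀ h.α0, one_mul]

theorem B' (m : M) : U.B (τ.symm m) = β⁻¹ * U.B m := by
  have h1 := h.B (τ.symm m)
  rw [LinearEquiv.apply_symm_apply] at h1
  rw [h1, ← mul_assoc, inv_mul_cancel₀ h.β0, one_mul]

theorem sub (j : M ≃ₗ[k] M) (m : M) :
    (τ * j * τ⁻¹) m - m = τ (j (τ.symm m) - τ.symm m) := by
  have _ := h
  rw [map_sub, LinearEquiv.apply_symm_apply]; rfl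

theorem mem_J {j : M ≃ₗ[k] M} (hj : j ∈ U.J) : τ * j * τ⁻¹ ∈ U.J := by
  refine U.Jmax _ (h.H j (U.J_le hj)) ?_ ?_ ?_
  · intro c
    have e1 : (τ * j * τ⁻¹) (U.ε c) = τ (j (τ.symm (U.ε c))) := rfl
    rw [e1, h.e', U.Je j hj, h.e, ← mul_assoc, mul_inv_cancel₀ h.α0, one_mul]
  · intro m hm
    have h1 : U.B (τ.symm m) = 0 := by rw [h.B', hm, mul_zero]
    rw [h.sub, U.JP j hj _ h1, add_sub_cancel_left, h.e]
    exact ⟨_, rfl⟩
  · intro m
    rw [h.sub, h.B, (U.JM j hj _).1, mul_zero]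

theorem χ [CharP k 2] {j : M ≃ₗ[k] M} (hj : j ∈ U.J) :
    U.χ (τ * j * τ⁻¹) = (γ * β⁻¹) • U.χ j := by
  obtain ⟨m, hm⟩ := U.B_surj 1
  have h1 := (U.JM _ (h.mem_J hj) m).2
  rw [hm, one_smul] at h1
  have h2 := U.JM j hj (τ.symm m)
  rw [← h1, h.sub, h.y _ h2.1, h2.2, h.B', hm, mul_one, mul_smul]

theorem free [CharP k 2] (h1 : γ ≠ β) (h2 : α ≠ β) :
    ∀ j ∈ U.J, τ * j * τ⁻¹ = j → j = 1 := by
  intro j hj hjj
  have h3 : U.χ j = 0 := by
    have h4 := h.χ hj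
    rw [hjj] at h4
    have h5 : (1 - γ * β⁻¹) • U.χ j = 0 := by rw [sub_smul, one_smul, ← h4, sub_self]
    rcases smul_eq_zero.1 h5 with h6 | h6
    · exfalso
      apply h1
      have h7 := (sub_eq_zero.1 h6).symm
      rw [← div_eq_mul_inv, div_eq_one_iff_eq h.β0] at h7
      exact h7
    · exact h6
  obtain ⟨a, ha⟩ := U.JA j hj h3
  obtain ⟨m, hm⟩ := U.B_surj 1
  have h4 := h.sub j m
  rw [hjj, ha, ha, add_sub_cancel_left, add_sub_cancel_left, h.e, h.B', hm, mul_one] at h4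
  have h5 := U.ε_inj h4
  have h6 : (1 - α * β⁻¹) * algebraMap k F a = 0 := by
    rw [Algebra.smul_def, Algebra.smul_def, mul_one] at h5
    linear_combination h5
  have h7 : a = 0 := by
    rcases mul_eq_zero.1 h6 with h8 | h8
    · exfalso
      apply h2
      have h9 := (sub_eq_zero.1 h8).symm
      rw [← div_eq_mul_inv, div_eq_one_iff_eq h.β0] at h9
      exact h9
    · exact (map_eq_zero_iff _ (algebraMap k F).injective).1 h8
  ext m'
  rw [ha, h7, zero_smul, map_zero, add_zero]; rfl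

end Tor

section
variable [CharP k 2]

theorem tor_hel {g : M ≃ₗ[k] M} {δ : k} (h : U.Opp g δ) {z : k} (hz : z ≠ 0) :
    U.Tor (U.hel g δ z) (algebraMap k F z) (algebraMap k F z⁻¹) 1 where
  H := fun g' hg' => mul_mem (mul_mem (h.hel_mem z) hg') (inv_mem (h.hel_mem z))
  e := fun c => by rw [h.hel_ε hz, ← map_smul, Algebra.smul_def]
  B := fun m => by rw [h.B_hel hz, Algebra.smul_def]
  y := fun m hm => by
    obtain ⟨c, hc⟩ := h.hel_P hz hm
    rw [one_smul, ← sub_eq_zero, ← map_sub, hc, U.y_ε]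
  α0 := by
    rw [Ne, map_eq_zero_iff _ (algebraMap k F).injective]; exact hz
  β0 := by
    rw [Ne, map_eq_zero_iff _ (algebraMap k F).injective]; exact inv_ne_zero hz

theorem sq_ne {z : k} (hz : z ≠ 0) (hz1 : z ≠ 1) : z ≠ z⁻¹ := by
  intro h
  apply hz1
  have h1 : z * z = 1 := by
    nth_rw 2 [h]; exact mul_inv_cancel₀ hz
  have h2 : (2 : k) = 0 := CharTwo.two_eq_zero
  have h3 : (z - 1) * (z - 1) = 0 := by linear_combination h1 + (1 - z) * h2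
  have h4 := mul_self_eq_zero.1 h3
  exact sub_eq_zero.1 h4

variable (U) in
include U in
/-- some conjugate of `e` is opposite to `e`. -/
theorem exists_opp [IsScalarTower k F Φ] : ∃ g δ, U.Opp g δ := by
  by_contra hcon
  push Not at hcon
  have h1 : ∀ g ∈ U.H, ∀ c, U.L g c = 0 := by
    intro g hg
    rcases U.pos hg with h | h
    · exact h
    · obtain ⟨δ, hδ⟩ := U.exists_δ hg h
      exact absurd hδ (hcon g δ)
  have h2 := U.Om (LinearMap.ker U.B) fun g hg c => by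
    rw [LinearMap.mem_ker]; exact h1 g hg c
  obtain ⟨m, hm⟩ := U.B_surj 1
  have h3 : m ∈ LinearMap.ker U.B := by rw [h2]; trivial
  rw [LinearMap.mem_ker, hm] at h3
  exact one_ne_zero h3

/-- **Section 3**: transitivity. -/
theorem Opp.trans [Finite M] {g₁ g₂ : M ≃ₗ[k] M} {δ₁ δ₂ : k} (h₁ : U.Opp g₁ δ₁)
    (h₂ : U.Opp g₂ δ₂) : ∃ j ∈ U.J, ∀ c, ∃ c', j (g₁ (U.ε c)) = g₂ (U.ε c') := by
  obtain ⟨z, hz0, hz1⟩ := U.toQuad.exists_b
  have hfin : Finite (M ≃ₗ[k] M) :=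
    Finite.of_injective (fun e : M ≃ₗ[k] M => (e : M → M)) DFunLike.coe_injective
  set η₁ := U.hel g₁ δ₁ z with hη₁
  set η₂ := U.hel g₂ δ₂ z with hη₂
  have T₁ := tor_hel h₁ hz0
  rw [← hη₁] at T₁
  have halg : algebraMap k F z ≠ algebraMap k F z⁻¹ := fun h =>
    sq_ne hz0 hz1 ((algebraMap k F).injective h)
  have halg1 : (1 : F) ≠ algebraMap k F z⁻¹ := by
    intro h
    rw [← map_one (algebraMap k F)] at h
    have := (algebraMap k F).injective h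
    exact hz1 (by rw [← inv_inv z, ← this, inv_one])
  -- `η₂ η₁⁻¹ ∈ J`
  have hx : η₂ * η₁⁻¹ ∈ U.J := by
    refine U.Jmax _ (mul_mem (h₂.hel_mem z) (inv_mem (h₁.hel_mem z))) ?_ ?_ ?_
    · intro c
      have e1 : (η₂ * η₁⁻¹) (U.ε c) = η₂ (η₁.symm (U.ε c)) := rfl
      rw [e1, T₁.e', hη₂, h₂.hel_ε hz0, ← map_smul, Algebra.smul_def, ← mul_assoc,
        mul_inv_cancel₀ T₁.α0, one_mul]
    · intro m hm
      have hm' : U.B (η₁.symm m) = 0 := by rw [T₁.B', hm, mul_zero]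
      obtain ⟨c₁, hc₁⟩ := h₁.hel_P hz0 hm'
      obtain ⟨c₂, hc₂⟩ := h₂.hel_P hz0 hm'
      refine ⟨c₂ - c₁, ?_⟩
      rw [← hη₁, LinearEquiv.apply_symm_apply] at hc₁
      rw [← hη₂] at hc₂
      have e1 : (η₂ * η₁⁻¹) m = η₂ (η₁.symm m) := rfl
      rw [e1, map_sub, ← hc₁, ← hc₂]
      abel
    · intro m
      have e1 : (η₂ * η₁⁻¹) m = η₂ (η₁.symm m) := rfl
      rw [e1, map_sub, hη₂, h₂.B_hel hz0, T₁.B', Algebra.smul_def, ← mul_assoc,
        mul_inv_cancel₀ T₁.β0, one_mul, sub_self]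
  obtain ⟨j, hj, hjx⟩ := conj_surj U.J η₁ (fun a ha => T₁.mem_J ha) (T₁.free halg1 halg) hx
  have hconj : η₂ * j = j * η₁ := by
    calc η₂ * j = (η₂ * η₁⁻¹) * (η₁ * j) := by group
      _ = j * (η₁ * j * η₁⁻¹)⁻¹ * (η₁ * j) := by rw [hjx]
      _ = j * η₁ := by group
  refine ⟨j, hj, fun c => ?_⟩
  set m := j (g₁ (U.ε c)) with hm
  have h3 : η₂ m = z⁻¹ • m := by
    have e1 : η₂ m = (η₂ * j) (g₁ (U.ε c)) := rfl
    have e2 : (j * η₁) (g₁ (U.ε c)) = j (η₁ (g₁ (U.ε c))) := rfl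
    rw [e1, hconj, e2, hη₁, h₁.hel_g hz0, map_smul]
  rw [hη₂, h₂.hel_apply hz0] at h3
  have hzz : z - z⁻¹ ≠ 0 := sub_ne_zero.2 (sq_ne hz0 hz1)
  have h4 : U.n (U.cn g₂ m) = 0 := by
    have h5 := congrArg (fun x => U.n (U.cn g₂ x)) h3
    simp only [map_add, map_smul, h₂.cnc, U.cn_cn, smul_zero, add_zero] at h5
    have h6 : (z - z⁻¹) • U.n (U.cn g₂ m) = 0 := by
      have hd : δ₂⁻¹ * δ₂ = 1 := inv_mul_cancel₀ h₂.ne
      have h7 : U.n (U.cn g₂ m) + ((z - 1) * δ₂⁻¹) • δ₂ • U.n (U.cn g₂ m) =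
          z • U.n (U.cn g₂ m) := by
        rw [smul_smul, mul_assoc, hd, mul_one]; module
      rw [h7] at h5
      rw [sub_smul, h5, sub_self]
    rcases smul_eq_zero.1 h6 with h7 | h7
    · exact absurd h7 hzz
    · exact h7
  rw [h4, smul_zero, add_zero] at h3
  have hz2 : z⁻¹ - 1 ≠ 0 := by
    intro h
    have h5 := sub_eq_zero.1 h
    exact hz1 (by rw [← inv_inv z, h5, inv_one])
  refine ⟨δ₂⁻¹ • U.L g₂.symm (U.B m), ?_⟩
  have h5 : (z⁻¹ - 1) • m = (z⁻¹ - 1) • (δ₂⁻¹ • U.cn g₂ (U.n m)) := by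
    rw [smul_smul, sub_smul, one_smul, ← h3]
    abel
  have h6 := congrArg (fun x => (z⁻¹ - 1)⁻¹ • x) h5
  simp only [smul_smul, inv_mul_cancel₀ hz2, one_smul] at h6
  rw [← mul_assoc, inv_mul_cancel₀ hz2, one_mul] at h6
  rw [map_smul, map_smul]
  exact h6

omit [CharP k 2] in
theorem tor_t (z : Fˣ) : U.Tor (U.t z) ((z : F) * (U.sg z)⁻¹) ((z : F) ^ 2) (z : F) where
  H := U.tH z
  e := U.te z
  B := U.tB z
  y := U.ty z
  α0 := mul_ne_zero z.ne_zero (inv_ne_zero (U.toQuad.sg_ne _ z.ne_zero))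
  β0 := pow_ne_zero 2 z.ne_zero

/-- an opposite plane normalised by the torus. -/
theorem exists_fix [Finite M] [IsScalarTower k F Φ] :
    ∃ g δ, U.Opp g δ ∧ ∀ z c, ∃ c', U.t z (g (U.ε c)) = g (U.ε c') := by
  have hfF := U.toQuad.finite_F
  have hfin : Finite (M ≃ₗ[k] M) :=
    Finite.of_injective (fun e : M ≃ₗ[k] M => (e : M → M)) DFunLike.coe_injective
  obtain ⟨z0, hz0⟩ := IsCyclic.exists_generator (α := Fˣ)
  -- the norm of `z0`
  have hN : (z0 : F) * U.sg z0 ≠ 1 := by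
    intro h
    let ν : Fˣ →* F :=
      { toFun := fun z => (z : F) * U.sg z
        map_one' := by simp
        map_mul' := fun a b => by
          simp only [Units.val_mul, map_mul]; ring }
    have h1 : ∀ z : Fˣ, ν z = 1 := by
      intro z
      obtain ⟨n, rfl⟩ := hz0 z
      have h2 : ν z0 = 1 := h
      have h3 : ∀ (n : ℤ), ν (z0 ^ n) = 1 := by
        intro n
        have h4 : (MonoidHom.toHomUnits ν) (z0 ^ n) = 1 := by
          rw [map_zpow]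
          have h5 : (MonoidHom.toHomUnits ν) z0 = 1 := Units.ext h2
          rw [h5, one_zpow]
        have h6 := congrArg Units.val h4
        simpa using h6
      exact h3 n
    obtain ⟨b, hb0, hb1⟩ := U.toQuad.exists_b
    have hb0' : algebraMap k F b ≠ 0 := by
      rw [Ne, map_eq_zero_iff _ (algebraMap k F).injective]; exact hb0
    have h2 : algebraMap k F b * U.sg (algebraMap k F b) = 1 := h1 (Units.mk0 _ hb0')
    rw [AlgEquiv.commutes, ← map_mul, ← map_one (algebraMap k F)] at h2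
    have h3 := (algebraMap k F).injective h2
    exact sq_ne hb0 hb1 (eq_inv_of_mul_eq_one_left h3)
  set τ := U.t z0 with hτ
  have T := tor_t (U := U) z0
  rw [← hτ] at T
  have hγβ : (z0 : F) ≠ (z0 : F) ^ 2 := by
    intro h
    apply hN
    have h1 : (z0 : F) = 1 := by
      have h2 : (z0 : F) * (z0 : F) = (z0 : F) * 1 := by rw [mul_one, ← sq]; exact h.symm
      exact mul_left_cancel₀ z0.ne_zero h2
    rw [h1, map_one, mul_one]
  have hαβ : (z0 : F) * (U.sg z0)⁻¹ ≠ (z0 : F) ^ 2 := by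
    intro h
    apply hN
    rw [sq] at h
    have h1 := mul_left_cancel₀ z0.ne_zero h
    have h2 : (z0 : F) * U.sg z0 = (U.sg z0)⁻¹ * U.sg z0 := by rw [h1]
    rw [h2, inv_mul_cancel₀ (U.toQuad.sg_ne _ z0.ne_zero)]
  obtain ⟨g₁, δ₁, h₁⟩ := exists_opp U
  have hg₂ : τ * g₁ * τ⁻¹ ∈ U.H := T.H _ h₁.mem
  have hL₂ : ∀ c, U.L (τ * g₁ * τ⁻¹) c = (z0 : F) ^ 2 *
      U.L g₁ (((z0 : F) * (U.sg z0)⁻¹)⁻¹ * c) := by
    intro c
    have e1 : U.L (τ * g₁ * τ⁻¹) c = U.B (τ (g₁ (τ.symm (U.ε c)))) := rfl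
    rw [e1, T.B, T.e']
    rfl
  obtain ⟨δ₂, h₂⟩ := U.exists_δ hg₂ (by
    intro c hc
    rw [hL₂] at hc
    rcases mul_eq_zero.1 hc with h | h
    · exact absurd h T.β0
    · rcases mul_eq_zero.1 (h₁.inj _ h) with h' | h'
      · exact absurd h' (inv_ne_zero T.α0)
      · exact h')
  obtain ⟨j0, hj0, hj⟩ := Opp.trans h₁ h₂
  obtain ⟨i, hi, hix⟩ := conj_surj U.J τ (fun a ha => T.mem_J ha) (T.free hγβ hαβ) (inv_mem hj0)
  -- `j = i⁻¹` : `j = (τ j τ⁻¹) j0`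
  have hji : i⁻¹ = (τ * i⁻¹ * τ⁻¹) * j0 := by
    have h3 : j0 = (τ * i * τ⁻¹) * i⁻¹ := by
      rw [← inv_inv j0, hix]; group
    rw [h3]; group
  have hmem : i⁻¹ * g₁ ∈ U.H := mul_mem (inv_mem (U.J_le hi)) h₁.mem
  have hLg : ∀ c, U.L (i⁻¹ * g₁) c = U.L g₁ c := by
    intro c
    have e1 : U.L (i⁻¹ * g₁) c = U.B ((i⁻¹ : M ≃ₗ[k] M) (g₁ (U.ε c))) := rfl
    have h3 := (U.JM i⁻¹ (inv_mem hi) (g₁ (U.ε c))).1
    rw [map_sub, sub_eq_zero] at h3
    rw [e1, h3]; rfl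
  obtain ⟨δ, h⟩ := U.exists_δ hmem (fun c hc => h₁.inj c (by rw [← hLg]; exact hc))
  refine ⟨i⁻¹ * g₁, δ, h, ?_⟩
  -- one generator
  have hgen : ∀ c, ∃ c', (U.t z0)⁻¹ ((i⁻¹ * g₁) (U.ε c)) = (i⁻¹ * g₁) (U.ε c') := by
    intro c
    obtain ⟨c', hc'⟩ := hj c
    refine ⟨((z0 : F) * (U.sg z0)⁻¹)⁻¹ * c', ?_⟩
    have e1 : (i⁻¹ * g₁) (U.ε c) = (i⁻¹ : M ≃ₗ[k] M) (g₁ (U.ε c)) := rfl
    have e2 : ((τ * i⁻¹ * τ⁻¹) * j0) (g₁ (U.ε c)) =
      (τ * i⁻¹ * τ⁻¹) (j0 (g₁ (U.ε c))) := rfl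
    have e3 : (τ * i⁻¹ * τ⁻¹) ((τ * g₁ * τ⁻¹) (U.ε c')) =
      (τ * (i⁻¹ * g₁) * τ⁻¹) (U.ε c') := by
      have : (τ * i⁻¹ * τ⁻¹) * (τ * g₁ * τ⁻¹) = τ * (i⁻¹ * g₁) * τ⁻¹ := by group
      rw [← this]; rfl
    have e4 : (τ * (i⁻¹ * g₁) * τ⁻¹) (U.ε c') = τ ((i⁻¹ * g₁) (τ.symm (U.ε c'))) := rfl
    have e5 : (i⁻¹ : M ≃ₗ[k] M) (g₁ (U.ε c)) = ((τ * i⁻¹ * τ⁻¹) * j0) (g₁ (U.ε c)) :=
      congrArg (fun x : M ≃ₗ[k] M => x (g₁ (U.ε c))) hji
    rw [e1, e5, e2, hc', e3, e4, T.e']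
    exact LinearEquiv.symm_apply_apply _ _
  intro z
  have hz : z ∈ Submonoid.powers (z0⁻¹) := by
    have h3 : z ∈ Subgroup.zpowers (z0⁻¹) := by
      rw [Subgroup.zpowers_inv]; exact hz0 z
    rwa [← mem_powers_iff_mem_zpowers] at h3
  obtain ⟨n, rfl⟩ := hz
  simp only [map_pow, map_inv]
  induction n with
  | zero => intro c; exact ⟨c, by rw [pow_zero]; rfl⟩
  | succ n ih =>
    intro c
    obtain ⟨c', hc'⟩ := hgen c
    obtain ⟨c'', hc''⟩ := ih c'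
    refine ⟨c'', ?_⟩
    rw [pow_succ]
    have e1 : ((U.t z0)⁻¹ ^ n * (U.t z0)⁻¹) ((i⁻¹ * g₁) (U.ε c)) =
      ((U.t z0)⁻¹ ^ n) ((U.t z0)⁻¹ ((i⁻¹ * g₁) (U.ε c))) := rfl
    rw [e1, hc', hc'']

omit [CharP k 2] in
/-- decomposition `M = e + (e^⊥ ∩ (g e)^⊥) + g e`. -/
theorem Opp.decomp {g : M ≃ₗ[k] M} {δ : k} (h : U.Opp g δ) (m : M) :
    ∃ a w, m = U.ε a + w + U.v g δ (U.B m) ∧ U.B w = 0 ∧ ∀ s, U.f (U.v g δ s) w = 0 := by
  set w := m - δ⁻¹ • U.n (U.cn g m) - δ⁻¹ • U.cn g (U.n m) with hw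
  have h1 : U.n w = 0 := by
    rw [hw, map_sub, map_sub, map_smul, map_smul, U.n_n, smul_zero, sub_zero, h.ncn, smul_smul,
      inv_mul_cancel₀ h.ne, one_smul, sub_self]
  have h2 : U.cn g w = 0 := by
    rw [hw, map_sub, map_sub, map_smul, map_smul, h.cnc, U.cn_cn, smul_zero, sub_zero, smul_smul,
      inv_mul_cancel₀ h.ne, one_smul, sub_self]
  have hBw : U.B w = 0 := by
    rw [U.n_apply] at h1
    exact U.ε_inj (by rw [h1, map_zero])
  refine ⟨δ⁻¹ • U.B (U.cn g m), w, ?_, hBw, ?_⟩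
  · have h3 : U.ε (δ⁻¹ • U.B (U.cn g m)) = δ⁻¹ • U.n (U.cn g m) := by rw [map_smul]; rfl
    have h4 : U.v g δ (U.B m) = δ⁻¹ • U.cn g (U.n m) := rfl
    rw [h3, h4, hw]; abel
  · intro s
    obtain ⟨c, hc⟩ := h.v_eq_g s
    rw [hc, U.f_left h.mem, U.fe]
    have h3 : U.B (g.symm w) = 0 := by
      rw [U.cn_apply] at h2
      apply U.ε_inj
      apply g.injective
      rw [h2, map_zero, map_zero]
    rw [h3, map_zero, mul_zero, map_zero]

variable (U) in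
include U in
/-- **Output of sections 1-3.** -/
theorem exists_v [Finite M] [IsScalarTower k F Φ] : ∃ g0 ∈ U.H, ∃ v : F →ₗ[k] M,
    (∀ s, U.B (v s) = s) ∧ (∀ s, ∃ s', g0 (U.ε s) = v s') ∧
    (∀ s, ∃ s', v s = g0 (U.ε s')) ∧
    (∀ s s', U.f (v s) (v s') = 0) ∧
    (∀ (z : Fˣ) s, U.t z (v s) = v ((z : F) ^ 2 * s)) ∧
    (∀ b : k, ∃ w ∈ U.H, (∀ a, w (U.ε a) = U.ε a + b • v a) ∧ (∀ s, w (v s) = v s) ∧
      ∀ u, (∀ s, U.f (v s) u = 0) → w u = u) ∧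
    (∀ g ∈ U.H, (∀ c, U.B (g (U.ε c)) = 0 → c = 0) →
      ∃ j ∈ U.J, ∀ s, ∃ s', j (v s) = g (U.ε s')) ∧
    (∀ m, ∃ a w, m = U.ε a + w + v (U.B m) ∧ U.B w = 0 ∧ ∀ s, U.f (v s) w = 0) := by
  obtain ⟨g, δ, h, hfix⟩ := exists_fix (U := U)
  refine ⟨g, h.mem, U.v g δ, h.B_v, fun s => ⟨_, h.g_eq_v s⟩, h.v_eq_g, h.f_v_v, ?_,
    h.exists_w, ?_, h.decomp⟩
  · intro z s
    obtain ⟨c, hc⟩ := h.v_eq_g s
    obtain ⟨c', hc'⟩ := hfix z c
    have h1 : U.t z (U.v g δ s) = U.v g δ (U.L g c') := by rw [hc, hc', h.g_eq_v]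
    have h2 := U.tB z (U.v g δ s)
    rw [h.B_v, h1, h.B_v] at h2
    rw [h1, h2]
  · intro g' hg' hop
    obtain ⟨δ', h'⟩ := U.exists_δ hg' hop
    obtain ⟨j, hj, hjj⟩ := Opp.trans h h'
    refine ⟨j, hj, fun s => ?_⟩
    obtain ⟨c, hc⟩ := h.v_eq_g s
    rw [hc]
    exact hjj c

end

end Uni

end Cfsg.Agent.Omega.NOne.SU

end
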