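import Cfsg.Agent.Mrg.Omega.NOne.SU.Defs
import Cfsg.Agent.Mrg.Omega.NOne.SU.Basic
import Cfsg.Agent.Mrg.Omega.NOne.SU.Grp1


/-!
# THEOREM UNI: first consequences of the output `Out`

* `g_add_right`, `g_smul_right`, `g_nondeg`, `ext_tr`;
* `tv` : `v 0 0 d` acts as the transvection `m ↦ m + d g(m, e₀) e₀`;
* `rho c : W → W` : the action of `c ∈ N_G(R)` on `W = Q/R`.
-/

set_option autoImplicit false
set_option linter.unusedSectionVars false

open Subgroup

namespace Cfsg.Agent.Omega.NOne.SU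

variable {G : Type*} [Group G] {k F : Type*} [Field k] [Field F] [Algebra k F]

namespace Out

variable {T : Quad k F} {V R Q Q' : Subgroup G} {v : k → F → k → G} {p : G → F}
    {Φ : Type*} [AddCommGroup Φ] [Module F Φ] {φ χ : G → Φ} {hm : Φ → Φ → F}
    {W : Type*} [AddCommGroup W] [Module F W] {w : G → W} {g : W → W → F} {f₀ : W}
    {ι : Φ →ₗ[F] W} (D : Out T V R Q Q' v p φ χ hm w g f₀ ι)
include D

/-! ### The form -/

theorem g_zero_left (u : W) : g 0 u = 0 := by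
  have := D.g_smul 0 0 u
  rwa [zero_smul, zero_mul] at this

theorem g_add_right (u m m' : W) : g u (m + m') = g u m + g u m' := by
  rw [D.g_sym (m + m') u, D.g_add, map_add, ← D.g_sym, ← D.g_sym]

theorem g_smul_right (s : F) (u m : W) : g u (s • m) = T.sg s * g u m := by
  rw [D.g_sym (s • m) u, D.g_smul, map_mul, ← D.g_sym]

theorem g_zero_right (u : W) : g u 0 = 0 := by
  rw [D.g_sym 0 u, D.g_zero_left, map_zero]

theorem g_neg_left (m u : W) : g (-m) u = - g m u := by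
  have := D.g_smul (-1) m u
  rwa [neg_one_smul, neg_one_mul] at this

theorem g_sub_left (m m' u : W) : g (m - m') u = g m u - g m' u := by
  rw [sub_eq_add_neg, D.g_add, D.g_neg_left, ← sub_eq_add_neg]

theorem g_fe : g f₀ (w (v 0 1 0)) = 1 := by
  rw [D.g_sym (w (v 0 1 0)) f₀, D.g_ef, map_one]

theorem g_ιe (x : Φ) : g (ι x) (w (v 0 1 0)) = 0 := by
  rw [D.g_sym (w (v 0 1 0)) (ι x), D.g_eι, map_zero]

theorem g_ιf (x : Φ) : g (ι x) f₀ = 0 := by
  rw [D.g_sym f₀ (ι x), D.g_fι, map_zero]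

/-- the decomposition of a vector -/
theorem decomp (m : W) : ∃ x : Φ, m = g m f₀ • w (v 0 1 0) + ι x + g m (w (v 0 1 0)) • f₀ := by
  obtain ⟨a, x, b, hm⟩ := D.span m
  have h1 : g m f₀ = a := by
    rw [hm, D.g_add, D.g_add, D.g_smul, D.g_smul, D.g_ef, D.g_ιf, D.g_ff]; ring
  have h2 : g m (w (v 0 1 0)) = b := by
    rw [hm, D.g_add, D.g_add, D.g_smul, D.g_smul, D.g_ee, D.g_ιe, D.g_fe]; ring
  exact ⟨x, by rw [h1, h2]; exact hm⟩

theorem g_nondeg (m : W) (h : ∀ u, g m u = 0) : m = 0 := by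
  obtain ⟨x, hx⟩ := D.decomp m
  have h1 : x = 0 := by
    apply D.hm_nondeg
    intro u
    have := h (ι u)
    rw [hx, h, h, zero_smul, zero_smul, zero_add, add_zero, D.g_ιι] at this
    exact this
  rw [hx, h, h, h1, map_zero, zero_smul, zero_smul, zero_add, zero_add]

theorem ext_tr [CharP k 2] {m m' : W} (h : ∀ u, T.tr (g m u) = T.tr (g m' u)) : m = m' := by
  rw [← sub_eq_zero]
  apply D.g_nondeg
  intro u
  rw [D.g_sub_left]
  apply T.tr_nondeg
  intro c
  have h1 := h (T.sg c • u)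
  rw [D.g_smul_right, D.g_smul_right, T.sg_sg] at h1
  rw [mul_sub, map_sub, h1, sub_self]

theorem ι_inj {x : Φ} (h : ι x = 0) : x = 0 := by
  apply D.hm_nondeg
  intro u
  rw [← D.g_ιι, h, D.g_zero_left]

theorem e_ne : w (v 0 1 0) ≠ 0 := by
  intro h
  have := D.g_ef
  rw [h, D.g_zero_left] at this
  exact one_ne_zero this.symm

theorem f_ne : f₀ ≠ 0 := by
  intro h
  have := D.g_ef
  rw [h, D.g_zero_right] at this
  exact one_ne_zero this.symm

/-! ### The projection -/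

theorem w_one : w 1 = 0 := by
  have h1 := D.w_mul 1 (one_mem _) 1 (one_mem _)
  rw [mul_one] at h1
  exact left_eq_add.mp h1

theorem w_inv {x : G} (hx : x ∈ Q) : w x⁻¹ = - w x := by
  have h1 := D.w_mul x⁻¹ (inv_mem hx) x hx
  rw [inv_mul_cancel, D.w_one] at h1
  exact eq_neg_of_add_eq_zero_left h1.symm

theorem w_eq_iff {x y : G} (hx : x ∈ Q) (hy : y ∈ Q) : w x = w y ↔ x * y⁻¹ ∈ R := by
  rw [← D.w_eq _ (mul_mem hx (inv_mem hy)), D.w_mul _ hx _ (inv_mem hy), D.w_inv hy, ← sub_eq_add_neg,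
    sub_eq_zero]

/-- a representative in `Q` -/
theorem exists_rep (m : W) : ∃ x ∈ Q, w x = m := D.w_surj m

end Out

section gin

variable {T : Quad k F} {S : Sylow 2 G} {V R Q Q' : Subgroup G} {v : k → F → k → G} {p p' : G → F}

namespace GIn

variable (I : GIn T S V R Q Q' v p p')
include I

theorem v_R (a : k) : v a 0 0 ∈ R := I.sp.a_mem a

theorem R_Q : R ≤ Q := I.sp.le

theorem v_mul (a : k) (b : F) (d : k) (a' : k) (b' : F) (d' : k) :
    v a b d * v a' b' d' = v (a + a') (b + b') (d + d') := (I.v_add _ _ _ _ _ _).symm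

theorem v_ext {a : k} {b : F} {d a' : k} {b' : F} {d' : k} [CharP k 2] (h : v a b d = v a' b' d') :
    a = a' ∧ b = b' ∧ d = d' := by
  have h1 : v (a + a') (b + b') (d + d') = 1 := by
    rw [I.v_add, h, I.v_sq]
  obtain ⟨h2, h3, h4⟩ := I.v_inj _ _ _ h1
  refine ⟨CharTwo.add_eq_zero.1 h2, ?_, CharTwo.add_eq_zero.1 h4⟩
  have := T.two_F b'
  exact add_right_cancel (h3.trans this.symm)

theorem R_V : R ≤ V := by
  intro x hx
  obtain ⟨a, rfl⟩ := I.mem_R.1 hx
  exact I.v_mem _ _ _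

theorem V_CR : V ≤ centralizer (R : Set G) := by
  intro x hx
  rw [mem_centralizer_iff]
  intro y hy
  exact I.V_comm (I.R_V hy) hx

theorem Q_CR : Q ≤ centralizer (R : Set G) := by
  intro x hx
  rw [mem_centralizer_iff]
  intro y hy
  exact I.sp.cen y hy x hx

theorem CR_NR : centralizer (R : Set G) ≤ normalizer (R : Set G) := centralizer_le_normalizer _

theorem Q_NR : Q ≤ normalizer (R : Set G) := I.Q_CR.trans (centralizer_le_normalizer _)

theorem Q_NV : Q ≤ normalizer (V : Set G) := by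
  have key : ∀ y ∈ Q, ∀ x ∈ V, y * x * y⁻¹ ∈ V := by
    intro y hy x hx
    obtain ⟨a, b, d, rfl⟩ := I.v_surj x hx
    rw [I.act y hy]
    exact I.v_mem _ _ _
  intro y hy
  rw [mem_normalizer_iff]
  intro x
  refine ⟨key y hy x, fun h => ?_⟩
  have := key y⁻¹ (inv_mem hy) _ h
  simpa [mul_assoc] using this

theorem V_CV : V ≤ centralizer (V : Set G) := by
  intro x hx
  rw [mem_centralizer_iff]
  intro y hy
  exact I.V_comm hy hx

/-- `y ∈ Q` is determined on `V` by `p y` -/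
theorem mem_CV [CharP k 2] {y : G} (hy : y ∈ Q) : y ∈ centralizer (V : Set G) ↔ p y = 0 := by
  constructor
  · intro h
    rw [mem_centralizer_iff] at h
    have h1 := h _ (I.v_mem 0 0 1)
    have h2 : y * v 0 0 1 * y⁻¹ = v 0 0 1 := by rw [← h1]; group
    rw [I.act y hy] at h2
    have h3 := (I.v_ext h2).2.1
    simpa using h3
  · intro h
    rw [mem_centralizer_iff]
    intro x hx
    obtain ⟨a, b, d, rfl⟩ := I.v_surj x hx
    have h2 := I.act y hy a b d
    rw [h, map_zero, zero_mul, map_zero, zero_mul, add_zero, add_zero] at h2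
    have h3 : T.nm 0 = 0 := by
      apply T.alg_inj
      rw [T.nm_eq, zero_mul, map_zero]
    rw [h3, zero_mul, add_zero] at h2
    calc v a b d * y = (y * v a b d * y⁻¹) * y := by rw [h2]
      _ = y * v a b d := by group

end GIn

end gin

namespace Out

variable {T : Quad k F} {S : Sylow 2 G} {V R Q Q' : Subgroup G} {v : k → F → k → G} {p p' : G → F}
    {Φ : Type*} [AddCommGroup Φ] [Module F Φ] {φ χ : G → Φ} {hm : Φ → Φ → F}
    {W : Type*} [AddCommGroup W] [Module F W] {w : G → W} {g : W → W → F} {f₀ : W}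
    {ι : Φ →ₗ[F] W} (D : Out T V R Q Q' v p φ χ hm w g f₀ ι) (I : GIn T S V R Q Q' v p p')
include D I

theorem w_v (a : k) (b : F) : w (v a b 0) = b • w (v 0 1 0) := by
  have h1 : v a b 0 = v a 0 0 * v 0 b 0 := by
    rw [I.v_mul, add_zero, zero_add, add_zero]
  rw [h1, D.w_mul _ (I.E_le _ _) _ (I.E_le _ _), (D.w_eq _ (I.E_le _ _)).2 (I.v_R a), zero_add, D.w_e]

/-- **`v 0 0 d` acts on `W` as a transvection.** -/
theorem tv [CharP k 2] (d : k) {y : G} (hy : y ∈ Q) :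
    w (v 0 0 d * y * (v 0 0 d)⁻¹) = w y + (algebraMap k F d * g (w y) (w (v 0 1 0))) • w (v 0 1 0) := by
  have h1 : v 0 0 d * y * (v 0 0 d)⁻¹ = v (T.nm (p y) * d) (p y * algebraMap k F d) 0 * y := by
    have h2 := I.act y hy 0 0 d
    have h3 : v 0 0 d * y * (v 0 0 d)⁻¹ = v 0 0 d * (y * v 0 0 d * y⁻¹) * y := by
      rw [I.v_inv]; group
    rw [h3, h2, I.v_mul, CharTwo.add_self_eq_zero, mul_zero, map_zero]
    simp only [zero_add]
  rw [h1, D.w_mul _ (I.E_le _ _) _ hy, D.w_v I, ← D.p_eq y hy, mul_comm (p y), add_comm]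

/-! ### The action -/

open Classical in
/-- the action of `N_G(R)` on `W` -/
noncomputable def rho (_D : Out T V R Q Q' v p φ χ hm w g f₀ ι) (c : G) (m : W) : W :=
  w (c * (_D.w_surj m).choose * c⁻¹)

omit I in
theorem rho_def (c : G) (m : W) : ∃ x ∈ Q, w x = m ∧ D.rho c m = w (c * x * c⁻¹) :=
  ⟨_, (D.w_surj m).choose_spec.1, (D.w_surj m).choose_spec.2, rfl⟩

theorem rho_w {c : G} (hc : c ∈ normalizer (R : Set G)) {x : G} (hx : x ∈ Q) :
    D.rho c (w x) = w (c * x * c⁻¹) := by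
  obtain ⟨y, hy, h1, h2⟩ := D.rho_def c (w x)
  rw [h2, D.w_eq_iff (I.nor c hc y hy) (I.nor c hc x hx)]
  rw [D.w_eq_iff hy hx] at h1
  have h3 : c * y * c⁻¹ * (c * x * c⁻¹)⁻¹ = c * (y * x⁻¹) * c⁻¹ := by group
  rw [h3]
  exact (mem_normalizer_iff.1 hc _).1 h1

theorem rho_mul {c c' : G} (hc : c ∈ normalizer (R : Set G)) (hc' : c' ∈ normalizer (R : Set G)) (m : W) :
    D.rho (c * c') m = D.rho c (D.rho c' m) := by
  obtain ⟨x, hx, rfl⟩ := D.w_surj m
  rw [D.rho_w I (mul_mem hc hc') hx, D.rho_w I hc' hx, D.rho_w I hc (I.nor c' hc' x hx)]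
  congr 1
  group

theorem rho_one (m : W) : D.rho 1 m = m := by
  obtain ⟨x, hx, rfl⟩ := D.w_surj m
  rw [D.rho_w I (one_mem _) hx]
  congr 1
  group

theorem rho_add {c : G} (hc : c ∈ normalizer (R : Set G)) (m m' : W) :
    D.rho c (m + m') = D.rho c m + D.rho c m' := by
  obtain ⟨x, hx, rfl⟩ := D.w_surj m
  obtain ⟨y, hy, rfl⟩ := D.w_surj m'
  rw [← D.w_mul x hx y hy, D.rho_w I hc (mul_mem hx hy), D.rho_w I hc hx, D.rho_w I hc hy,
    ← D.w_mul _ (I.nor c hc x hx) _ (I.nor c hc y hy)]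
  congr 1
  group

theorem rho_inv_left {c : G} (hc : c ∈ normalizer (R : Set G)) (m : W) : D.rho c⁻¹ (D.rho c m) = m := by
  rw [← D.rho_mul I (inv_mem hc) hc, inv_mul_cancel, D.rho_one I]

theorem rho_inv_right {c : G} (hc : c ∈ normalizer (R : Set G)) (m : W) : D.rho c (D.rho c⁻¹ m) = m := by
  rw [← D.rho_mul I hc (inv_mem hc), mul_inv_cancel, D.rho_one I]

theorem rho_zero {c : G} (hc : c ∈ normalizer (R : Set G)) : D.rho c 0 = 0 := by
  have := D.rho_add I hc 0 0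
  rw [add_zero] at this
  exact left_eq_add.mp this

theorem rho_surj {c : G} (hc : c ∈ normalizer (R : Set G)) (m : W) : ∃ m', D.rho c m' = m :=
  ⟨_, D.rho_inv_right I hc m⟩

theorem mem_Q_of_rho {c : G} (hc : c ∈ normalizer (R : Set G)) (h : ∀ m, D.rho c m = m) : c ∈ Q := by
  apply D.ker c hc
  intro x hx
  rw [← D.rho_w I hc hx, h]

theorem rho_Q {y : G} (hy : y ∈ Q) (m : W) : D.rho y m = m := by
  obtain ⟨x, hx, rfl⟩ := D.w_surj m
  rw [D.rho_w I (I.Q_NR hy) hx, D.w_eq_iff (I.nor y (I.Q_NR hy) x hx) hx]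
  exact I.sp.comm y hy x hx

theorem rho_tv [CharP k 2] (d : k) (m : W) :
    D.rho (v 0 0 d) m = m + (algebraMap k F d * g m (w (v 0 1 0))) • w (v 0 1 0) := by
  obtain ⟨x, hx, rfl⟩ := D.w_surj m
  rw [D.rho_w I (I.CR_NR (I.V_CR (I.v_mem _ _ _))) hx, D.tv I d hx]

/-- the commutator form under the action of `N_G(R)` -/
theorem comm_rho {c : G} (hc : c ∈ normalizer (R : Set G)) (m m' : W) :
    v (T.tr (g (D.rho c m) (D.rho c m'))) 0 0 = c * v (T.tr (g m m')) 0 0 * c⁻¹ := by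
  obtain ⟨x, hx, rfl⟩ := D.w_surj m
  obtain ⟨y, hy, rfl⟩ := D.w_surj m'
  rw [D.rho_w I hc hx, D.rho_w I hc hy, ← D.comm x hx y hy,
    ← D.comm _ (I.nor c hc x hx) _ (I.nor c hc y hy)]
  group

/-- elements of `C_G(R)` are isometries of `tr g` -/
theorem tr_rho [CharP k 2] {c : G} (hc : c ∈ centralizer (R : Set G)) (m m' : W) :
    T.tr (g (D.rho c m) (D.rho c m')) = T.tr (g m m') := by
  have h1 := D.comm_rho I (I.CR_NR hc) m m'
  have h2 : c * v (T.tr (g m m')) 0 0 * c⁻¹ = v (T.tr (g m m')) 0 0 := by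
    have := mem_centralizer_iff.1 hc _ (I.v_R (T.tr (g m m')))
    rw [← this]; group
  rw [h2] at h1
  exact (I.v_ext h1).1

/-- elements of `C_G(R)` are `k`-linear -/
theorem rho_smul_k [CharP k 2] {c : G} (hc : c ∈ centralizer (R : Set G)) (a : k) (m : W) :
    D.rho c (algebraMap k F a • m) = algebraMap k F a • D.rho c m := by
  have hN := I.CR_NR hc
  apply D.ext_tr
  intro u
  obtain ⟨u, rfl⟩ := D.rho_surj I hN u
  rw [D.tr_rho I hc, D.g_smul, D.g_smul, ← Algebra.smul_def, ← Algebra.smul_def, map_smul, map_smul,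
    D.tr_rho I hc]

end Out

end Cfsg.Agent.Omega.NOne.SU
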